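import Groth.Agent.SgaFix20.EssFree
import Groth.Agent.GrpSchLib.MultTypeBC

/-!
# Diagonalisable groups are of multiplicative type
-/

universe u

open CategoryTheory CategoryTheory.Limits AlgebraicGeometry

namespace Groth.Agent.SgaFix20

/-- A diagonalisable group is of multiplicative type. -/
theorem locally_DS (S : Scheme.{u}) (M : Type) [AddCommGroup M] :
    TwC.Locally S TwC.Topology.fpqc (fun S' g => ∃ (N : Type) (_ : AddCommGroup N),
      Nonempty (Grp.mk (Red.bc g (Red.DS S M)) ≅ Grp.mk (Red.DS S' N))) := by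
  refine ⟨S, 𝟙 S, inferInstance, inferInstance, fun V hV => ⟨V, hV.isCompact, by simp⟩, fun s => ⟨⊤, trivial, M, inferInstance, ?_⟩⟩
  exact GrpSchLib.MultTypeBC.bc_DS _ M

/-- A diagonalisable group with finitely generated character group is of multiplicative type and of finite type. -/
theorem isMultTypeFT_DS (S : Scheme.{u}) (M : Type) [AddCommGroup M] (hM : AddGroup.FG M) :
    SGA3x.IsMultTypeFT (Red.DS S M) := by
  refine ⟨S, 𝟙 S, inferInstance, inferInstance, fun V hV => ⟨V, hV.isCompact, by simp⟩, fun s => ⟨⊤, trivial, M, inferInstance, hM, ?_⟩⟩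
  exact GrpSchLib.MultTypeBC.bc_DS _ M

/-- Forgetting that a group of multiplicative type is of finite type. -/
theorem locally_of_isMultTypeFT {S : Scheme.{u}} {H : Over S} [GrpObj H] (hH : SGA3x.IsMultTypeFT H) :
    TwC.Locally S TwC.Topology.fpqc (fun S' g => ∃ (M : Type) (_ : AddCommGroup M),
      Nonempty (Grp.mk (Red.bc g H) ≅ Grp.mk (Red.DS S' M))) := by
  obtain ⟨S', f₀, h1, h2, h3, h4⟩ := hH
  refine ⟨S', f₀, h1, h2, h3, fun s' => ?_⟩
  obtain ⟨U, hU, M, iM, -, he⟩ := h4 s'
  exact ⟨U, hU, M, iM, he⟩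

end Groth.Agent.SgaFix20
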