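import Groth.Agent.GrpSchLib.HomSplitLocal
import Groth.Agent.S3036
import Groth.Agent.GrpSchLib.MultTypeLft
import Groth.Agent.GrpSchLib.MultTypeBC
import Mathlib.AlgebraicGeometry.ZariskisMainTheorem
import Mathlib.AlgebraicGeometry.ValuativeCriterion

/-!
# Monomorphisms of diagonalisable groups into separated groups of finite type are closed immersions

The valuative criterion.  If the value `χ(m₀)` of a `K`-point `χ` with integral image `g` is `1/π`, infinitely many powers
of `g` specialise into one affine open `V`; over `K` the monomorphism is a closed immersion, so the monomial `m₀` is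
the restriction of a function on `V_K`, whose values at the powers of `g` have bounded denominators, unlike `π⁻ⁿ`.
-/

universe u

open CategoryTheory CategoryTheory.Limits MonoidalCategory CartesianMonoidalCategory MonObj AlgebraicGeometry TensorProduct

set_option backward.isDefEq.respectTransparency false
set_option linter.style.haveILetI false

namespace Groth.Agent.SgaFix20.DSImmersion

open DSPtsLib (CoordM spU pt)

variable {S : Scheme.{u}} {M : Type} [AddCommGroup M]

/-- The character raised to a power. -/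
noncomputable def powChar {B : Type u} [CommRing B] (c : CoordM.{u} M →+* B) (n : ℕ) : CoordM.{u} M →+* B :=
  GrpSchLib.SubgroupFactor.pull (n • AddMonoidHom.id M) c

theorem powChar_single {B : Type u} [CommRing B] (c : CoordM.{u} M →+* B) (n : ℕ) (m : Multiplicative M) :
    powChar c n (MonoidAlgebra.single m 1) = c (MonoidAlgebra.single m 1) ^ n := by
  rw [powChar, GrpSchLib.SubgroupFactor.pull_single, ← map_pow, MonoidAlgebra.single_pow, _root_.one_pow]
  rfl

theorem isAffineHom_DS (S : Scheme.{u}) (M : Type) [AddCommGroup M] : IsAffineHom (Red.DS S M).hom :=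
  MorphismProperty.pullback_snd _ _
    (inferInstanceAs (IsAffineHom (Spec.map (CommRingCat.ofHom (algebraMap (ULift.{u} ℤ) (CoordM.{u} M))))))

theorem isDominant_of_injective {A B : Type u} [CommRing A] [CommRing B] (f : A →+* B) (hf : Function.Injective f) :
    IsDominant (Spec.map (CommRingCat.ofHom f)) :=
  ⟨(PrimeSpectrum.denseRange_comap_iff_ker_le_nilRadical f).mpr (by
    show RingHom.ker f ≤ _
    rw [(RingHom.injective_iff_ker_eq_bot f).mp hf]; exact bot_le)⟩

variable {G : Over S} [GrpObj G]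

/-- No point with non-integral coordinates has an integral image. -/
theorem core [AddGroup.FG M] [IsSeparated G.hom] [LocallyOfFiniteType G.hom] [QuasiCompact G.hom]
    (u : Red.DS S M ⟶ G) [IsMonHom u] [Mono u]
    {W : Type u} [CommRing W] [IsDomain W] [IsLocalRing W] {K : Type u} [Field K] [Algebra W K] [IsFractionRing W K]
    (β : Spec (CommRingCat.of W) ⟶ S) (g : spU β ⟶ G) (c : CoordM.{u} M →+* K)
    (hg : (pt (Spec.map (CommRingCat.ofHom (algebraMap W K)) ≫ β) c).left ≫ u.left =
      Spec.map (CommRingCat.ofHom (algebraMap W K)) ≫ g.left)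
    (π : W) (_hπ : π ≠ 0) (hsep : ∀ w : W, w ≠ 0 → ∃ n, ¬ π ^ n ∣ w)
    (m₀ : Multiplicative M) (hm₀ : c (MonoidAlgebra.single m₀ 1) * algebraMap W K π = 1) : False := by
  classical
  let j : Spec (CommRingCat.of K) ⟶ S := Spec.map (CommRingCat.ofHom (algebraMap W K)) ≫ β
  let r : spU j ⟶ spU β := Over.homMk (Spec.map (CommRingCat.ofHom (algebraMap W K))) rfl
  have hgu : pt j c ≫ u = r ≫ g := Over.OverMorphism.ext hg
  have hpow : ∀ n, pt j (powChar c n) ≫ u = r ≫ (g ^ n) := fun n => by
    induction n with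
    | zero =>
      rw [GrpSchLib.HomMonoLocus.pt_one j (powChar c 0) fun m => by rw [powChar_single, pow_zero],
        pow_zero g, MonObj.one_comp, MonObj.comp_one]
    | succ n ih =>
      rw [← DSPtsLib.pt_mul j (powChar c n) c (powChar c (n + 1)) fun m => by
          rw [powChar_single, powChar_single, pow_succ],
        MonObj.mul_comp, ih, hgu, pow_succ g n, MonObj.comp_mul]
  -- an affine open containing the specialisations of infinitely many powers
  let cp : Spec (CommRingCat.of W) := IsLocalRing.closedPoint W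
  obtain ⟨V₀, hV₀, hcp, -⟩ := exists_isAffineOpen_mem_and_subset (show β cp ∈ (⊤ : S.Opens) from trivial)
  have hGc : IsCompact ((G.hom ⁻¹ᵁ V₀ : G.left.Opens) : Set G.left) :=
    G.hom.isCompact_preimage hV₀.isCompact
  have hcov : ∀ x : ↥(G.hom ⁻¹ᵁ V₀), ∃ V : G.left.Opens, IsAffineOpen V ∧ (x : G.left) ∈ V ∧ V ≤ G.hom ⁻¹ᵁ V₀ :=
    fun x => by
      obtain ⟨V, hV, hxV, hle⟩ := exists_isAffineOpen_mem_and_subset (show (x : G.left) ∈ G.hom ⁻¹ᵁ V₀ from x.2)
      exact ⟨V, hV, hxV, hle⟩
  choose V hVa hxV hVle using hcov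
  obtain ⟨T₀, hT₀⟩ := hGc.elim_finite_subcover (fun x => (V x : Set G.left)) (fun x => (V x).2)
    fun x hx => Set.mem_iUnion.mpr ⟨⟨x, hx⟩, hxV _⟩
  have hmem : ∀ n : ℕ, ∃ x ∈ T₀, (g ^ n).left cp ∈ V x := fun n => by
    have h0 : (g ^ n).left cp ∈ G.hom ⁻¹ᵁ V₀ := by
      show G.hom ((g ^ n).left cp) ∈ V₀
      rw [← Scheme.Hom.comp_apply, Over.w (g ^ n)]
      exact hcp
    obtain ⟨x, hx, hx'⟩ := Set.mem_iUnion₂.mp (hT₀ h0)
    exact ⟨x, hx, hx'⟩
  choose xn hxnT hxn using hmem
  obtain ⟨x₀, hx₀⟩ := Finite.exists_infinite_fiber (fun n => (⟨xn n, hxnT n⟩ : T₀))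
  have hN : Set.Infinite ((fun n => (⟨xn n, hxnT n⟩ : T₀)) ⁻¹' {x₀}) := Set.infinite_coe_iff.mp hx₀
  have hall : ∀ {O : G.left.Opens} (p : Spec (CommRingCat.of W) ⟶ G.left), p cp ∈ O → ∀ r, p r ∈ O :=
    fun {O} p hp r => (IsLocalRing.specializes_closedPoint r).map p.continuous |>.mem_open O.2 hp
  set O := V x₀.1 with hOdef
  have hgood : ∀ n ∈ (fun n => (⟨xn n, hxnT n⟩ : T₀)) ⁻¹' {x₀}, ∀ r, (g ^ n).left r ∈ O := fun n hn r => by
    refine hall (g ^ n).left ?_ r
    have : xn n = x₀.1 := congrArg Subtype.val hn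
    rw [hOdef, ← this]
    exact hxn n
  -- the base change of the affine open to the field
  have hO : IsAffineOpen O := hVa _
  let τW : Γ(S, V₀) ⟶ CommRingCat.of W := Spec.preimage (IsOpenImmersion.lift hV₀.fromSpec β (by
    rintro _ ⟨r, rfl⟩
    rw [hV₀.range_fromSpec]
    exact (IsLocalRing.specializes_closedPoint r).map β.continuous |>.mem_open V₀.2 hcp))
  have hτW : Spec.map τW ≫ hV₀.fromSpec = β := by rw [Spec.map_preimage, IsOpenImmersion.lift_fac]
  letI : Algebra Γ(S, V₀) K := ((algebraMap W K).comp τW.hom).toAlgebra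
  letI : Algebra Γ(S, V₀) Γ(G.left, O) := (G.hom.appLE V₀ O (hVle _)).hom.toAlgebra
  let B := Γ(G.left, O) ⊗[Γ(S, V₀)] K
  let inl : Γ(G.left, O) →+* B := Algebra.TensorProduct.includeLeftRingHom
  let inr : K →+* B := (Algebra.TensorProduct.includeRight : K →ₐ[Γ(S, V₀)] B).toRingHom
  let ρ : Spec (CommRingCat.of B) ⟶ G.left := Spec.map (CommRingCat.ofHom inl) ≫ hO.fromSpec
  have hρ : ρ ≫ G.hom = Spec.map (CommRingCat.ofHom inr) ≫ j := by
    show (_ ≫ _) ≫ _ = _ ≫ _ ≫ _
    rw [Category.assoc, ← IsAffineOpen.SpecMap_appLE_fromSpec G.hom hV₀ hO (hVle _), ← hτW,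
      ← Spec.map_comp_assoc, ← Spec.map_comp_assoc, ← Spec.map_comp_assoc]
    congr 2
    refine CommRingCat.hom_ext (RingHom.ext fun v => ?_)
    exact ((Algebra.TensorProduct.includeRight : K →ₐ[Γ(S, V₀)] B).commutes v).symm
  -- over the field the monomorphism is a closed immersion
  have hu : IsClosedImmersion ((Over.pullback j).map u).left := by
    haveI : (Over.pullback j).PreservesMonomorphisms :=
      Functor.preservesMonomorphisms_of_adjunction (Over.mapPullbackAdj j)
    haveI : LocallyOfFiniteType (Red.DS S M).hom :=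
      GrpSchLib.MultTypeLft.lft ⟨S, 𝟙 S, inferInstance, inferInstance, fun V hV => ⟨V, hV.isCompact, by simp⟩,
        fun s => ⟨⊤, trivial, M, inferInstance, ‹_›, GrpSchLib.MultTypeBC.bc_DS _ M⟩⟩
    haveI : LocallyOfFiniteType (Red.bc j (Red.DS S M)).hom :=
      inferInstanceAs (LocallyOfFiniteType (pullback.snd (Red.DS S M).hom j))
    haveI : LocallyOfFiniteType (Red.bc j G).hom := inferInstanceAs (LocallyOfFiniteType (pullback.snd G.hom j))
    haveI : IsAffineHom (Red.DS S M).hom := isAffineHom_DS S M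
    haveI : IsSeparated (Red.bc j G).hom := inferInstanceAs (IsSeparated (pullback.snd G.hom j))
    haveI : QuasiCompact (((Over.pullback j).map u).left ≫ (Red.bc j G).hom) := by
      rw [Over.w]
      exact inferInstanceAs (QuasiCompact (pullback.snd (Red.DS S M).hom j))
    haveI : QuasiCompact ((Over.pullback j).map u).left := QuasiCompact.of_comp _ (Red.bc j G).hom
    haveI : IsMonHom ((Over.pullback j).map u) := inferInstance
    exact Groth.Agent.S3036.result K _ _ ((Over.pullback j).map u)
  haveI : IsClosedImmersion (pullback.snd u.left ρ) := by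
    let ρ' : Spec (CommRingCat.of B) ⟶ pullback G.hom j := pullback.lift ρ _ hρ
    haveI : IsClosedImmersion (pullback.snd ((Over.pullback j).map u).left ρ') :=
      MorphismProperty.pullback_snd _ _ hu
    rw [show ρ = ρ' ≫ pullback.fst G.hom j from (pullback.lift_fst _ _ _).symm]
    have h2 := (IsPullback.of_hasPullback ((Over.pullback j).map u).left ρ').paste_horiz
      (GrpSchLib.HomSplitLocal.isPullback_map u j)
    rw [← h2.isoPullback_inv_snd]
    infer_instance
  obtain ⟨I, e, he⟩ := (IsClosedImmersion.Spec_iff (f := pullback.snd u.left ρ)).mp inferInstance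
  -- a function on the base change restricting to the monomial
  let κ : CoordM.{u} M →+* B ⧸ I := (Spec.preimage (e.inv ≫ pullback.fst u.left ρ ≫ pullback.fst _ _)).hom
  obtain ⟨z, hz⟩ := Ideal.Quotient.mk_surjective (κ (MonoidAlgebra.single m₀ 1))
  -- its values at the powers
  have hval : ∀ n ∈ (fun n => (⟨xn n, hxnT n⟩ : T₀)) ⁻¹' {x₀}, ∃ σ : B →+* K,
      (∀ v, σ (inl v) ∈ (algebraMap W K).range) ∧ (∀ k, σ (inr k) = k) ∧
        σ z = c (MonoidAlgebra.single m₀ 1) ^ n := by
    intro n hn
    let εn : Γ(G.left, O) ⟶ CommRingCat.of W := Spec.preimage (IsOpenImmersion.lift hO.fromSpec (g ^ n).left (by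
      rintro _ ⟨r, rfl⟩; rw [hO.range_fromSpec]; exact hgood n hn r))
    have hεn : Spec.map εn ≫ hO.fromSpec = (g ^ n).left := by rw [Spec.map_preimage, IsOpenImmersion.lift_fac]
    have hεlin : G.hom.appLE V₀ O (hVle _) ≫ εn = τW := by
      apply Spec.map_injective
      rw [← cancel_mono hV₀.fromSpec, Spec.map_comp, Category.assoc,
        IsAffineOpen.SpecMap_appLE_fromSpec G.hom hV₀ hO (hVle _), reassoc_of% hεn, Over.w (g ^ n), hτW]
      rfl
    let el : Γ(G.left, O) →ₐ[Γ(S, V₀)] K :=
      { (algebraMap W K).comp εn.hom with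
        commutes' := fun v => congrArg (algebraMap W K) (RingHom.congr_fun (congrArg CommRingCat.Hom.hom hεlin) v) }
    let σ : B →ₐ[Γ(S, V₀)] K := Algebra.TensorProduct.lift el (AlgHom.id _ K) fun _ _ => Commute.all _ _
    refine ⟨σ.toRingHom, fun v => ⟨εn.hom v, ?_⟩, fun k => ?_, ?_⟩
    · show _ = σ (v ⊗ₜ[Γ(S, V₀)] (1 : K))
      rw [Algebra.TensorProduct.lift_tmul, map_one, _root_.mul_one]
      rfl
    · show σ ((1 : Γ(G.left, O)) ⊗ₜ[Γ(S, V₀)] k) = k
      rw [Algebra.TensorProduct.lift_tmul, map_one, _root_.one_mul]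
      rfl
    · have hfac : (pt j (powChar c n)).left ≫ u.left = Spec.map (CommRingCat.ofHom σ.toRingHom) ≫ ρ := by
        rw [← Over.comp_left, hpow, Over.comp_left, ← hεn]
        show Spec.map _ ≫ Spec.map εn ≫ hO.fromSpec = Spec.map _ ≫ Spec.map _ ≫ hO.fromSpec
        rw [← Spec.map_comp_assoc, ← Spec.map_comp_assoc]
        congr 2
        refine CommRingCat.hom_ext (RingHom.ext fun v => ?_)
        show algebraMap W K (εn.hom v) = σ (v ⊗ₜ[Γ(S, V₀)] (1 : K))
        rw [Algebra.TensorProduct.lift_tmul, map_one, _root_.mul_one]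
        rfl
      let l : Spec (CommRingCat.of K) ⟶ Spec (CommRingCat.of (B ⧸ I)) := pullback.lift _ _ hfac ≫ e.hom
      obtain ⟨ψ, hψ⟩ := Spec.map_surjective l
      have h1 : CommRingCat.ofHom (Ideal.Quotient.mk I) ≫ ψ = CommRingCat.ofHom σ.toRingHom := by
        apply Spec.map_injective
        rw [Spec.map_comp, hψ, Category.assoc, ← he, pullback.lift_snd]
      have h2 : CommRingCat.ofHom κ ≫ ψ = CommRingCat.ofHom (powChar c n) := by
        apply Spec.map_injective
        rw [Spec.map_comp, CommRingCat.ofHom_hom, Spec.map_preimage, hψ, Category.assoc, Iso.hom_inv_id_assoc,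
          pullback.lift_fst_assoc, DSPtsLib.pt_fst]
      have a1 := RingHom.congr_fun (congrArg CommRingCat.Hom.hom h1) z
      have a2 := RingHom.congr_fun (congrArg CommRingCat.Hom.hom h2) (MonoidAlgebra.single m₀ 1)
      change ψ.hom (Ideal.Quotient.mk I z) = σ z at a1
      change ψ.hom (κ (MonoidAlgebra.single m₀ 1)) = _ at a2
      rw [hz, a2] at a1
      exact a1.symm.trans (powChar_single c n m₀)
  -- bounded denominators
  have hden : ∀ z : B, ∃ w : W, w ≠ 0 ∧ ∀ σ : B →+* K, (∀ v, σ (inl v) ∈ (algebraMap W K).range) →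
      (∀ k, σ (inr k) = k) → algebraMap W K w * σ z ∈ (algebraMap W K).range := by
    intro z
    induction z using TensorProduct.induction_on with
    | zero => exact ⟨1, one_ne_zero, fun σ _ _ => by simp⟩
    | tmul v k =>
      obtain ⟨a, b, hb, hk⟩ := IsFractionRing.div_surjective (A := W) k
      refine ⟨b, nonZeroDivisors.ne_zero hb, fun σ h1 h2 => ?_⟩
      rw [show v ⊗ₜ[Γ(S, V₀)] k = inl v * inr k from by
        show _ = (v ⊗ₜ[Γ(S, V₀)] (1 : K)) * ((1 : Γ(G.left, O)) ⊗ₜ[Γ(S, V₀)] k)
        rw [Algebra.TensorProduct.tmul_mul_tmul, _root_.mul_one, _root_.one_mul]]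
      rw [map_mul, h2, mul_left_comm, ← hk, mul_div_cancel₀ _
        ((map_ne_zero_iff _ (IsFractionRing.injective W K)).mpr (nonZeroDivisors.ne_zero hb))]
      exact Subring.mul_mem _ (h1 v) ⟨a, rfl⟩
    | add p q hp hq =>
      obtain ⟨a, ha, ha'⟩ := hp
      obtain ⟨b, hb, hb'⟩ := hq
      refine ⟨a * b, mul_ne_zero ha hb, fun σ h1 h2 => ?_⟩
      rw [map_mul, map_add, mul_add]
      refine Subring.add_mem _ ?_ ?_
      · rw [mul_right_comm]; exact Subring.mul_mem _ (ha' σ h1 h2) ⟨b, rfl⟩
      · rw [_root_.mul_assoc]; exact Subring.mul_mem _ ⟨a, rfl⟩ (hb' σ h1 h2)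
  obtain ⟨w, hw, hw'⟩ := hden z
  obtain ⟨N, hN'⟩ := hsep w hw
  obtain ⟨n, hn, hNn⟩ := hN.exists_gt N
  obtain ⟨σ, h1, h2, h3⟩ := hval n hn
  obtain ⟨y, hy⟩ := hw' σ h1 h2
  refine hN' ((pow_dvd_pow π hNn.le).trans ⟨y, ?_⟩)
  apply IsFractionRing.injective W K
  rw [map_mul, map_pow, hy, h3, mul_left_comm, ← mul_pow, mul_comm (algebraMap W K π), hm₀, _root_.one_pow,
    _root_.mul_one]

/-- A monomorphism out of a diagonalisable group of finite type into a separated group of finite type is a closed
immersion. -/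
theorem isClosedImmersion_of_mono [AddGroup.FG M] [IsSeparated G.hom] [LocallyOfFiniteType G.hom] [QuasiCompact G.hom]
    (u : Red.DS S M ⟶ G) [IsMonHom u] [Mono u] : IsClosedImmersion u.left := by
  classical
  haveI : IsAffineHom (Red.DS S M).hom := isAffineHom_DS S M
  haveI : LocallyOfFiniteType (Red.DS S M).hom :=
    GrpSchLib.MultTypeLft.lft ⟨S, 𝟙 S, inferInstance, inferInstance, fun V hV => ⟨V, hV.isCompact, by simp⟩,
      fun s => ⟨⊤, trivial, M, inferInstance, ‹_›, GrpSchLib.MultTypeBC.bc_DS _ M⟩⟩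
  haveI : QuasiCompact (u.left ≫ G.hom) := by rw [Over.w u]; infer_instance
  haveI : QuasiCompact u.left := QuasiCompact.of_comp _ G.hom
  haveI : LocallyOfFiniteType (u.left ≫ G.hom) := by rw [Over.w u]; infer_instance
  haveI : LocallyOfFiniteType u.left := locallyOfFiniteType_of_comp u.left G.hom
  haveI : IsSeparated (u.left ≫ G.hom) := by rw [Over.w u]; infer_instance
  haveI : IsSeparated u.left := IsSeparated.of_comp u.left G.hom
  haveI : Mono u.left := Over.mono_left_of_mono u
  suffices h : ValuativeCriterion.Existence u.left by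
    haveI := UniversallyClosed.of_valuativeCriterion u.left h
    exact (IsClosedImmersion.iff_isProper_and_mono u.left).mpr ⟨⟨⟩, inferInstance⟩
  rintro ⟨R, K, i₁, i₂, ⟨hsq⟩⟩
  let β : Spec (CommRingCat.of R) ⟶ S := i₂ ≫ G.hom
  let g : spU β ⟶ G := Over.homMk i₂ rfl
  let j : Spec (CommRingCat.of K) ⟶ S := Spec.map (CommRingCat.ofHom (algebraMap R K)) ≫ β
  obtain ⟨c, hc⟩ := DSPtsLib.exists_eq_pt j (Over.homMk i₁ (by
    show i₁ ≫ (Red.DS S M).hom = _ ≫ i₂ ≫ G.hom
    rw [← Category.assoc _ i₂, ← hsq, Category.assoc, Over.w u]) : spU j ⟶ Red.DS S M)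
  have hc' : i₁ = (pt j c).left := congrArg (fun m => Over.Hom.left m) hc
  -- the coordinates are integral
  have hint : ∀ m : Multiplicative M, c (MonoidAlgebra.single m 1) ∈ (algebraMap R K).range := by
    by_contra hne
    push Not at hne
    obtain ⟨m₁, hm₁⟩ := hne
    haveI : Group.FG (Multiplicative M) := GroupFG.iff_add_fg.mpr ‹_›
    obtain ⟨F, hF⟩ := (Group.FG.out : (⊤ : Subgroup (Multiplicative M)).FG)
    have hinv : ∀ m : Multiplicative M,
        c (MonoidAlgebra.single m 1) * c (MonoidAlgebra.single m⁻¹ 1) = 1 := fun m => by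
      rw [← map_mul, MonoidAlgebra.single_mul_single, mul_inv_cancel, _root_.mul_one]
      exact map_one c
    -- for every element the coordinate or its inverse is integral
    have hor : ∀ m : Multiplicative M, ∃ m' : Multiplicative M, (m' = m ∨ m' = m⁻¹) ∧
        ∃ r : R, algebraMap R K r = c (MonoidAlgebra.single m' 1) := fun m => by
      rcases ValuationRing.isInteger_or_isInteger R (c (MonoidAlgebra.single m 1)) with h | h
      · exact ⟨m, .inl rfl, h⟩
      · refine ⟨m⁻¹, .inr rfl, ?_⟩
        rwa [inv_eq_of_mul_eq_one_right (hinv m)] at h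
    choose m' hm' r hr using hor
    have hr0 : ∀ m, r m ≠ 0 := fun m h => by
      have h2 := hinv (m' m)
      rw [← hr m, h, map_zero, zero_mul] at h2
      exact zero_ne_one h2
    have hF' : F.Nonempty := by
      by_contra h
      rw [Finset.not_nonempty_iff_eq_empty] at h
      subst h
      rw [Finset.coe_empty, Subgroup.closure_empty] at hF
      have : m₁ = 1 := by
        have h1 : m₁ ∈ (⊥ : Subgroup (Multiplicative M)) := by rw [hF]; trivial
        exact Subgroup.mem_bot.mp h1
      subst this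
      exact hm₁ ⟨1, by rw [map_one]; exact (map_one c).symm⟩
    -- an element dividing into all of them
    obtain ⟨m₂, hm₂F, hm₂⟩ : ∃ m₂ ∈ F, ∀ m ∈ F, r m ∣ r m₂ := by
      clear hF
      induction hF' using Finset.Nonempty.cons_induction with
      | singleton a => exact ⟨a, Finset.mem_singleton_self a, fun m hm => by rw [Finset.mem_singleton.mp hm]⟩
      | cons a s ha hs ih =>
        obtain ⟨b, hb, hb'⟩ := ih
        rcases ValuationRing.dvd_total (r a) (r b) with h | h
        · exact ⟨b, Finset.mem_cons.mpr (.inr hb), fun m hm => by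
            rcases Finset.mem_cons.mp hm with rfl | hm
            · exact h
            · exact hb' m hm⟩
        · exact ⟨a, Finset.mem_cons_self a s, fun m hm => by
            rcases Finset.mem_cons.mp hm with rfl | hm
            · exact dvd_rfl
            · exact (hb' m hm).trans h⟩
    have hπu : ¬ IsUnit (r m₂) := fun hu => hm₁ <| by
      let P : Subgroup (Multiplicative M) :=
        { carrier := {m | c (MonoidAlgebra.single m 1) ∈ (algebraMap R K).range ∧
            c (MonoidAlgebra.single m⁻¹ 1) ∈ (algebraMap R K).range}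
          one_mem' := ⟨⟨1, by rw [map_one]; exact (map_one c).symm⟩,
            ⟨1, by rw [inv_one, map_one]; exact (map_one c).symm⟩⟩
          mul_mem' := fun {a b} ha hb => ⟨by
            rw [← _root_.mul_one (1 : ULift.{u} ℤ), ← MonoidAlgebra.single_mul_single, map_mul]
            exact Subring.mul_mem _ ha.1 hb.1, by
            rw [mul_inv, ← _root_.mul_one (1 : ULift.{u} ℤ), ← MonoidAlgebra.single_mul_single, map_mul]
            exact Subring.mul_mem _ ha.2 hb.2⟩
          inv_mem' := fun {a} ha => ⟨ha.2, by rw [inv_inv]; exact ha.1⟩ }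
      have hle : (⊤ : Subgroup (Multiplicative M)) ≤ P := by
        rw [← hF, Subgroup.closure_le]
        intro m hm
        have hum : IsUnit (r m) := isUnit_of_dvd_unit (hm₂ m hm) hu
        have h2 : c (MonoidAlgebra.single (m' m)⁻¹ 1) ∈ (algebraMap R K).range := by
          refine ⟨↑hum.unit⁻¹, ?_⟩
          have := congrArg (algebraMap R K) hum.mul_val_inv
          rw [map_mul, hr, map_one] at this
          exact ((inv_eq_of_mul_eq_one_right this).symm.trans (inv_eq_of_mul_eq_one_right (hinv (m' m))))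
        rcases hm' m with h | h
        · exact ⟨⟨r m, (hr m).trans (by rw [h])⟩, by rw [h] at h2; exact h2⟩
        · exact ⟨by rw [h, inv_inv] at h2; exact h2, ⟨r m, (hr m).trans (by rw [h])⟩⟩
      exact (hle (Subgroup.mem_top m₁)).1
    set π := r m₂
    -- the largest prime avoiding it
    let q : Ideal R := ⨅ n : ℕ, Ideal.span {π ^ n}
    have hmemq : ∀ x, x ∈ q ↔ ∀ n, π ^ n ∣ x := fun x => by
      simp only [q, Ideal.mem_iInf, Ideal.mem_span_singleton]
    have hnotq : π ∉ q := fun h => by
      obtain ⟨t, ht⟩ := (hmemq π).mp h 2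
      have : π * (π * t) = π * 1 := by rw [_root_.mul_one, ← _root_.mul_assoc, ← pow_two, ← ht]
      exact hπu (IsUnit.of_mul_eq_one t (mul_left_cancel₀ (hr0 m₂) this))
    haveI : q.IsPrime := by
      refine ⟨fun h => hnotq (h ▸ trivial), fun {a b} hab => ?_⟩
      by_contra hcon
      simp only [hmemq, not_or, not_forall] at hcon
      obtain ⟨⟨i, hi⟩, ⟨k, hk⟩⟩ := hcon
      obtain ⟨a', ha'⟩ := (ValuationRing.dvd_total (π ^ i) a).resolve_left hi
      obtain ⟨b', hb'⟩ := (ValuationRing.dvd_total (π ^ k) b).resolve_left hk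
      obtain ⟨t, ht⟩ := (hmemq _).mp hab (i + k + 1)
      have : π ^ (i + k) * (π * t * (a' * b')) = π ^ (i + k) * 1 := by
        calc π ^ (i + k) * (π * t * (a' * b')) = (π ^ (i + k + 1) * t) * (a' * b') := by ring
          _ = (a * a') * (b * b') := by rw [← ht]; ring
          _ = π ^ (i + k) * 1 := by rw [← ha', ← hb']; ring
      have hone := mul_left_cancel₀ (pow_ne_zero _ (hr0 m₂)) this
      exact hπu (IsUnit.of_mul_eq_one (t * (a' * b')) (by rw [← hone]; ring))
    -- every coordinate is a unit at this prime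
    let Rq := Localization.AtPrime q
    letI : Algebra Rq K := (IsLocalization.lift (M := q.primeCompl) (g := algebraMap R K) fun x =>
      (isUnit_iff_ne_zero.mpr ((map_ne_zero_iff _ (IsFractionRing.injective R K)).mpr
        fun h => x.2 (show (x : R) ∈ q by rw [h]; exact zero_mem q)))).toAlgebra
    have hRqK : ∀ x : R, algebraMap Rq K (algebraMap R Rq x) = algebraMap R K x := fun x => IsLocalization.lift_eq _ x
    have hrq : ∀ m ∈ F, r m ∉ q := fun m hm h => hnotq <| by
      obtain ⟨t, ht⟩ := hm₂ m hm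
      rw [ht]
      exact q.mul_mem_right t h
    let P : Subgroup (Multiplicative M) :=
      { carrier := {m | ∃ a : Rqˣ, algebraMap Rq K a = c (MonoidAlgebra.single m 1)}
        one_mem' := ⟨1, by rw [Units.val_one, map_one]; exact (map_one c).symm⟩
        mul_mem' := fun {a b} ⟨x, hx⟩ ⟨y, hy⟩ => ⟨x * y, by
          rw [Units.val_mul, map_mul, hx, hy, ← map_mul, MonoidAlgebra.single_mul_single, _root_.mul_one]⟩
        inv_mem' := fun {a} ⟨x, hx⟩ => ⟨x⁻¹, by
          rw [← inv_eq_of_mul_eq_one_right (hinv a), ← hx, map_units_inv]⟩ }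
    have hP : ∀ m, m ∈ P := by
      intro m
      refine (?_ : (⊤ : Subgroup (Multiplicative M)) ≤ P) (Subgroup.mem_top m)
      rw [← hF, Subgroup.closure_le]
      intro m hm
      obtain ⟨a, ha⟩ := IsLocalization.map_units Rq (⟨r m, hrq m hm⟩ : q.primeCompl)
      have h1 : m' m ∈ P := ⟨a, by rw [ha, hRqK, hr]⟩
      rcases hm' m with h | h
      · rw [h] at h1; exact h1
      · rw [h] at h1; exact inv_mem_iff.mp h1
    choose a ha using hP
    have hinjq : Function.Injective (algebraMap Rq K) := (IsLocalization.lift_injective_iff _).mpr fun x y => by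
      rw [(IsLocalization.injective Rq q.primeCompl_le_nonZeroDivisors).eq_iff,
        (IsFractionRing.injective R K).eq_iff]
    let cmon : Multiplicative M →* Rq :=
      { toFun := fun m => a m
        map_one' := hinjq (by rw [ha, map_one]; exact map_one c)
        map_mul' := fun x y => hinjq (by
          rw [map_mul, ha, ha, ha, ← map_mul, MonoidAlgebra.single_mul_single, _root_.mul_one]) }
    let cq : CoordM.{u} M →+* Rq := MonoidAlgebra.liftNCRingHom ((algebraMap ℤ Rq).comp ULift.ringEquiv.toRingHom)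
      cmon fun _ _ => Commute.all _ _
    have hcq : ∀ m, cq (MonoidAlgebra.single m 1) = a m := fun m => by
      show MonoidAlgebra.liftNCRingHom _ cmon _ _ = _
      rw [MonoidAlgebra.liftNCRingHom_single, map_one, _root_.one_mul]
      rfl
    have hcqK : (algebraMap Rq K).comp cq = c := GrpSchLib.DiagActionRigid.coord_ext fun m => by
      rw [RingHom.comp_apply, hcq, ha]
    -- the point over the local ring at the prime, and over its residue field
    let jq : Spec (CommRingCat.of Rq) ⟶ S := Spec.map (CommRingCat.ofHom (algebraMap R Rq)) ≫ β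
    haveI : IsDomain Rq := IsLocalization.isDomain_localization q.primeCompl_le_nonZeroDivisors
    haveI : IsScalarTower R Rq K := IsScalarTower.of_algebraMap_eq fun x => (hRqK x).symm
    haveI : IsDominant (Spec.map (CommRingCat.ofHom (algebraMap Rq K))) := isDominant_of_injective _ hinjq
    have hq : (pt jq cq).left ≫ u.left = Spec.map (CommRingCat.ofHom (algebraMap R Rq)) ≫ i₂ := by
      haveI : IsReduced (spU jq).left := inferInstanceAs (IsReduced (Spec (CommRingCat.of Rq)))
      refine ext_of_isDominant_of_isSeparated G.hom (by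
        rw [Category.assoc, Over.w u, Over.w (pt jq cq), Category.assoc]; rfl)
        (Spec.map (CommRingCat.ofHom (algebraMap Rq K))) ?_
      rw [← Category.assoc, ← Category.assoc,
        ← Spec.map_comp, ← CommRingCat.ofHom_comp, show (algebraMap Rq K).comp (algebraMap R Rq) = algebraMap R K from
          RingHom.ext hRqK, ← hsq, hc']
      congr 1
      refine pullback.hom_ext ?_ ?_
      · rw [Category.assoc, DSPtsLib.pt_fst, DSPtsLib.pt_fst, ← Spec.map_comp, ← CommRingCat.ofHom_comp, hcqK]
      · rw [Category.assoc]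
        erw [Over.w (pt jq cq), Over.w (pt j c)]
        show _ ≫ Spec.map _ ≫ β = Spec.map _ ≫ β
        rw [← Spec.map_comp_assoc, ← CommRingCat.ofHom_comp,
          show (algebraMap Rq K).comp (algebraMap R Rq) = algebraMap R K from RingHom.ext hRqK]
    haveI : IsLocalRing (R ⧸ q) := IsLocalRing.of_surjective' _ Ideal.Quotient.mk_surjective
    let βW : Spec (CommRingCat.of (R ⧸ q)) ⟶ S := Spec.map (CommRingCat.ofHom (Ideal.Quotient.mk q)) ≫ β
    let gW : spU βW ⟶ G := Over.homMk (Spec.map (CommRingCat.ofHom (Ideal.Quotient.mk q)) ≫ i₂) (Category.assoc _ _ _)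
    let σ : Rq →+* q.ResidueField := algebraMap Rq q.ResidueField
    have hσ : (algebraMap (R ⧸ q) q.ResidueField).comp (Ideal.Quotient.mk q) = σ.comp (algebraMap R Rq) := by
      rw [← Ideal.Quotient.algebraMap_eq, ← IsScalarTower.algebraMap_eq, ← IsScalarTower.algebraMap_eq]
    refine core u βW gW (σ.comp cq) ?_ (Ideal.Quotient.mk q π) (fun h => hnotq (Ideal.Quotient.eq_zero_iff_mem.mp h))
      ?_ (m' m₂)⁻¹ ?_
    · show _ = Spec.map _ ≫ Spec.map _ ≫ i₂
      rw [show Spec.map (CommRingCat.ofHom (algebraMap (R ⧸ q) q.ResidueField)) ≫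
          Spec.map (CommRingCat.ofHom (Ideal.Quotient.mk q)) ≫ i₂ =
            Spec.map (CommRingCat.ofHom σ) ≫ Spec.map (CommRingCat.ofHom (algebraMap R Rq)) ≫ i₂ from by
          rw [← Spec.map_comp_assoc, ← Spec.map_comp_assoc, ← CommRingCat.ofHom_comp, ← CommRingCat.ofHom_comp, hσ],
        ← hq, ← Category.assoc]
      exact congrArg (· ≫ u.left) (congrArg (fun m => Over.Hom.left m) (DSPtsLib.pt_comp jq cq σ _ (by
        show Spec.map _ ≫ Spec.map _ ≫ β = Spec.map _ ≫ Spec.map _ ≫ β
        rw [← Spec.map_comp_assoc, ← Spec.map_comp_assoc, ← CommRingCat.ofHom_comp, ← CommRingCat.ofHom_comp, hσ]))).symm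
    · intro w hw
      obtain ⟨x, rfl⟩ := Ideal.Quotient.mk_surjective w
      have hx : x ∉ q := fun h => hw (Ideal.Quotient.eq_zero_iff_mem.mpr h)
      rw [hmemq, not_forall] at hx
      obtain ⟨n, hn⟩ := hx
      refine ⟨n, fun ⟨t, ht⟩ => ?_⟩
      obtain ⟨t, rfl⟩ := Ideal.Quotient.mk_surjective t
      rw [← map_pow, ← map_mul, Ideal.Quotient.eq] at ht
      apply hn
      have := dvd_add ((hmemq _).mp ht n) (Dvd.intro t rfl)
      rwa [sub_add_cancel] at this
    · have h1 : algebraMap (R ⧸ q) q.ResidueField (Ideal.Quotient.mk q π) = σ (algebraMap R Rq π) :=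
        RingHom.congr_fun hσ π
      have hkey : cq (MonoidAlgebra.single (m' m₂)⁻¹ 1) * algebraMap R Rq π = 1 := hinjq (by
        rw [map_mul, map_one, hRqK, hr, hcq, ha, mul_comm]
        exact hinv (m' m₂))
      rw [RingHom.comp_apply, h1, ← map_mul, hkey, map_one]
  choose a ha using hint
  have hinj := IsFractionRing.injective R K
  let cmon : Multiplicative M →* R :=
    { toFun := a
      map_one' := hinj (by rw [map_one, ha]; exact map_one c)
      map_mul' := fun x y => hinj (by
        rw [map_mul, ha, ha, ha, ← map_mul, MonoidAlgebra.single_mul_single, _root_.mul_one]) }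
  let cR : CoordM.{u} M →+* R := MonoidAlgebra.liftNCRingHom ((algebraMap ℤ R).comp ULift.ringEquiv.toRingHom)
    cmon fun _ _ => Commute.all _ _
  have hcR : (algebraMap R K).comp cR = c := GrpSchLib.DiagActionRigid.coord_ext fun m => by
    rw [RingHom.comp_apply]
    show algebraMap R K (MonoidAlgebra.liftNCRingHom _ cmon _ _) = _
    rw [MonoidAlgebra.liftNCRingHom_single, map_one, _root_.one_mul]
    exact ha m
  have hup : Spec.map (CommRingCat.ofHom (algebraMap R K)) ≫ (pt β cR).left = i₁ := by
    rw [hc']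
    have := DSPtsLib.pt_comp β cR (algebraMap R K) j rfl
    rw [hcR] at this
    exact congrArg (fun m => Over.Hom.left m) this
  refine ⟨⟨⟨(pt β cR).left, hup, ?_⟩⟩⟩
  haveI : IsDominant (Spec.map (CommRingCat.ofHom (algebraMap R K))) := isDominant_of_injective _ hinj
  refine ext_of_isDominant_of_isSeparated G.hom (by rw [Category.assoc, Over.w u]; exact Over.w (pt β cR))
    (Spec.map (CommRingCat.ofHom (algebraMap R K))) ?_
  rw [← Category.assoc, hup]
  exact hsq

end Groth.Agent.SgaFix20.DSImmersion
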