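import Groth.Agent.SgaFix20.KerLocus
import Groth.Agent.SgaFix20.DSBasic
import Groth.Agent.SgaFix20.DSImmersion
import Groth.Agent.RedSub30.Quot
import Groth.Agent.FpqcDescLib.Group

/-!
# The image of a homomorphism out of a diagonalisable group
-/

universe u

open CategoryTheory CategoryTheory.Limits MonoidalCategory CartesianMonoidalCategory MonObj AlgebraicGeometry

set_option backward.isDefEq.respectTransparency false
set_option linter.style.haveILetI false
set_option synthInstance.maxHeartbeats 200000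
set_option maxHeartbeats 1000000

namespace Groth.Agent.SgaFix20

open DSPtsLib (theta theta_bijective theta_mul theta_comp)
open GrpSchLib.HomUnitLocus (theta_one theta_comp_map)

section

variable {U : Scheme.{u}} {A B C : Over U} [GrpObj A] [GrpObj B] [GrpObj C]

theorem comp_eq_of_ker_le (p : A ⟶ B) [IsMonHom p] (q : A ⟶ C) [IsMonHom q]
    (h : ∀ (T : Over U) (k : T ⟶ A), k ≫ p = 1 → k ≫ q = 1) (T : Over U) (a b : T ⟶ A) (e : a ≫ p = b ≫ p) :
    a ≫ q = b ≫ q := by
  have h1 := h T (a * b⁻¹) (by rw [MonObj.mul_comp, GrpObj.inv_comp, e, mul_inv_cancel])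
  rwa [MonObj.mul_comp, GrpObj.inv_comp, mul_inv_eq_one] at h1

theorem isMonHom_of_covers_comp (p : A ⟶ B) [IsMonHom p] (hp : FpqcDescLib.Covers p.left) (q : A ⟶ C) [IsMonHom q]
    (j : B ⟶ C) (hj : p ≫ j = q) : IsMonHom j := by
  refine ⟨?_, ?_⟩
  · rw [← IsMonHom.one_hom p, Category.assoc, hj, IsMonHom.one_hom q]
  · have h1 : Epi (p ▷ A) := (FpqcDescLib.covers_whiskerRight hp A).over_epi
    have h2 : Epi (B ◁ p) := (FpqcDescLib.covers_whiskerLeft hp B).over_epi
    haveI : Epi (p ⊗ₘ p) := by rw [MonoidalCategory.tensorHom_def]; exact epi_comp _ _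
    rw [← cancel_epi (p ⊗ₘ p), ← Category.assoc, ← IsMonHom.mul_hom p, Category.assoc, hj, IsMonHom.mul_hom q,
      tensorHom_comp_tensorHom_assoc, hj]

theorem mono_of_ker_trivial (p : A ⟶ B) [IsMonHom p] (h : ∀ (T : Over U) (k : T ⟶ A), k ≫ p = 1 → k = 1) : Mono p :=
  ⟨fun {T} a b e => mul_inv_eq_one.mp
    (h T (a * b⁻¹) (by rw [MonObj.mul_comp, GrpObj.inv_comp, e, mul_inv_cancel]))⟩

end

variable {S : Scheme.{u}} {Γ : Type} [AddCommGroup Γ] {G : Over S} [GrpObj G]
  (f : Red.DS S Γ ⟶ G) [IsMonHom f] {Λ : AddSubgroup Γ} {U : Scheme.{u}} {g : U ⟶ S}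

theorem covers_bc_res (g : U ⟶ S) (Λ : AddSubgroup Γ) : FpqcDescLib.Covers ((Over.pullback g).map (DSres S Λ)).left :=
  (covers_DSmap S Λ.subtype Subtype.val_injective).pullback _ _ _
    (GrpSchLib.HomSplitLocal.isPullback_map (DSres S Λ) g).flip

/-- Where `D(Γ/Λ)` is in the kernel the homomorphism factors through `D(Λ)`. -/
theorem exists_factor_res (h : KerLe (DSres S Λ) f g) :
    ∃ j : Red.bc g (Red.DS S Λ) ⟶ Red.bc g G, IsMonHom j ∧
      (Over.pullback g).map f = (Over.pullback g).map (DSres S Λ) ≫ j := by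
  haveI : IsMonHom (DSres S Λ) := S5427.isMonHom_DSmap S _
  let p : Red.bc g (Red.DS S Γ) ⟶ Red.bc g (Red.DS S Λ) := (Over.pullback g).map (DSres S Λ)
  let f' : Red.bc g (Red.DS S Γ) ⟶ Red.bc g G := (Over.pullback g).map f
  have hp := covers_bc_res g Λ
  haveI : IsMonHom p := inferInstanceAs (IsMonHom ((Over.pullback g).map (DSres S Λ)))
  haveI : IsMonHom f' := inferInstanceAs (IsMonHom ((Over.pullback g).map f))
  have key : ∀ (T : Over U) (k : T ⟶ Red.bc g (Red.DS S Γ)), k ≫ p = 1 → k ≫ f' = 1 := fun T k hk => by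
    apply (theta_bijective g).1
    rw [theta_comp_map, theta_one]
    refine h _ (Over.homMk T.hom rfl) _ ?_
    rw [← theta_comp_map, hk, theta_one]
  obtain ⟨j, hj, -⟩ := hp.over_desc f' (comp_eq_of_ker_le p f' key)
  exact ⟨j, isMonHom_of_covers_comp p hp f' j hj, hj.symm⟩

variable {f}

omit [IsMonHom f] in
/-- The factorisation has trivial kernel exactly where the kernel is no bigger than `D(Γ/Λ)`. -/
theorem inj_iff_kerLe {j : Red.bc g (Red.DS S Λ) ⟶ Red.bc g G}
    (hj : (Over.pullback g).map f = (Over.pullback g).map (DSres S Λ) ≫ j) {T : Scheme.{u}} (l : T ⟶ U) :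
    GrpSchLib.HomMonoLocus.Inj j l ↔ KerLe f (DSres S Λ) (l ≫ g) := by
  haveI : IsMonHom (DSres S Λ) := S5427.isMonHom_DSmap S _
  constructor
  · intro hinj Y q k hk
    let X : Over U := Over.mk (q.left ≫ l)
    let e : (Over.map g).obj X ⟶ Y := Over.homMk (𝟙 _) (by
      show 𝟙 _ ≫ Y.hom = (q.left ≫ l) ≫ g
      rw [Category.id_comp, Category.assoc]; exact (Over.w q).symm)
    let e' : Y ⟶ (Over.map g).obj X := Over.homMk (𝟙 _) (by
      show 𝟙 _ ≫ (q.left ≫ l) ≫ g = Y.hom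
      rw [Category.id_comp, Category.assoc]; exact Over.w q)
    obtain ⟨a, ha⟩ := (theta_bijective g).2 (e ≫ k)
    have h1 : ((a ≫ (Over.pullback g).map (DSres S Λ)) ≫ j : X ⟶ Red.bc g G) = 1 := by
      rw [Category.assoc, ← hj]
      apply (theta_bijective g).1
      rw [theta_comp_map, ha, theta_one, Category.assoc, hk, MonObj.comp_one]
    have h2 : e ≫ k ≫ DSres S Λ = 1 := by
      rw [← Category.assoc, ← ha, ← theta_comp_map, hinj X (Over.homMk q.left rfl) _ h1, theta_one]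
    have h3 := congrArg (e' ≫ ·) h2
    simp only [MonObj.comp_one] at h3
    rwa [← Category.assoc, show e' ≫ e = 𝟙 Y from Over.OverMorphism.ext (Category.comp_id _), Category.id_comp] at h3
  · intro hker Y q x hx
    obtain ⟨Y', π, a, hπ, ha⟩ := RedSub30.exists_local_lift (covers_bc_res g Λ) x
    haveI := hπ.over_epi
    rw [← cancel_epi π, MonObj.comp_one, ← ha]
    apply (theta_bijective g).1
    rw [theta_comp_map, theta_one]
    refine hker _ (Over.homMk (π ≫ q).left ?_) _ ?_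
    · show (π ≫ q).left ≫ l ≫ g = Y'.hom ≫ g
      rw [← Category.assoc]
      exact congrArg (· ≫ g) (Over.w (π ≫ q))
    · rw [← theta_comp_map, hj, ← Category.assoc, ha, Category.assoc, hx, MonObj.comp_one, theta_one]

/-- The factorisation is a closed immersion where the kernel is exactly `D(Γ/Λ)`. -/
theorem isClosedImmersion_factor [IsSeparated G.hom] [QuasiCompact G.hom] [LocallyOfFiniteType G.hom] (hΛ : Λ.FG)
    {j : Red.bc g (Red.DS S Λ) ⟶ Red.bc g G} [IsMonHom j]
    (hj : (Over.pullback g).map f = (Over.pullback g).map (DSres S Λ) ≫ j) (h : KerLe f (DSres S Λ) g) :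
    IsClosedImmersion j.left := by
  haveI : AddGroup.FG Λ := (AddGroup.fg_iff_addSubgroup_fg Λ).mpr hΛ
  have hinj := (inj_iff_kerLe hj (𝟙 U)).mpr (by rw [Category.id_comp]; exact h)
  haveI : Mono j := mono_of_ker_trivial j fun Y k hk => hinj Y (Over.homMk Y.hom (Category.comp_id _)) k hk
  obtain ⟨e⟩ := GrpSchLib.MultTypeBC.bc_DS g Λ
  let ei : Red.bc g (Red.DS S Λ) ≅ Red.DS U Λ :=
    ⟨e.hom.hom.hom, e.inv.hom.hom, congrArg (fun h => h.hom.hom) e.hom_inv_id,
      congrArg (fun h => h.hom.hom) e.inv_hom_id⟩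
  haveI : IsMonHom ei.inv := e.inv.hom.isMonHom_hom
  haveI : IsMonHom (ei.inv ≫ j) := inferInstance
  haveI : Mono (ei.inv ≫ j) := mono_comp _ _
  haveI : IsSeparated (Red.bc g G).hom := inferInstanceAs (IsSeparated (pullback.snd G.hom g))
  haveI : QuasiCompact (Red.bc g G).hom := inferInstanceAs (QuasiCompact (pullback.snd G.hom g))
  haveI : LocallyOfFiniteType (Red.bc g G).hom := inferInstanceAs (LocallyOfFiniteType (pullback.snd G.hom g))
  haveI := DSImmersion.isClosedImmersion_of_mono (ei.inv ≫ j)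
  haveI : IsIso ei.hom.left := (inferInstance : IsIso ((Over.forget U).map ei.hom))
  rw [show j.left = ei.hom.left ≫ (ei.inv ≫ j).left by rw [← Over.comp_left, ei.hom_inv_id_assoc]]
  infer_instance

variable (f)

/-- The points where the kernel is `D(Γ/Λ)`, as an open subscheme. -/
noncomputable def exactLocus (Λ : AddSubgroup Γ) : S.Opens :=
  sSup {V : S.Opens | KerLe (DSres S Λ) f V.ι ∧ KerLe f (DSres S Λ) V.ι}

omit [IsMonHom f] in
theorem kerLe_exactLocus (Λ : AddSubgroup Γ) :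
    KerLe (DSres S Λ) f (exactLocus f Λ).ι ∧ KerLe f (DSres S Λ) (exactLocus f Λ).ι :=
  ⟨KerLe.glue fun _ h => h.1, KerLe.glue fun _ h => h.2⟩

theorem kerLe_of_mem {Λ : AddSubgroup Γ} {s : S} (hs : s ∈ exactLocus f Λ) :
    KerLe (DSres S Λ) f (S.fromSpecResidueField s) ∧ KerLe f (DSres S Λ) (S.fromSpecResidueField s) := by
  have hr : Set.range (S.fromSpecResidueField s) ⊆ Set.range (exactLocus f Λ).ι := by
    rw [Scheme.range_fromSpecResidueField, Scheme.Opens.range_ι]
    exact Set.singleton_subset_iff.mpr hs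
  exact ⟨(kerLe_exactLocus f Λ).1.of_le _ (IsOpenImmersion.lift_fac _ _ hr),
    (kerLe_exactLocus f Λ).2.of_le _ (IsOpenImmersion.lift_fac _ _ hr)⟩

omit [IsMonHom f] in
theorem le_of_kerLe_field {Λ Λ' : AddSubgroup Γ} {K : Type u} [Field K] {b : Spec (CommRingCat.of K) ⟶ S}
    (h : KerLe (DSres S Λ) f b) (h' : KerLe f (DSres S Λ') b) : Λ' ≤ Λ := by
  intro x hx
  let A := MonoidAlgebra K (Multiplicative (Γ ⧸ Λ))
  let c := GrpSchLib.DiagActionRigid.univPt K (QuotientAddGroup.mk' Λ)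
  let jA := GrpSchLib.HomKernelIdeal.str b A
  let q : DSPtsLib.spU jA ⟶ Over.mk b := Over.homMk (Spec.map (CommRingCat.ofHom (algebraMap K A))) rfl
  have h1 : DSPtsLib.pt jA c ≫ DSres S Λ = 1 := (pt_res_eq_one_iff Λ jA c).mpr fun y hy => by
    rw [GrpSchLib.DiagActionRigid.univPt_single]
    show MonoidAlgebra.single (Multiplicative.ofAdd (QuotientAddGroup.mk' Λ y)) (1 : K) = 1
    rw [show QuotientAddGroup.mk' Λ y = 0 from (QuotientAddGroup.eq_zero_iff y).mpr hy]
    rfl
  have h2 := (pt_res_eq_one_iff Λ' jA c).mp (h' _ q _ (h _ q _ h1)) x hx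
  rw [GrpSchLib.DiagActionRigid.univPt_single, MonoidAlgebra.one_def] at h2
  exact (QuotientAddGroup.eq_zero_iff x).mp
    (congrArg Multiplicative.toAdd (MonoidAlgebra.single_left_injective (one_ne_zero (α := K)) h2))

theorem exists_exactLocus [IsSeparated G.hom] [LocallyOfFiniteType G.hom] (s : S) :
    ∃ Λ : AddSubgroup Γ, Λ.FG ∧ s ∈ exactLocus f Λ := by
  obtain ⟨Λ, hfg, h1, h2⟩ := exists_kernel_field f (S.fromSpecResidueField s)
  refine ⟨Λ, hfg, ?_⟩
  obtain ⟨V, hV, hsV, -⟩ := exists_isAffineOpen_mem_and_subset (show s ∈ (⊤ : S.Opens) from trivial)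
  rw [← SetLike.mem_coe, ← hV.range_fromSpec] at hsV
  obtain ⟨p, hp⟩ := hsV
  haveI : p.asIdeal.IsPrime := p.isPrime
  let b : Spec (CommRingCat.of p.asIdeal.ResidueField) ⟶ S :=
    Spec.map (CommRingCat.ofHom (algebraMap Γ(S, V) p.asIdeal.ResidueField)) ≫ hV.fromSpec
  have hb : b (IsLocalRing.closedPoint _) = s := by
    show (Spec.map _ ≫ _) _ = _
    rw [Scheme.Hom.comp_apply, ← hp]
    congr 1
    refine PrimeSpectrum.ext ?_
    show Ideal.comap (algebraMap Γ(S, V) p.asIdeal.ResidueField) (IsLocalRing.maximalIdeal _) = p.asIdeal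
    rw [IsLocalRing.maximalIdeal_eq_bot, ← RingHom.ker_eq_comap_bot, Ideal.ker_algebraMap_residueField]
  have h1' : KerLe (DSres S Λ) f b := by
    have e := Scheme.descResidueField_stalkClosedPointTo_fromSpecResidueField p.asIdeal.ResidueField S b
    subst hb
    exact h1.of_le _ e
  obtain ⟨d, hd, hd'⟩ := exists_kerLe_away f Λ hV p.asIdeal h1'
  let i : Spec (CommRingCat.of (Localization.Away d)) ⟶ S :=
    Spec.map (CommRingCat.ofHom (algebraMap Γ(S, V) (Localization.Away d))) ≫ hV.fromSpec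
  have hsi : s ∈ i.opensRange := by
    have hpd : p ∈ Set.range (PrimeSpectrum.comap (algebraMap Γ(S, V) (Localization.Away d))) := by
      rw [PrimeSpectrum.localization_away_comap_range (Localization.Away d) d]
      exact hd
    obtain ⟨p', hp'⟩ := hpd
    refine ⟨p', ?_⟩
    rw [← hp, ← hp']
    rfl
  let W := i.opensRange
  have hW : KerLe (DSres S Λ) f W.ι := KerLe.of_range hd'
  obtain ⟨j, hjh, hj⟩ := exists_factor_res f hW
  haveI : AddGroup.FG Λ := (AddGroup.fg_iff_addSubgroup_fg Λ).mpr hfg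
  haveI : IsSeparated (Red.bc W.ι G).hom := inferInstanceAs (IsSeparated (pullback.snd G.hom W.ι))
  obtain ⟨U', hU', hinj⟩ := GrpSchLib.HomMonoLocus.main (u := j)
    (GrpSchLib.MultTypeBC.isMultTypeFT_bc W.ι (isMultTypeFT_DS S Λ inferInstance))
  obtain ⟨w, rfl⟩ : ∃ w : (W : Scheme.{u}), W.ι w = s := ⟨⟨s, hsi⟩, rfl⟩
  have hw : w ∈ U' := (hU' w).mpr ((inj_iff_kerLe hj _).mpr
    (h2.of_le _ (Scheme.Hom.SpecMap_residueFieldMap_fromSpecResidueField W.ι w)))
  exact TopologicalSpace.Opens.mem_sSup.mpr ⟨(U'.ι ≫ W.ι).opensRange,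
    ⟨KerLe.of_range (hW.comp U'.ι), KerLe.of_range ((inj_iff_kerLe hj _).mp hinj)⟩, ⟨⟨w, hw⟩, rfl⟩⟩

theorem isClosed_exactLocus [IsSeparated G.hom] [LocallyOfFiniteType G.hom] (Λ : AddSubgroup Γ) :
    IsClosed (exactLocus f Λ : Set S) := by
  rw [← isOpen_compl_iff, isOpen_iff_forall_mem_open]
  intro t ht
  obtain ⟨Λ', -, ht'⟩ := exists_exactLocus f t
  refine ⟨exactLocus f Λ', fun x hx' hx => ht ?_, (exactLocus f Λ').2, ht'⟩
  obtain ⟨a1, a2⟩ := kerLe_of_mem f hx
  obtain ⟨b1, b2⟩ := kerLe_of_mem f hx'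
  rw [show Λ = Λ' from le_antisymm (le_of_kerLe_field f b1 a2) (le_of_kerLe_field f a1 b2)]
  exact ht'

end Groth.Agent.SgaFix20
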