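import Groth.Agent.SgaFix20.Image
import Groth.Agent.SgaFix20.DSImage

/-!
# Local factorisations of homomorphisms out of groups of multiplicative type
-/

universe u

open CategoryTheory CategoryTheory.Limits MonoidalCategory CartesianMonoidalCategory MonObj AlgebraicGeometry

set_option backward.isDefEq.respectTransparency false
set_option linter.style.haveILetI false
set_option synthInstance.maxHeartbeats 200000
set_option maxHeartbeats 1000000

namespace Groth.Agent.SgaFix20

variable {S : Scheme.{u}} {H G : Over S} [GrpObj H] [GrpObj G] [IsSeparated G.hom] [QuasiCompact G.hom]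
  [LocallyOfFiniteType G.hom] (f : H ⟶ G) [IsMonHom f]

theorem isMonHom_comp {T : Scheme.{u}} {X Y Z : Over T} [GrpObj X] [GrpObj Y] [GrpObj Z] (a : X ⟶ Y) (b : Y ⟶ Z)
    (_ : IsMonHom a) (_ : IsMonHom b) : IsMonHom (a ≫ b) := inferInstance

/-- The natural isomorphism of iterated base change is one of groups. -/
theorem isMonHom_pullbackComp {U V : Scheme.{u}} (t : V ⟶ U) (g : U ⟶ S) (X : Over S) [GrpObj X] :
    IsMonHom (M := Red.bc (t ≫ g) X) (N := Red.bc t (Red.bc g X)) ((Over.pullbackComp t g).hom.app X) ∧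
      IsMonHom (M := Red.bc t (Red.bc g X)) (N := Red.bc (t ≫ g) X) ((Over.pullbackComp t g).inv.app X) :=
  let i := ((Functor.mapGrpCompIso).symm ≪≫ Functor.mapGrpNatIso (Over.pullbackComp t g).symm).app (Grp.mk X)
  ⟨i.inv.hom.isMonHom_hom, i.hom.hom.isMonHom_hom⟩

theorem exists_fact_clopen {U : Scheme.{u}} (g : U ⟶ S) {M : Type} [AddCommGroup M]
    (e : Grp.mk (Red.bc g H) ≅ Grp.mk (Red.DS U M)) (w : U) :
    ∃ V : U.Opens, w ∈ V ∧ IsClosed (V : Set U) ∧ ∃ (F : Image.Fact f (V.ι ≫ g)) (Λ : AddSubgroup M), Λ.FG ∧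
      Nonempty (Grp.mk F.Q ≅ Grp.mk (Red.DS (V : Scheme.{u}) Λ)) := by
  let ei : Red.bc g H ≅ Red.DS U M :=
    ⟨e.hom.hom.hom, e.inv.hom.hom, congrArg (fun h => h.hom.hom) e.hom_inv_id,
      congrArg (fun h => h.hom.hom) e.inv_hom_id⟩
  haveI : IsMonHom ei.inv := e.inv.hom.isMonHom_hom
  let fU : Red.DS U M ⟶ Red.bc g G := ei.inv ≫ (Over.pullback g).map f
  haveI : IsMonHom fU := inferInstanceAs (IsMonHom (ei.inv ≫ (Over.pullback g).map f))
  haveI : IsSeparated (Red.bc g G).hom := inferInstanceAs (IsSeparated (pullback.snd G.hom g))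
  haveI : QuasiCompact (Red.bc g G).hom := inferInstanceAs (QuasiCompact (pullback.snd G.hom g))
  haveI : LocallyOfFiniteType (Red.bc g G).hom := inferInstanceAs (LocallyOfFiniteType (pullback.snd G.hom g))
  obtain ⟨Λ, hfg, hw⟩ := exists_exactLocus fU w
  refine ⟨exactLocus fU Λ, hw, isClosed_exactLocus fU Λ, ?_⟩
  let V : U.Opens := exactLocus fU Λ
  obtain ⟨h1, h2⟩ := kerLe_exactLocus fU Λ
  obtain ⟨j, hjh, hj⟩ := exists_factor_res fU h1
  haveI := isClosedImmersion_factor hfg hj h2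
  obtain ⟨hc1, hc2⟩ := isMonHom_pullbackComp V.ι g G
  let j' : Red.bc V.ι (Red.DS U Λ) ⟶ Red.bc (V.ι ≫ g) G := j ≫ (Over.pullbackComp V.ι g).inv.app G
  haveI : IsMonHom j' := isMonHom_comp (Z := Red.bc (V.ι ≫ g) G) j _ hjh hc2
  let p' : Red.bc (V.ι ≫ g) H ⟶ Red.bc V.ι (Red.DS U Λ) :=
    (Over.pullbackComp V.ι g).hom.app H ≫ (Over.pullback V.ι).map ei.hom ≫ (Over.pullback V.ι).map (DSres U Λ)
  have hp : Flat p'.left ∧ Surjective p'.left := by
    obtain ⟨hd1, hd2⟩ := GrpSchLib.HomSplitLocal.flat_surjective_of_injective (ULift.{u} ℤ) Λ.subtype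
      Subtype.val_injective
    have hq1 : Flat (DSres U Λ).left := MorphismProperty.of_isPullback (P := @Flat)
      (GrpSchLib.HomSplitLocal.isPullback_map (Red.diagMap (ULift.{u} ℤ) Λ.subtype) _) hd1
    have hq2 : Surjective (DSres U Λ).left := MorphismProperty.of_isPullback (P := @Surjective)
      (GrpSchLib.HomSplitLocal.isPullback_map (Red.diagMap (ULift.{u} ℤ) Λ.subtype) _) hd2
    haveI : Flat ((Over.pullback V.ι).map (DSres U Λ)).left := MorphismProperty.of_isPullback (P := @Flat)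
      (GrpSchLib.HomSplitLocal.isPullback_map (DSres U Λ) V.ι) hq1
    haveI : Surjective ((Over.pullback V.ι).map (DSres U Λ)).left := MorphismProperty.of_isPullback (P := @Surjective)
      (GrpSchLib.HomSplitLocal.isPullback_map (DSres U Λ) V.ι) hq2
    haveI : IsIso ((Over.pullback V.ι).map ei.hom).left :=
      (inferInstance : IsIso ((Over.forget _).map ((Over.pullback V.ι).map ei.hom)))
    haveI : IsIso ((Over.pullbackComp V.ι g).hom.app H).left :=
      (inferInstance : IsIso ((Over.forget _).map ((Over.pullbackComp V.ι g).hom.app H)))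
    show Flat (_ ≫ _ ≫ _) ∧ Surjective (_ ≫ _ ≫ _)
    exact ⟨inferInstance, inferInstance⟩
  refine ⟨{
    Q := Red.bc V.ι (Red.DS U Λ)
    j := j'
    p := p'
    closed := ?_
    flat := hp.1
    surj := hp.2
    fac := ?_ }, Λ, hfg, GrpSchLib.MultTypeBC.bc_DS V.ι Λ⟩
  · haveI : IsIso ((Over.pullbackComp V.ι g).inv.app G).left :=
      (inferInstance : IsIso ((Over.forget _).map ((Over.pullbackComp V.ι g).inv.app G)))
    show IsClosedImmersion (j.left ≫ _)
    infer_instance
  · show ((Over.pullbackComp V.ι g).hom.app H ≫ _ ≫ _) ≫ j ≫ _ = _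
    have hj' : (Over.pullback V.ι).map (DSres U Λ) ≫ j = (Over.pullback V.ι).map fU := hj.symm
    simp only [Category.assoc]
    rw [reassoc_of% hj', ← Functor.map_comp_assoc, Iso.hom_inv_id_assoc]
    erw [(Over.pullbackComp V.ι g).inv.naturality f]
    rw [Iso.hom_inv_id_app_assoc]

theorem exists_fact {U : Scheme.{u}} (g : U ⟶ S) {M : Type} [AddCommGroup M]
    (e : Grp.mk (Red.bc g H) ≅ Grp.mk (Red.DS U M)) (w : U) :
    ∃ V : U.Opens, w ∈ V ∧ ∃ (F : Image.Fact f (V.ι ≫ g)) (Λ : AddSubgroup M), Λ.FG ∧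
      Nonempty (Grp.mk F.Q ≅ Grp.mk (Red.DS (V : Scheme.{u}) Λ)) := by
  obtain ⟨V, hw, -, h⟩ := exists_fact_clopen f g e w
  exact ⟨V, hw, h⟩

end Groth.Agent.SgaFix20

namespace Groth.Agent.SgaFix20.Image

variable {S : Scheme.{u}} {H G : Over S} [GrpObj H] [GrpObj G] {f : H ⟶ G} [IsMonHom f]

/-- Factorisations pull back. -/
theorem Fact.exists_comp {T T' : Scheme.{u}} {t : T ⟶ S} {t' : T' ⟶ S} (F : Fact f t) (l : T' ⟶ T) (hl : t' = l ≫ t)
    (P : ∀ (X : Scheme.{u}), Grp (Over X) → Prop) (hP : ∀ Q', Nonempty (Q' ≅ Grp.mk (Red.bc l F.Q)) → P T' Q') :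
    ∃ F' : Fact f t', P T' (Grp.mk F'.Q) := by
  subst hl
  obtain ⟨hc1, hc2⟩ := SgaFix20.isMonHom_pullbackComp l t G
  let j' : Red.bc l F.Q ⟶ Red.bc (l ≫ t) G := (Over.pullback l).map F.j ≫ (Over.pullbackComp l t).inv.app G
  let p' : Red.bc (l ≫ t) H ⟶ Red.bc l F.Q := (Over.pullbackComp l t).hom.app H ≫ (Over.pullback l).map F.p
  haveI : IsMonHom j' := SgaFix20.isMonHom_comp (Z := Red.bc (l ≫ t) G) _ _
    (inferInstanceAs (IsMonHom ((Over.pullback l).map F.j))) hc2
  haveI : IsIso ((Over.pullbackComp l t).inv.app G).left :=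
    (inferInstance : IsIso ((Over.forget _).map ((Over.pullbackComp l t).inv.app G)))
  haveI : IsIso ((Over.pullbackComp l t).hom.app H).left :=
    (inferInstance : IsIso ((Over.forget _).map ((Over.pullbackComp l t).hom.app H)))
  haveI : IsClosedImmersion ((Over.pullback l).map F.j).left :=
    MorphismProperty.of_isPullback (P := @IsClosedImmersion) (GrpSchLib.HomSplitLocal.isPullback_map F.j l) F.closed
  haveI : Flat ((Over.pullback l).map F.p).left :=
    MorphismProperty.of_isPullback (P := @Flat) (GrpSchLib.HomSplitLocal.isPullback_map F.p l) F.flat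
  haveI : Surjective ((Over.pullback l).map F.p).left :=
    MorphismProperty.of_isPullback (P := @Surjective) (GrpSchLib.HomSplitLocal.isPullback_map F.p l) F.surj
  refine ⟨{
    Q := Red.bc l F.Q
    j := j'
    p := p'
    closed := inferInstanceAs (IsClosedImmersion (_ ≫ _))
    flat := inferInstanceAs (Flat (_ ≫ _))
    surj := inferInstanceAs (Surjective (_ ≫ _))
    fac := ?_ }, hP _ ⟨Iso.refl _⟩⟩
  show ((Over.pullbackComp l t).hom.app H ≫ _) ≫ _ ≫ _ = _
  simp only [Category.assoc]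
  rw [← Functor.map_comp_assoc, F.fac]
  erw [(Over.pullbackComp l t).inv.naturality f]
  rw [Iso.hom_inv_id_app_assoc]

end Groth.Agent.SgaFix20.Image
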