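import Groth.Agent.SgaFix20.DSMap
import Groth.Agent.GrpSchLib.MultTypeBC
import Mathlib.CategoryTheory.Monoidal.Cartesian.Grp

/-!
# Products of diagonalisable groups
-/

universe u

open CategoryTheory CategoryTheory.Limits MonoidalCategory CartesianMonoidalCategory MonObj AlgebraicGeometry

set_option backward.isDefEq.respectTransparency false
set_option linter.style.haveILetI false

namespace Groth.Agent.SgaFix20

open DSPtsLib (CoordM pt)
open GrpSchLib.SubgroupFactor (pull pull_single)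

theorem hom_ext_pts {U : Scheme.{u}} {M : Type} [AddCommGroup M] {Y : Over U} {a b : Red.DS U M ⟶ Y}
    (h : ∀ (B : Type u) [CommRing B] (j : Spec (CommRingCat.of B) ⟶ U) (c : CoordM.{u} M →+* B),
      pt j c ≫ a = pt j c ≫ b) : a = b := by
  refine Over.OverMorphism.ext (Scheme.Cover.hom_ext (Red.DS U M).left.affineCover _ _ fun i => ?_)
  obtain ⟨C, hC⟩ : ∃ C : CommRingCat.{u}, (Red.DS U M).left.affineCover.X i = Spec C := ⟨_, rfl⟩
  obtain ⟨io, hio⟩ : ∃ io : Spec C ⟶ (Red.DS U M).left, (Red.DS U M).left.affineCover.f i = eqToHom hC ≫ io :=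
    ⟨eqToHom hC.symm ≫ (Red.DS U M).left.affineCover.f i, by simp⟩
  rw [hio, Category.assoc, Category.assoc]
  congr 1
  let j : Spec (CommRingCat.of C) ⟶ U := io ≫ (Red.DS U M).hom
  obtain ⟨c, hc⟩ := DSPtsLib.exists_eq_pt j (Over.homMk io rfl)
  have h1 := h C j c
  rw [← hc] at h1
  exact congrArg (fun m => Over.Hom.left m) h1

theorem id_mul_one' {U : Scheme.{u}} {A B C : Over U} [GrpObj B] (x : A ⟶ B) (y : A ⟶ C) :
    (x ≫ 𝟙 B) * (y ≫ (1 : C ⟶ B)) = x := by simp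

theorem one_mul_id' {U : Scheme.{u}} {A B C : Over U} [GrpObj B] (x : A ⟶ B) (y : A ⟶ C) :
    (y ≫ (1 : C ⟶ B)) * (x ≫ 𝟙 B) = x := by simp

theorem eq_one_of_mul_self {U : Scheme.{u}} {A B : Over U} [GrpObj B] (x : A ⟶ B) (h : x * x = x) : x = 1 :=
  mul_eq_left.mp h

theorem isMonHom_of_mul {U : Scheme.{u}} {A B : Over U} [GrpObj A] [GrpObj B] (f : A ⟶ B)
    (h : ∀ (T : Over U) (a b : T ⟶ A), (a * b) ≫ f = (a ≫ f) * (b ≫ f)) : IsMonHom f where
  one_hom := by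
    have h1 := h (𝟙_ (Over U)) 1 1
    rw [_root_.one_mul] at h1
    have h2 : (1 : 𝟙_ (Over U) ⟶ A) ≫ f = 1 := left_eq_mul.mp h1
    rw [MonObj.one_eq_one, MonObj.one_eq_one]
    exact h2
  mul_hom := by
    rw [MonObj.mul_eq_mul, h, Hom.mul_def]
    congr 1

variable {U : Scheme.{u}} {M N : Type} [AddCommGroup M] [AddCommGroup N]

theorem DSmap_mul (φ ψ : M →+ N) : Red.DSmap U φ * Red.DSmap U ψ = Red.DSmap U (φ + ψ) := by
  refine hom_ext_pts fun B _ j c => ?_
  rw [MonObj.comp_mul (pt j c) (Red.DSmap U φ) (Red.DSmap U ψ), pt_DSmap, pt_DSmap, pt_DSmap]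
  refine DSPtsLib.pt_mul j _ _ _ fun m => ?_
  rw [pull_single, pull_single, pull_single, ← map_mul, MonoidAlgebra.single_mul_single, _root_.mul_one]
  rfl

theorem DSmap_zero : Red.DSmap U (0 : M →+ N) = 1 := by
  have h := DSmap_mul (U := U) (0 : M →+ N) 0
  rw [add_zero] at h
  exact eq_one_of_mul_self _ h

/-- The product of two diagonalisable groups is diagonalisable. -/
theorem nonempty_DS_prod_iso :
    Nonempty (Grp.mk (Red.DS U (M × N)) ≅ Grp.mk (Red.DS U M ⊗ Red.DS U N)) := by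
  let ψ : Red.DS U (M × N) ⟶ Red.DS U M ⊗ Red.DS U N :=
    lift (Red.DSmap U (AddMonoidHom.inl M N)) (Red.DSmap U (AddMonoidHom.inr M N))
  let a := Red.DSmap U (AddMonoidHom.fst M N)
  let b := Red.DSmap U (AddMonoidHom.snd M N)
  let φ : Red.DS U M ⊗ Red.DS U N ⟶ Red.DS U (M × N) := (fst _ _ ≫ a) * (snd _ _ ≫ b)
  haveI : IsMonHom (Red.DSmap U (AddMonoidHom.inl M N)) := S5427.isMonHom_DSmap U _
  haveI : IsMonHom (Red.DSmap U (AddMonoidHom.inr M N)) := S5427.isMonHom_DSmap U _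
  haveI : IsMonHom ψ := inferInstanceAs (IsMonHom (lift _ _))
  have h1 : φ ≫ Red.DSmap U (AddMonoidHom.inl M N) = fst _ _ := by
    rw [MonObj.mul_comp (fst _ _ ≫ a) (snd _ _ ≫ b) (Red.DSmap U (AddMonoidHom.inl M N)), Category.assoc, Category.assoc, DSmap_comp, DSmap_comp,
      show (AddMonoidHom.fst M N).comp (AddMonoidHom.inl M N) = AddMonoidHom.id M from rfl,
      show (AddMonoidHom.snd M N).comp (AddMonoidHom.inl M N) = 0 from rfl, DSmap_id, DSmap_zero]
    exact id_mul_one' _ _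
  have h2 : φ ≫ Red.DSmap U (AddMonoidHom.inr M N) = snd _ _ := by
    rw [MonObj.mul_comp (fst _ _ ≫ a) (snd _ _ ≫ b) (Red.DSmap U (AddMonoidHom.inr M N)), Category.assoc, Category.assoc, DSmap_comp, DSmap_comp,
      show (AddMonoidHom.fst M N).comp (AddMonoidHom.inr M N) = 0 from rfl,
      show (AddMonoidHom.snd M N).comp (AddMonoidHom.inr M N) = AddMonoidHom.id N from rfl, DSmap_id, DSmap_zero]
    exact one_mul_id' _ _
  let i : Red.DS U (M × N) ≅ Red.DS U M ⊗ Red.DS U N := ⟨ψ, φ, by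
    rw [MonObj.comp_mul ψ (fst _ _ ≫ a) (snd _ _ ≫ b), lift_fst_assoc, lift_snd_assoc, DSmap_comp, DSmap_comp, DSmap_mul,
      show (AddMonoidHom.inl M N).comp (AddMonoidHom.fst M N) + (AddMonoidHom.inr M N).comp (AddMonoidHom.snd M N) =
        AddMonoidHom.id (M × N) from AddMonoidHom.ext fun x => by simp, DSmap_id], by
    refine CartesianMonoidalCategory.hom_ext _ _ ?_ ?_
    · rw [Category.assoc, lift_fst, h1, Category.id_comp]
    · rw [Category.assoc, lift_snd, h2, Category.id_comp]⟩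
  haveI : IsMonHom i.hom := ‹IsMonHom ψ›
  exact ⟨Grp.mkIso' i⟩

/-- Base change commutes with products. -/
theorem nonempty_bc_tensor_iso {S : Scheme.{u}} (g : U ⟶ S) (A B : Over S) [GrpObj A] [GrpObj B] :
    Nonempty (Grp.mk (Red.bc g (A ⊗ B)) ≅ Grp.mk (Red.bc g A ⊗ Red.bc g B)) := by
  let c : Red.bc g (A ⊗ B) ⟶ Red.bc g A ⊗ Red.bc g B :=
    lift ((Over.pullback g).map (fst A B)) ((Over.pullback g).map (snd A B))
  haveI : IsMonHom c := inferInstanceAs (IsMonHom (lift _ _))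
  haveI : PreservesLimitsOfSize.{0, 0} (Over.pullback g) := (Over.mapPullbackAdj g).rightAdjoint_preservesLimits
  haveI : IsIso c := isIso_prodComparison_of_preservesLimit_pair (Over.pullback g) A B
  exact ⟨Grp.mkIso' (asIso c)⟩

theorem nonempty_tensor_iso {A A' B B' : Over U} [GrpObj A] [GrpObj A'] [GrpObj B] [GrpObj B']
    (a : Grp.mk A ≅ Grp.mk A') (b : Grp.mk B ≅ Grp.mk B') : Nonempty (Grp.mk (A ⊗ B) ≅ Grp.mk (A' ⊗ B')) := by
  let ai : A ≅ A' := ⟨a.hom.hom.hom, a.inv.hom.hom, congrArg (fun h => h.hom.hom) a.hom_inv_id,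
    congrArg (fun h => h.hom.hom) a.inv_hom_id⟩
  let bi : B ≅ B' := ⟨b.hom.hom.hom, b.inv.hom.hom, congrArg (fun h => h.hom.hom) b.hom_inv_id,
    congrArg (fun h => h.hom.hom) b.inv_hom_id⟩
  haveI : IsMonHom ai.hom := a.hom.hom.isMonHom_hom
  haveI : IsMonHom bi.hom := b.hom.hom.isMonHom_hom
  haveI : IsMonHom (ai ⊗ᵢ bi).hom := inferInstanceAs (IsMonHom (ai.hom ⊗ₘ bi.hom))
  exact ⟨Grp.mkIso' (ai ⊗ᵢ bi)⟩

end Groth.Agent.SgaFix20
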