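import Groth.Agent.SgaFix20.TorusSum
import Groth.Agent.S16611
import Mathlib.RingTheory.RootsOfUnity.AlgebraicallyClosed

/-!
# Ranks of split tori and monomorphisms between them

A monomorphism is injective on points killed by a prime `ℓ` invertible in the field, of which a split torus of rank
`a` has `ℓ ^ a`.
-/

universe u

open CategoryTheory CategoryTheory.Limits MonoidalCategory CartesianMonoidalCategory MonObj AlgebraicGeometry

set_option backward.isDefEq.respectTransparency false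
set_option linter.style.haveILetI false
set_option synthInstance.maxHeartbeats 200000

namespace Groth.Agent.SgaFix20

open DSPtsLib (CoordM pt)
open GrpSchLib.SubgroupFactor (pull pull_single)
open GrpSchLib.HomMonoLocus (charOf charOf_single pt_injective pt_one)
open GrpSchLib.DiagActionRigid (coord_ext)

theorem comp_pow_pts {U : Scheme.{u}} {M N : Type} [AddCommGroup M] [AddCommGroup N] (v : Red.DS U M ⟶ Red.DS U N)
    [IsMonHom v] {B : Type u} [CommRing B] (j : Spec (CommRingCat.of B) ⟶ U) {c : CoordM.{u} M →+* B}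
    {d : CoordM.{u} N →+* B} (h : pt j c ≫ v = pt j d) (k : ℕ) :
    pt j (DSImmersion.powChar c k) ≫ v = pt j (DSImmersion.powChar d k) := by
  induction k with
  | zero =>
    rw [pt_one j (DSImmersion.powChar c 0) fun m => by rw [DSImmersion.powChar_single, pow_zero],
      pt_one j (DSImmersion.powChar d 0) fun m => by rw [DSImmersion.powChar_single, pow_zero]]
    exact MonObj.one_comp v
  | succ k ih =>
    rw [← DSPtsLib.pt_mul j (DSImmersion.powChar c k) c (DSImmersion.powChar c (k + 1)) fun m => by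
        rw [DSImmersion.powChar_single, DSImmersion.powChar_single, pow_succ],
      ← DSPtsLib.pt_mul j (DSImmersion.powChar d k) d (DSImmersion.powChar d (k + 1)) fun m => by
        rw [DSImmersion.powChar_single, DSImmersion.powChar_single, pow_succ],
      MonObj.mul_comp (pt j (DSImmersion.powChar c k)) (pt j c) v, ih, h]

/-- A split torus of rank `a` embeds only into diagonalisable groups with at least `a` generators. -/
theorem rank_le_card {K : Type u} [Field K] [IsAlgClosed K] {a n : ℕ} {M : Type} [AddCommGroup M] (m : Fin n → M)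
    (hm : ∀ x, x ∈ AddSubgroup.closure (Set.range m))
    (v : Red.DS (Spec (CommRingCat.of K)) (Fin a → ℤ) ⟶ Red.DS (Spec (CommRingCat.of K)) M) [IsMonHom v] [Mono v] :
    a ≤ n := by
  classical
  obtain ⟨ℓ, hℓ, hprime⟩ := Nat.exists_infinite_primes (ringChar K + 1)
  haveI : NeZero (ℓ : K) := ⟨fun h => by
    rw [CharP.cast_eq_zero_iff K (ringChar K) ℓ] at h
    rcases (Nat.dvd_prime hprime).mp h with h' | h'
    · exact CharP.char_ne_one K (ringChar K) h'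
    · omega⟩
  haveI : NeZero ℓ := ⟨hprime.ne_zero⟩
  obtain ⟨ζ, hζ⟩ := HasEnoughRootsOfUnity.exists_primitiveRoot K ℓ
  let ζu : Kˣ := (hζ.isUnit hprime.ne_zero).unit
  have hζu : ζu ^ ℓ = 1 := Units.ext (by rw [Units.val_pow_eq_pow_val]; exact hζ.pow_eq_one)
  let j : Spec (CommRingCat.of K) ⟶ Spec (CommRingCat.of K) := 𝟙 _
  let E : (Fin a → ZMod ℓ) → Multiplicative (Fin a → ℤ) → ℤ := fun w x => ∑ i, Multiplicative.toAdd x i * (w i).val
  let ch : (Fin a → ZMod ℓ) → (Multiplicative (Fin a → ℤ) →* K) := fun w =>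
    { toFun := fun x => ((ζu ^ E w x : Kˣ) : K)
      map_one' := by simp [E]
      map_mul' := fun x y => by
        rw [show E w (x * y) = E w x + E w y by simp [E, add_mul, Finset.sum_add_distrib], zpow_add, Units.val_mul] }
  let c : (Fin a → ZMod ℓ) → (CoordM.{u} (Fin a → ℤ) →+* K) := fun w => charOf (R := K) (ch w)
  choose d hd using fun w => DSPtsLib.exists_eq_pt j (pt j (c w) ≫ v)
  have hval : ∀ w (x : Multiplicative M), d w (MonoidAlgebra.single x 1) ^ ℓ = 1 := fun w x => by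
    have h1 := comp_pow_pts v j (hd w) ℓ
    have h2 : pt j (DSImmersion.powChar (c w) ℓ) = 1 := pt_one j _ fun y => by
      rw [DSImmersion.powChar_single, charOf_single]
      show ((ζu ^ E w y : Kˣ) : K) ^ ℓ = 1
      rw [← Units.val_pow_eq_pow_val, ← zpow_natCast, zpow_comm, zpow_natCast, hζu, one_zpow, Units.val_one]
    rw [h2, show (1 : DSPtsLib.spU j ⟶ _) ≫ v = 1 from MonObj.one_comp v] at h1
    have h3 := pt_injective j ((pt_one j (pull (0 : M →+ M) (d w)) fun y => by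
      rw [pull_single]; exact map_one (d w)).trans h1)
    have h4 := congrFun (congrArg DFunLike.coe h3) (MonoidAlgebra.single x 1)
    rw [pull_single, DSImmersion.powChar_single] at h4
    exact h4.symm.trans (map_one (d w))
  choose k hk hkd using fun w i => hζ.eq_pow_of_pow_eq_one (hval w (Multiplicative.ofAdd (m i)))
  let F : (Fin a → ZMod ℓ) → (Fin n → Fin ℓ) := fun w i => ⟨k w i, hk w i⟩
  have hF : Function.Injective F := fun w w' h => by
    have hdd : d w = d w' := coord_ext fun x => by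
      obtain ⟨x, rfl⟩ : ∃ y, Multiplicative.ofAdd y = x := ⟨Multiplicative.toAdd x, rfl⟩
      induction hm x using AddSubgroup.closure_induction with
      | mem y hy =>
        obtain ⟨i, rfl⟩ := hy
        rw [← hkd, ← hkd, show k w i = k w' i from congrArg Fin.val (congrFun h i)]
      | zero => exact (map_one (d w)).trans (map_one (d w')).symm
      | add y z _ _ hy hz =>
        rw [ofAdd_add, ← _root_.mul_one (1 : ULift.{u} ℤ), ← MonoidAlgebra.single_mul_single, map_mul, map_mul, hy, hz]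
      | neg y _ hy =>
        have hinv : ∀ e : CoordM.{u} M →+* K, e (MonoidAlgebra.single (Multiplicative.ofAdd (-y)) 1) =
            (e (MonoidAlgebra.single (Multiplicative.ofAdd y) 1))⁻¹ := fun e => eq_inv_of_mul_eq_one_left (by
          rw [← map_mul, MonoidAlgebra.single_mul_single, _root_.mul_one, ← ofAdd_add, neg_add_cancel]
          exact map_one e)
        rw [hinv, hinv, hy]
    have h1 : pt j (c w) = pt j (c w') := (cancel_mono v).mp ((hd w).trans ((congrArg (pt j) hdd).trans (hd w').symm))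
    funext i
    have h2 := congrFun (congrArg DFunLike.coe (pt_injective j h1))
      (MonoidAlgebra.single (Multiplicative.ofAdd (Pi.single i (1 : ℤ))) 1)
    rw [charOf_single, charOf_single] at h2
    change ((ζu ^ E w _ : Kˣ) : K) = ((ζu ^ E w' _ : Kˣ) : K) at h2
    have hE : ∀ w : Fin a → ZMod ℓ, E w (Multiplicative.ofAdd (Pi.single i (1 : ℤ))) = (w i).val := fun w => by
      show ∑ l, (Pi.single i (1 : ℤ) : Fin a → ℤ) l * _ = _
      rw [Finset.sum_eq_single i (fun l _ hl => by rw [Pi.single_eq_of_ne hl, zero_mul])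
        (fun h => absurd (Finset.mem_univ i) h), Pi.single_eq_same, _root_.one_mul]
    rw [hE, hE, zpow_natCast, zpow_natCast, Units.val_pow_eq_pow_val, Units.val_pow_eq_pow_val] at h2
    exact ZMod.val_injective ℓ (hζ.pow_inj (ZMod.val_lt _) (ZMod.val_lt _) h2)
  have hcard := Fintype.card_le_of_injective F hF
  rw [Fintype.card_fun, Fintype.card_fun, ZMod.card, Fintype.card_fin, Fintype.card_fin, Fintype.card_fin] at hcard
  exact (Nat.pow_le_pow_iff_right hprime.one_lt).mp hcard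

variable {S : Scheme.{u}}

/-- Zariski locally split of constant rank `r`. -/
def HasRank (T : Over S) [GrpObj T] (r : ℕ) : Prop :=
  ∀ s : ↥S, ∃ U : S.Opens, s ∈ U ∧ Red.IsSplitTorusWith (Fin r → ℤ) (Red.bc U.ι T)

theorem nonempty_bc_id (T : Over S) [GrpObj T] : Nonempty (Grp.mk (Red.bc (𝟙 S) T) ≅ Grp.mk T) :=
  ⟨(Functor.mapGrpNatIso (Over.pullbackId (X := S)) ≪≫ Functor.mapGrpIdIso).app (Grp.mk T)⟩

theorem hasRank_of_split {T : Over S} [GrpObj T] {r : ℕ} (h : Red.IsSplitTorusWith (Fin r → ℤ) T) : HasRank T r :=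
  fun s => by
    obtain ⟨e⟩ := h
    obtain ⟨a⟩ := GrpSchLib.MultTypeBC.bc_iso (⊤ : S.Opens).ι e
    obtain ⟨b⟩ := GrpSchLib.MultTypeBC.bc_DS (⊤ : S.Opens).ι (Fin r → ℤ)
    exact ⟨⊤, trivial, ⟨a ≪≫ b⟩⟩

theorem locallySplit_of_hasRank {T : Over S} [GrpObj T] {r : ℕ} (h : HasRank T r) :
    ∀ s : ↥S, ∃ U : S.Opens, s ∈ U ∧ ∃ r : ℕ, Red.IsSplitTorusWith (Fin r → ℤ) (Red.bc U.ι T) := fun s => by
  obtain ⟨U, hs, hU⟩ := h s
  exact ⟨U, hs, r, hU⟩

theorem split_fibre_of_mem {T : Over S} [GrpObj T] {r : ℕ} {U : S.Opens}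
    (h : Red.IsSplitTorusWith (Fin r → ℤ) (Red.bc U.ι T)) {K : Type u} [Field K] (g : Spec (CommRingCat.of K) ⟶ S)
    (hg : g (IsLocalRing.closedPoint K) ∈ U) : Red.IsSplitTorusWith (Fin r → ℤ) (Red.bc g T) := by
  obtain ⟨e⟩ := h
  let l : Spec (CommRingCat.of K) ⟶ (U : Scheme.{u}) := IsOpenImmersion.lift U.ι g (by
    rintro _ ⟨x, rfl⟩
    rw [Scheme.Opens.range_ι, show x = IsLocalRing.closedPoint K from Subsingleton.elim (α := PrimeSpectrum K) _ _]
    exact hg)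
  obtain ⟨a⟩ := GrpSchLib.MultTypeBC.bc_congr (IsOpenImmersion.lift_fac U.ι g _ : l ≫ U.ι = g).symm T
  obtain ⟨b⟩ := GrpSchLib.MultTypeBC.bc_bc l U.ι T
  obtain ⟨c⟩ := GrpSchLib.MultTypeBC.bc_iso l e
  obtain ⟨d⟩ := GrpSchLib.MultTypeBC.bc_DS l (Fin r → ℤ)
  exact ⟨a ≪≫ b.symm ≪≫ c ≪≫ d⟩

theorem HasRank.split_fibre {T : Over S} [GrpObj T] {r : ℕ} (h : HasRank T r) {K : Type u} [Field K]
    (g : Spec (CommRingCat.of K) ⟶ S) : Red.IsSplitTorusWith (Fin r → ℤ) (Red.bc g T) := by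
  obtain ⟨U, hs, hU⟩ := h (g (IsLocalRing.closedPoint K))
  exact split_fibre_of_mem hU g hs

theorem rank_le_card_of_fibre {T G : Over S} [GrpObj T] [GrpObj G] (v : T ⟶ G) [IsMonHom v] [Mono v]
    {K : Type u} [Field K] [IsAlgClosed K] (g : Spec (CommRingCat.of K) ⟶ S) {a n : ℕ} {M : Type} [AddCommGroup M]
    (m : Fin n → M) (hm : ∀ x, x ∈ AddSubgroup.closure (Set.range m))
    (hT : Red.IsSplitTorusWith (Fin a → ℤ) (Red.bc g T))
    (e : Grp.mk (Red.bc g G) ≅ Grp.mk (Red.DS (Spec (CommRingCat.of K)) M)) : a ≤ n := by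
  obtain ⟨t⟩ := hT
  let ti : Red.bc g T ≅ Red.DS _ (Fin a → ℤ) := ⟨t.hom.hom.hom, t.inv.hom.hom, congrArg (fun h => h.hom.hom) t.hom_inv_id,
    congrArg (fun h => h.hom.hom) t.inv_hom_id⟩
  let ei : Red.bc g G ≅ Red.DS _ M := ⟨e.hom.hom.hom, e.inv.hom.hom, congrArg (fun h => h.hom.hom) e.hom_inv_id,
    congrArg (fun h => h.hom.hom) e.inv_hom_id⟩
  haveI : IsMonHom ti.inv := t.inv.hom.isMonHom_hom
  haveI : IsMonHom ei.hom := e.hom.hom.isMonHom_hom
  haveI : (Over.pullback g).PreservesMonomorphisms :=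
    Functor.preservesMonomorphisms_of_adjunction (Over.mapPullbackAdj g)
  let w : Red.DS (Spec (CommRingCat.of K)) (Fin a → ℤ) ⟶ Red.DS (Spec (CommRingCat.of K)) M :=
    ti.inv ≫ (Over.pullback g).map v ≫ ei.hom
  haveI : IsMonHom w := inferInstanceAs (IsMonHom (ti.inv ≫ (Over.pullback g).map v ≫ ei.hom))
  haveI : Mono w := mono_comp _ _
  exact rank_le_card m hm w

theorem closure_pi_single (r : ℕ) (x : Fin r → ℤ) :
    x ∈ AddSubgroup.closure (Set.range fun i : Fin r => (Pi.single i (1 : ℤ) : Fin r → ℤ)) := by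
  rw [show x = ∑ i, x i • (Pi.single i (1 : ℤ) : Fin r → ℤ) by ext l; simp [Finset.sum_apply, Pi.single_apply]]
  exact sum_mem fun i _ => AddSubgroup.zsmul_mem _ (AddSubgroup.subset_closure (Set.mem_range_self i)) _

theorem HasRank.le [Nonempty ↥S] {T T' : Over S} [GrpObj T] [GrpObj T'] {r r' : ℕ} (h : HasRank T r)
    (h' : HasRank T' r') (v : T ⟶ T') [IsMonHom v] [Mono v] : r ≤ r' := by
  obtain ⟨s⟩ := ‹Nonempty ↥S›
  obtain ⟨e⟩ := h'.split_fibre (Red.geomPt s)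
  exact rank_le_card_of_fibre v (Red.geomPt s) _ (closure_pi_single r') (h.split_fibre (Red.geomPt s)) e

theorem HasRank.isIso {T T' : Over S} [GrpObj T] [GrpObj T'] {r : ℕ} (h : HasRank T r) (h' : HasRank T' r)
    (v : T ⟶ T') [IsMonHom v] [Mono v] : IsIso v := by
  have key : ∀ {X : Over S} [GrpObj X], HasRank X r → Red.IsTorus X := fun {X} _ hX =>
    ⟨S, 𝟙 S, inferInstance, inferInstance, fun V hV => ⟨V, hV.isCompact, by simp⟩, fun s => by
      obtain ⟨U, hs, ⟨e⟩⟩ := hX s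
      obtain ⟨e'⟩ := GrpSchLib.MultTypeBC.bc_congr (Category.comp_id U.ι) X
      exact ⟨U, hs, r, ⟨e' ≪≫ e⟩⟩⟩
  exact S16611.result (key h) (key h') v fun s => ⟨r, h.split_fibre (Red.geomPt s), h'.split_fibre (Red.geomPt s)⟩

/-- The rank of a subtorus of a group of multiplicative type of finite type is bounded. -/
theorem exists_rank_bound [Nonempty ↥S] {G : Over S} [GrpObj G] (hG : SGA3x.IsMultTypeFT G) :
    ∃ N : ℕ, ∀ (T : Over S) [GrpObj T] (v : T ⟶ G) [IsMonHom v] [Mono v] (r : ℕ), HasRank T r → r ≤ N := by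
  classical
  obtain ⟨S', f, -, hsurj, -, hloc⟩ := hG
  obtain ⟨s⟩ := ‹Nonempty ↥S›
  obtain ⟨s', -⟩ := hsurj.1 s
  obtain ⟨U, hs', M, iM, hfg, ⟨e⟩⟩ := hloc s'
  let l := Red.geomPt (S := (U : Scheme.{u})) ⟨s', hs'⟩
  obtain ⟨F, hF⟩ := (AddGroup.fg_iff (G := M)).mp hfg |> fun ⟨F, hF, hfin⟩ => (⟨hfin.toFinset, by simpa using hF⟩ :
    ∃ F : Finset M, AddSubgroup.closure (F : Set M) = ⊤)
  refine ⟨F.card, fun T _ v _ _ r hr => ?_⟩
  obtain ⟨a⟩ := GrpSchLib.MultTypeBC.bc_bc l (U.ι ≫ f) G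
  obtain ⟨b⟩ := GrpSchLib.MultTypeBC.bc_iso l e
  obtain ⟨c⟩ := GrpSchLib.MultTypeBC.bc_DS l M
  refine rank_le_card_of_fibre v (l ≫ U.ι ≫ f) (fun i => (F.equivFin.symm i : M)) (fun x => ?_) (hr.split_fibre _)
    (a.symm ≪≫ b ≪≫ c)
  refine AddSubgroup.closure_mono ?_ (by rw [hF]; trivial : x ∈ AddSubgroup.closure (F : Set M))
  exact fun y hy => ⟨F.equivFin ⟨y, hy⟩, by simp⟩

/-- Over a connected base a locally split torus has constant rank. -/
theorem exists_hasRank [ConnectedSpace ↥S] {T : Over S} [GrpObj T]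
    (h : ∀ s : ↥S, ∃ U : S.Opens, s ∈ U ∧ ∃ r : ℕ, Red.IsSplitTorusWith (Fin r → ℤ) (Red.bc U.ι T)) :
    ∃ r, HasRank T r := by
  choose U hU r hr using h
  have huniq : ∀ s t : S, t ∈ U s → r t = r s := fun s t hts => by
    have hpt : Red.geomPt t (IsLocalRing.closedPoint _) = t := by
      show (_ ≫ S.fromSpecResidueField t) _ = t
      rw [Scheme.Hom.comp_apply, Scheme.fromSpecResidueField_apply]
    have h1 := split_fibre_of_mem (hr s) (Red.geomPt t) (by rw [hpt]; exact hts)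
    have h2 := split_fibre_of_mem (hr t) (Red.geomPt t) (by rw [hpt]; exact hU t)
    obtain ⟨e1⟩ := h1
    obtain ⟨e2⟩ := h2
    obtain ⟨e0⟩ := nonempty_bc_id (Red.bc (Red.geomPt t) T)
    exact le_antisymm
      (rank_le_card_of_fibre (𝟙 (Red.bc (Red.geomPt t) T)) (𝟙 _) _ (closure_pi_single _) ⟨e0 ≪≫ e2⟩ (e0 ≪≫ e1))
      (rank_le_card_of_fibre (𝟙 (Red.bc (Red.geomPt t) T)) (𝟙 _) _ (closure_pi_single _) ⟨e0 ≪≫ e1⟩ (e0 ≪≫ e2))
  have hlc : IsLocallyConstant r := (IsLocallyConstant.iff_exists_open r).mpr fun s =>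
    ⟨U s, (U s).2, hU s, fun t ht => huniq s t ht⟩
  obtain ⟨s₀⟩ := (inferInstance : Nonempty ↥S)
  exact ⟨r s₀, fun s => ⟨U s, hU s, by rw [hlc.apply_eq_of_preconnectedSpace s₀ s]; exact hr s⟩⟩

theorem mono_of_rank_zero {G : Over S} (v : Red.DS S (Fin 0 → ℤ) ⟶ G) : Mono v := by
  refine ⟨fun {Y} a b _ => Over.OverMorphism.ext (Scheme.Cover.hom_ext Y.left.affineCover _ _ fun i => ?_)⟩
  obtain ⟨C, hC⟩ : ∃ C : CommRingCat.{u}, Y.left.affineCover.X i = Spec C := ⟨_, rfl⟩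
  obtain ⟨io, hio⟩ : ∃ io : Spec C ⟶ Y.left, Y.left.affineCover.f i = eqToHom hC ≫ io :=
    ⟨eqToHom hC.symm ≫ Y.left.affineCover.f i, by simp⟩
  rw [hio, Category.assoc, Category.assoc]
  congr 1
  let j : Spec (CommRingCat.of C) ⟶ S := io ≫ Y.hom
  let y : DSPtsLib.spU j ⟶ Y := Over.homMk io rfl
  obtain ⟨c, hc⟩ := DSPtsLib.exists_eq_pt j (y ≫ a)
  obtain ⟨d, hd⟩ := DSPtsLib.exists_eq_pt j (y ≫ b)
  have h : y ≫ a = y ≫ b := by
    rw [hc, hd]
    congr 1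
    exact coord_ext fun m => by rw [Subsingleton.elim m 1]; exact (map_one c).trans (map_one d).symm
  exact congrArg (fun m => Over.Hom.left m) h

theorem isMonHom_one' (A B : Over S) [GrpObj A] [GrpObj B] : IsMonHom (1 : A ⟶ B) :=
  isMonHom_of_mul _ fun T a b => by simp

/-- The trivial subtorus. -/
theorem exists_rank_zero (G : Over S) [GrpObj G] :
    ∃ v : Red.DS S (Fin 0 → ℤ) ⟶ G, IsMonHom v ∧ Mono v :=
  ⟨(1 : Red.DS S (Fin 0 → ℤ) ⟶ G), isMonHom_one' (Red.DS S (Fin 0 → ℤ)) G, mono_of_rank_zero _⟩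

theorem exists_fun_max {P : ℕ → Prop} (N : ℕ) (hP : ∀ r, P r → r ≤ N) (h0 : P 0) :
    ∃ r, P r ∧ ∀ r', P r' → r' ≤ r := by
  classical
  exact ⟨Nat.findGreatest P N, Nat.findGreatest_spec (Nat.zero_le N) h0, fun r hr => Nat.le_findGreatest (hP r hr) hr⟩

/-- Over a connected base two split subtori lie in a split subtorus. -/
theorem exists_sum_split [ConnectedSpace ↥S] {G : Over S} [GrpObj G] (hG : SGA3x.IsMultTypeFT G) {E₁ E₂ : Over S}
    [GrpObj E₁] [GrpObj E₂] (j₁ : E₁ ⟶ G) [IsMonHom j₁] (j₂ : E₂ ⟶ G) [IsMonHom j₂] {r₁ r₂ : ℕ}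
    (h₁ : Red.IsSplitTorusWith (Fin r₁ → ℤ) E₁) (h₂ : Red.IsSplitTorusWith (Fin r₂ → ℤ) E₂) :
    ∃ (E₃ : Over S) (_ : GrpObj E₃) (j₃ : E₃ ⟶ G) (g₁ : E₁ ⟶ E₃) (g₂ : E₂ ⟶ E₃) (r₃ : ℕ), IsMonHom j₃ ∧ Mono j₃ ∧
      Red.IsSplitTorusWith (Fin r₃ → ℤ) E₃ ∧ g₁ ≫ j₃ = j₁ ∧ g₂ ≫ j₃ = j₂ := by
  haveI : IsAffineHom G.hom := (TransLib.multTypeFT_essFree hG).1
  haveI : LocallyOfFiniteType G.hom := GrpSchLib.MultTypeLft.lft hG
  haveI : IsAffineHom E₁.hom := (TransLib.multTypeFT_essFree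
    (isMultTypeFT_of_locallySplit (locallySplit_of_hasRank (hasRank_of_split h₁)))).1
  haveI : IsAffineHom E₂.hom := (TransLib.multTypeFT_essFree
    (isMultTypeFT_of_locallySplit (locallySplit_of_hasRank (hasRank_of_split h₂)))).1
  haveI : QuasiCompact (E₁ ⊗ E₂).hom := inferInstanceAs (QuasiCompact (pullback.fst E₁.hom E₂.hom ≫ E₁.hom))
  let f : E₁ ⊗ E₂ ⟶ G := (fst E₁ E₂ ≫ j₁) * (snd E₁ E₂ ≫ j₂)
  haveI : IsMonHom f := isMonHom_of_mul f fun T a b => by
    simp only [f, MonObj.comp_mul, ← Category.assoc, MonObj.mul_comp]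
    rw [_root_.mul_assoc, _root_.mul_assoc]
    congr 1
    rw [← _root_.mul_assoc, ← _root_.mul_assoc]
    congr 1
    exact GrpSchLib.MultTypeComm.points_comm hG _ _
  obtain ⟨e₁⟩ := h₁
  obtain ⟨e₂⟩ := h₂
  obtain ⟨a₁⟩ := nonempty_bc_id (E₁ ⊗ E₂)
  obtain ⟨a₂⟩ := nonempty_tensor_iso e₁ e₂
  obtain ⟨a₃⟩ := nonempty_DS_prod_iso (U := S) (M := Fin r₁ → ℤ) (N := Fin r₂ → ℤ)
  obtain ⟨s⟩ := (inferInstance : Nonempty ↥S)
  obtain ⟨V, hs, hcl, F, Λ, hΛ, ⟨eQ⟩⟩ := exists_fact_clopen f (𝟙 S) (a₁ ≪≫ a₂ ≪≫ a₃.symm) s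
  have hV : V = ⊤ := SetLike.coe_injective
    (IsClopen.eq_univ ⟨hcl, V.2⟩ ⟨s, hs⟩)
  subst hV
  obtain ⟨Q, iQ, j, hj, p, hp, hclosed, -, -, hfac, huniv⟩ :=
    Image.exists_image f (𝟙 S) (fun W hW => ⟨W, hW.isCompact, by simp⟩) (fun t => ⟨⊤, trivial, ⟨F⟩⟩)
  haveI := hclosed
  haveI : Module.Finite ℤ Λ := Module.Finite.iff_addGroup_fg.mpr ((AddGroup.fg_iff_addSubgroup_fg Λ).mpr hΛ)
  obtain ⟨b⟩ : Nonempty (Module.Basis (Fin (Module.finrank ℤ Λ)) ℤ Λ) := ⟨Module.finBasis ℤ Λ⟩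
  refine ⟨Q, iQ, j, lift (𝟙 E₁) 1 ≫ p, lift 1 (𝟙 E₂) ≫ p, Module.finrank ℤ Λ, hj, Over.mono_of_mono_left _, ?_, ?_, ?_⟩
  · let i : S ⟶ ((⊤ : S.Opens) : Scheme.{u}) := S.topIso.inv
    obtain ⟨b₁⟩ := huniv _ ((⊤ : S.Opens).ι ≫ 𝟙 S) inferInstance F
    obtain ⟨b₂⟩ := GrpSchLib.MultTypeBC.bc_iso i (b₁ ≪≫ eQ)
    obtain ⟨b₃⟩ := GrpSchLib.MultTypeBC.bc_bc i ((⊤ : S.Opens).ι ≫ 𝟙 S) Q
    obtain ⟨b₄⟩ := GrpSchLib.MultTypeBC.bc_congr (show i ≫ (⊤ : S.Opens).ι ≫ 𝟙 S = 𝟙 S by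
      rw [Category.comp_id]; exact S.topIso.inv_hom_id) Q
    obtain ⟨b₅⟩ := nonempty_bc_id Q
    obtain ⟨b₆⟩ := GrpSchLib.MultTypeBC.bc_DS i Λ
    obtain ⟨b₇⟩ := nonempty_DS_iso S b.equivFun.toAddEquiv
    exact ⟨b₅.symm ≪≫ b₄.symm ≪≫ b₃.symm ≪≫ b₂ ≪≫ b₆ ≪≫ b₇⟩
  · rw [Category.assoc, hfac, MonObj.comp_mul, lift_fst_assoc, lift_snd_assoc, Category.id_comp, MonObj.one_comp,
      _root_.mul_one]
  · rw [Category.assoc, hfac, MonObj.comp_mul, lift_fst_assoc, lift_snd_assoc, Category.id_comp, MonObj.one_comp,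
      _root_.one_mul]

theorem isMonHom_of_comp_mono {A B C : Over S} [GrpObj A] [GrpObj B] [GrpObj C] {g : A ⟶ B} {i : B ⟶ C} [IsMonHom i]
    [Mono i] {h : A ⟶ C} [IsMonHom h] (e : g ≫ i = h) : IsMonHom g where
  one_hom := by rw [← cancel_mono i, Category.assoc, e, IsMonHom.one_hom h, IsMonHom.one_hom i]
  mul_hom := by
    rw [← cancel_mono i, Category.assoc, e, IsMonHom.mul_hom h, Category.assoc, IsMonHom.mul_hom i,
      MonoidalCategory.tensorHom_comp_tensorHom_assoc, e]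

end Groth.Agent.SgaFix20
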