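import Groth.Agent.GrpSchLib.HomSplitLocal
import Groth.Agent.GrpSchLib.HomMonoLocus
import Groth.Agent.S5427

/-!
# Functoriality of diagonalisable groups on points
-/

universe u

open CategoryTheory CategoryTheory.Limits MonoidalCategory CartesianMonoidalCategory MonObj AlgebraicGeometry

set_option backward.isDefEq.respectTransparency false
set_option linter.style.haveILetI false

namespace Groth.Agent.SgaFix20

open DSPtsLib (CoordM pt)
open GrpSchLib.SubgroupFactor (pull)

variable {M N : Type} [AddCommGroup M] [AddCommGroup N]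

theorem pt_DSmap {U : Scheme.{u}} (φ : M →+ N) {B : Type u} [CommRing B] (j : Spec (CommRingCat.of B) ⟶ U)
    (c : CoordM.{u} N →+* B) : pt j c ≫ Red.DSmap U φ = pt j (pull φ c) := by
  refine Over.OverMorphism.ext (pullback.hom_ext ?_ ?_)
  · rw [Over.comp_left, Category.assoc, DSPtsLib.pt_fst]
    show (pt j c).left ≫ ((Over.pullback _).map (Red.diagMap (ULift.{u} ℤ) φ)).left ≫ pullback.fst _ _ = _
    rw [GrpSchLib.HomSplitLocal.map_fst, ← Category.assoc]
    show ((pt j c).left ≫ pullback.fst _ _) ≫ _ = _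
    rw [DSPtsLib.pt_fst]
    exact (Spec.map_comp _ _).symm
  · exact (Over.w (pt j c ≫ Red.DSmap U φ)).trans (pullback.lift_snd _ _ _).symm

theorem covers_DSmap (S : Scheme.{u}) (φ : M →+ N) (hφ : Function.Injective φ) :
    FpqcDescLib.Covers (Red.DSmap S φ).left := by
  obtain ⟨h1, h2⟩ := GrpSchLib.HomSplitLocal.flat_surjective_of_injective (ULift.{u} ℤ) φ hφ
  haveI : Flat (Red.diagMap (ULift.{u} ℤ) φ).left := h1
  haveI : Surjective (Red.diagMap (ULift.{u} ℤ) φ).left := h2
  haveI : QuasiCompact (Red.diagMap (ULift.{u} ℤ) φ).left :=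
    inferInstanceAs (QuasiCompact (Spec.map (CommRingCat.ofHom
      (MonoidAlgebra.mapDomainAlgHom (ULift.{u} ℤ) (ULift.{u} ℤ) (AddMonoidHom.toMultiplicative φ)).toRingHom)))
  exact (FpqcDescLib.covers_of_isCovering
    (FpqcDescLib.isCovering_of_quasiCompact (Red.diagMap (ULift.{u} ℤ) φ).left)).pullback _ _ _
      (GrpSchLib.HomSplitLocal.isPullback_map (Red.diagMap (ULift.{u} ℤ) φ)
        (IsTerminal.from specULiftZIsTerminal S)).flip

theorem DSmap_comp {P : Type} [AddCommGroup P] (S : Scheme.{u}) (φ : M →+ N) (ψ : N →+ P) :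
    Red.DSmap S ψ ≫ Red.DSmap S φ = Red.DSmap S (ψ.comp φ) := by
  rw [Red.DSmap, Red.DSmap, Red.DSmap, ← Functor.map_comp]
  congr 1
  ext1
  simp only [Red.diagMap, Over.comp_left]
  change Spec.map _ ≫ Spec.map _ = Spec.map _
  rw [← Spec.map_comp]
  congr 1
  ext1
  exact RingHom.ext fun x => by
    induction x using MonoidAlgebra.induction_linear with
    | zero => simp
    | add a b ha hb => simp only [map_add, ha, hb]
    | single m c => simp

theorem DSmap_id (S : Scheme.{u}) : Red.DSmap S (AddMonoidHom.id M) = 𝟙 _ := by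
  rw [Red.DSmap, show Red.diagMap (ULift.{u} ℤ) (AddMonoidHom.id M) = 𝟙 _ from ?_, CategoryTheory.Functor.map_id]
  ext1
  change Spec.map _ = 𝟙 _
  rw [← Spec.map_id]
  congr 1
  ext1
  exact RingHom.ext fun x => by
    induction x using MonoidAlgebra.induction_linear with
    | zero => simp
    | add a b ha hb => simp only [map_add, ha, hb]
    | single m c => simp

/-- Isomorphic character groups give isomorphic diagonalisable groups. -/
theorem nonempty_DS_iso (S : Scheme.{u}) (e : M ≃+ N) : Nonempty (Grp.mk (Red.DS S M) ≅ Grp.mk (Red.DS S N)) := by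
  let i : Red.DS S M ≅ Red.DS S N := ⟨Red.DSmap S e.symm.toAddMonoidHom, Red.DSmap S e.toAddMonoidHom, by
    rw [DSmap_comp, show e.symm.toAddMonoidHom.comp e.toAddMonoidHom = AddMonoidHom.id M from
      AddMonoidHom.ext fun x => e.symm_apply_apply x, DSmap_id], by
    rw [DSmap_comp, show e.toAddMonoidHom.comp e.symm.toAddMonoidHom = AddMonoidHom.id N from
      AddMonoidHom.ext fun x => e.apply_symm_apply x, DSmap_id]⟩
  haveI : IsMonHom i.hom := S5427.isMonHom_DSmap S _
  exact ⟨Grp.mkIso' i⟩

end Groth.Agent.SgaFix20
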