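import Groth.Agent.SgaFix20.DSFact
import Groth.Agent.RedSub30.TorusClosed
import Groth.Agent.FpqcDescLib.Diagonal
import Groth.Agent.SrcDescent.SchemeFppf
import Groth.Agent.SgaFix20.MultTypeLfp
import Groth.Agent.GrpSchLib.RankOneNonComm
import Mathlib.LinearAlgebra.FreeModule.PID

/-!
# Quotients of tori by subgroups of multiplicative type

The quotient is separated and of finite presentation, so the projection factors locally through a split torus by a
faithfully flat homomorphism and a closed immersion, which is then an isomorphism.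
-/

universe u

open CategoryTheory CategoryTheory.Limits MonoidalCategory CartesianMonoidalCategory MonObj AlgebraicGeometry

set_option backward.isDefEq.respectTransparency false
set_option linter.style.haveILetI false
set_option synthInstance.maxHeartbeats 200000

namespace Groth.Agent.SgaFix20.TorusQuot

variable {S : Scheme.{u}} {T H Q : Over S} [GrpObj T] [GrpObj H] [GrpObj Q]

theorem quotient_finiteness (hT : SGA3x.IsMultTypeFT T) (i : H ⟶ T) [IsMonHom i] [Mono i]
    (hH : SGA3x.IsMultTypeFT H) (q : T ⟶ Q) (hq : RedSub.IsQuotient i q) :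
    IsSeparated Q.hom ∧ QuasiCompact Q.hom ∧ LocallyOfFiniteType Q.hom := by
  haveI : IsAffineHom T.hom := (TransLib.multTypeFT_essFree hT).1
  haveI : IsClosedImmersion i.left := RedSub30.TorusClosed.isClosedImmersion_of_mono i hH
  haveI := hq.1
  haveI := hq.2.1
  haveI := hq.2.2.1
  have hp : FpqcDescLib.Covers q.left := RedSub30.covers_of_isQuotient hq
  let g := (T ◁ i) ≫ μ[T]
  let sh : T ⊗ T ⟶ T ⊗ T := lift (fst T T) (fst T T * snd T T)
  let sh' : T ⊗ T ⟶ T ⊗ T := lift (fst T T) ((fst T T)⁻¹ * snd T T)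
  haveI : IsIso sh := ⟨⟨sh', by
    refine CartesianMonoidalCategory.hom_ext _ _ (by simp [sh, sh']) ?_
    rw [Category.assoc, lift_snd, MonObj.comp_mul, GrpObj.comp_inv, lift_fst, lift_snd, inv_mul_cancel_left,
      Category.id_comp], by
    refine CartesianMonoidalCategory.hom_ext _ _ (by simp [sh, sh']) ?_
    rw [Category.assoc, lift_snd, MonObj.comp_mul, lift_fst, lift_snd, mul_inv_cancel_left, Category.id_comp]⟩⟩
  haveI : IsClosedImmersion (T ◁ i).left :=
    MorphismProperty.of_isPullback (P := @IsClosedImmersion)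
      ((FpqcDescLib.isPullback_whiskerLeft i T).map (Over.forget S)).flip ‹IsClosedImmersion i.left›
  have he : lift (fst T H) g = (T ◁ i) ≫ sh := by
    refine CartesianMonoidalCategory.hom_ext _ _ (by simp [sh]) ?_
    rw [lift_snd, Category.assoc, lift_snd]
    show (T ◁ i) ≫ μ[T] = _
    rw [MonObj.mul_eq_mul]
  haveI : IsClosedImmersion (lift (fst T H) g).left := by
    haveI : IsIso sh.left := (inferInstance : IsIso ((Over.forget S).map sh))
    rw [he, Over.comp_left]
    infer_instance
  refine ⟨FpqcDescLib.isSeparated_of_isClosedImmersion_graph hp hq.2.2.2, ?_, ?_⟩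
  · haveI : QuasiCompact (q.left ≫ Q.hom) := by rw [Over.w q]; infer_instance
    refine ⟨fun V hV hc => ?_⟩
    have h := (QuasiCompact.isCompact_preimage (f := q.left ≫ Q.hom) V hV hc).image q.left.continuous
    rwa [Scheme.Hom.comp_base, TopCat.coe_comp, Set.preimage_comp,
      Set.image_preimage_eq _ q.left.surjective] at h
  · haveI : LocallyOfFiniteType T.hom := GrpSchLib.MultTypeLft.lft hT
    haveI : LocallyOfFiniteType (q.left ≫ Q.hom) := by rw [Over.w q]; infer_instance
    exact SrcDescent.locallyOfFiniteType_of_fppf_comp q.left Q.hom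

/-- Near each point of a splitting the quotient is a split torus of no greater rank. -/
theorem exists_piece (hT : SGA3x.IsMultTypeFT T) (i : H ⟶ T) [IsMonHom i] [Mono i] (hH : SGA3x.IsMultTypeFT H)
    (q : T ⟶ Q) [IsMonHom q] (hq : RedSub.IsQuotient i q) {U : Scheme.{u}} (g : U ⟶ S) {r : ℕ}
    (e : Grp.mk (Red.bc g T) ≅ Grp.mk (Red.DS U (Fin r → ℤ))) (w : U) :
    ∃ V : U.Opens, w ∈ V ∧ IsClosed (V : Set U) ∧
      ∃ r' ≤ r, Red.IsSplitTorusWith (Fin r' → ℤ) (Red.bc (V.ι ≫ g) Q) := by
  obtain ⟨_, _, _⟩ := quotient_finiteness hT i hH q hq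
  haveI : IsAffineHom T.hom := (TransLib.multTypeFT_essFree hT).1
  obtain ⟨V, hw, hcl, F, Λ, hΛ, ⟨eQ⟩⟩ := exists_fact_clopen q g e w
  refine ⟨V, hw, hcl, ?_⟩
  let t := V.ι ≫ g
  haveI : QuasiCompact (Red.bc t T).hom := inferInstanceAs (QuasiCompact (pullback.snd T.hom t))
  haveI : IsSeparated (Red.bc t Q).hom := inferInstanceAs (IsSeparated (pullback.snd Q.hom t))
  haveI := F.closed
  haveI : IsClosedImmersion (𝟙 (Red.bc t Q) : Red.bc t Q ⟶ Red.bc t Q).left :=
    inferInstanceAs (IsClosedImmersion (𝟙 _))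
  haveI : Flat ((Over.pullback t).map q).left :=
    MorphismProperty.of_isPullback (P := @Flat) (GrpSchLib.HomSplitLocal.isPullback_map q t) hq.2.1
  haveI : Surjective ((Over.pullback t).map q).left :=
    MorphismProperty.of_isPullback (P := @Surjective) (GrpSchLib.HomSplitLocal.isPullback_map q t) hq.1
  obtain ⟨k, hk, -⟩ := Image.exists_hom (C := Red.bc t Q) ((Over.pullback t).map q) (𝟙 (Red.bc t Q)) F.p F.j
    (by rw [Category.comp_id, F.fac])
  haveI : Mono F.j := Over.mono_of_mono_left _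
  haveI : IsIso F.j := ⟨⟨k, by rw [← cancel_mono F.j, Category.assoc, hk, Category.comp_id, Category.id_comp], hk⟩⟩
  haveI : Module.Finite ℤ Λ := Module.Finite.iff_addGroup_fg.mpr ((AddGroup.fg_iff_addSubgroup_fg Λ).mpr hΛ)
  obtain ⟨b⟩ : Nonempty (Module.Basis (Fin (Module.finrank ℤ Λ)) ℤ Λ) := ⟨Module.finBasis ℤ Λ⟩
  refine ⟨Module.finrank ℤ Λ, ?_, ?_⟩
  · refine le_trans ?_ (le_of_eq (Module.finrank_fin_fun ℤ (n := r)))
    exact LinearMap.finrank_le_finrank_of_injective (f := Λ.subtype.toIntLinearMap) Subtype.val_injective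
  · obtain ⟨e'⟩ := nonempty_DS_iso (V : Scheme.{u}) b.equivFun.toAddEquiv
    exact ⟨(Grp.mkIso' (asIso F.j)).symm ≪≫ eQ ≪≫ e'⟩

end Groth.Agent.SgaFix20.TorusQuot
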