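import Groth.Agent.SgaFix20.Commutator
import Groth.Agent.RedEasy38.TorusConn
import Groth.Agent.GrpSchLib.RankOneNonComm
import Groth.Agent.GrpSchLib.MultTypeComm
import Groth.Agent.GrpSchLib.AntiAffineHom
import Groth.Prelude.Def_RedSub

/-!
# A central extension of a torus is commutative
-/

universe u

open CategoryTheory CategoryTheory.Limits MonoidalCategory CartesianMonoidalCategory MonObj AlgebraicGeometry

set_option backward.isDefEq.respectTransparency false
set_option linter.style.haveILetI false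

noncomputable section

namespace Groth.Agent.SgaFix20

variable {S : Scheme.{u}}

/-- The covering underlying a quotient. -/
theorem covers_of_isQuotient {G H Q : Over S} [GrpObj G] {i : H ⟶ G} {q : G ⟶ Q} (hq : RedSub.IsQuotient i q) :
    FpqcDescLib.Covers q.left := by
  obtain ⟨hs, hf, hfp, -⟩ := hq
  exact FpqcDescLib.covers_of_isCovering (FpqcDescLib.isCovering_of_isOpenMap q.left (Scheme.Hom.isOpenMap q.left))

/-- Two points with the same image in a quotient differ by a point of the subgroup. -/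
theorem exists_of_quotient_eq {G H Q : Over S} [GrpObj G] {i : H ⟶ G} {q : G ⟶ Q} (hq : RedSub.IsQuotient i q)
    {X : Over S} {a b : X ⟶ G} (h : a ≫ q = b ≫ q) : ∃ k : X ⟶ H, b = a * (k ≫ i) := by
  obtain ⟨l, h1, h2⟩ := hq.2.2.2.exists_lift a b h
  refine ⟨l ≫ snd G H, ?_⟩
  rw [← h2, ← h1, Hom.mul_def, ← Category.assoc l]
  congr 1
  ext1 <;> simp

/-- A point of a subgroup with trivial image. -/
theorem exists_of_map_eq_one {G H Q : Over S} [GrpObj G] [GrpObj Q] {i : H ⟶ G} {q : G ⟶ Q} [IsMonHom q]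
    (hq : RedSub.IsQuotient i q) {X : Over S} {a : X ⟶ G} (h : a ≫ q = 1) : ∃ k : X ⟶ H, a = k ≫ i := by
  obtain ⟨k, hk⟩ := exists_of_quotient_eq hq (a := 1) (b := a) (by rw [h, MonObj.one_comp])
  exact ⟨k, hk.trans (_root_.one_mul _)⟩

/-- A central extension of a torus over a field is commutative. -/
theorem comm_of_central_torus {K : Type u} [Field K] {G Z G' : Over (Spec (CommRingCat.of K))} [GrpObj G] [GrpObj G']
    [LocallyOfFiniteType G.hom] (z : Z ⟶ G)
    (hz : ∀ (X : Over (Spec (CommRingCat.of K))) (x : X ⟶ Z) (g : X ⟶ G), Commute (x ≫ z) g)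
    (q : G ⟶ G') [IsMonHom q] (hq : RedSub.IsQuotient z q) (hT : Red.IsTorus G')
    (X : Over (Spec (CommRingCat.of K))) (g h : X ⟶ G) : g * h = h * g := by
  have hmt := GrpSchLib.RankOne.isMultTypeFT_of_isTorus hT
  haveI := GrpSchLib.AntiAffine.isSeparated_grp G
  have hcm : ∀ {Y : Over (Spec (CommRingCat.of K))} (a b : Y ⟶ G'), a * b = b * a := fun a b =>
    GrpSchLib.MultTypeComm.points_comm hmt a b
  have hfib : ∀ (Y : Over (Spec (CommRingCat.of K))) (x x' b : Y ⟶ G), x ≫ q = x' ≫ q →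
      Commute (x⁻¹ * x') b := fun Y x x' b e => by
    obtain ⟨k, rfl⟩ := exists_of_quotient_eq hq e
    rw [inv_mul_cancel_left]
    exact hz Y k b
  have hcov := covers_of_isQuotient hq
  obtain ⟨d, hd, hdm⟩ := exists_pairing (𝟙 G) q hcov (𝟙 G)
    (fun Y x x' b e => by simpa using hfib Y x x' b e)
    fun Y a y b => by
      obtain ⟨k, hk⟩ := exists_of_map_eq_one hq
        (a := (y ≫ 𝟙 G) * (b ≫ 𝟙 G) * (y ≫ 𝟙 G)⁻¹ * (b ≫ 𝟙 G)⁻¹) (by
        simp only [MonObj.mul_comp, GrpObj.inv_comp, Category.comp_id]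
        rw [hcm (y ≫ q) (b ≫ q), mul_inv_cancel_right, mul_inv_cancel])
      rw [hk]
      exact (hz Y k a).symm
  simp only [Category.comp_id] at hd
  -- the second variable
  have hcl := FpqcDescLib.covers_whiskerLeft hcov G'
  haveI : Epi (q ▷ G) := (FpqcDescLib.covers_whiskerRight hcov G).over_epi
  obtain ⟨d', hd', -⟩ := hcl.over_desc d fun T a a' e => by
    have h1 : a ≫ fst G' G = a' ≫ fst G' G := by simpa using congrArg (· ≫ fst G' G') e
    have h2 : (a ≫ snd G' G) ≫ q = (a' ≫ snd G' G) ≫ q := by simpa using congrArg (· ≫ snd G' G') e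
    obtain ⟨k, hk⟩ := exists_of_quotient_eq hq h2
    have e3 : ∀ (Y : Over (Spec (CommRingCat.of K))) (u : Y ⟶ G') (b : Y ⟶ G) (c : Y ⟶ Z),
        lift u (b * (c ≫ z)) ≫ d = lift u b ≫ d := by
      intro Y u b c
      have := (FpqcDescLib.covers_whiskerRight hcov (G ⊗ Z)).over_epi
      have huniv : lift (fst G' (G ⊗ Z)) ((snd G' (G ⊗ Z) ≫ fst G Z) * ((snd G' (G ⊗ Z) ≫ snd G Z) ≫ z)) ≫ d =
          lift (fst G' (G ⊗ Z)) (snd G' (G ⊗ Z) ≫ fst G Z) ≫ d := by
        rw [← cancel_epi (q ▷ (G ⊗ Z))]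
        simp only [comp_lift_assoc, MonObj.comp_mul]
        simp only [← Category.assoc, whiskerRight_fst, whiskerRight_snd]
        rw [hd, hd]
        have hc := hz _ (snd G (G ⊗ Z) ≫ snd G Z)
        set x := fst G (G ⊗ Z)
        set b' := snd G (G ⊗ Z) ≫ fst G Z
        set c' := (snd G (G ⊗ Z) ≫ snd G Z) ≫ z
        calc x * (b' * c') * x⁻¹ * (b' * c')⁻¹ = x * b' * (c' * x⁻¹) * c'⁻¹ * b'⁻¹ := by group
          _ = x * b' * x⁻¹ * b'⁻¹ := by rw [(hc x⁻¹).eq]; group
      have := congrArg (lift u (lift b c) ≫ ·) huniv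
      simp only [comp_lift_assoc, MonObj.comp_mul] at this
      simpa only [← Category.assoc, lift_fst, lift_snd] using this
    have ea : ∀ w : T ⟶ G' ⊗ G, w = lift (w ≫ fst G' G) (w ≫ snd G' G) := fun w =>
      CartesianMonoidalCategory.hom_ext _ _ (by simp) (by simp)
    rw [ea a, ea a', h1, hk, e3]
  have hd2 : ∀ (Y : Over (Spec (CommRingCat.of K))) (u : Y ⟶ G') (b : Y ⟶ G), lift u (b ≫ q) ≫ d' = lift u b ≫ d :=
    fun Y u b => by rw [← hd', lift_whiskerLeft_assoc]
  have hd'm : ∀ (Y : Over (Spec (CommRingCat.of K))) (u u' v : Y ⟶ G'),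
      lift (u * u') v ≫ d' = (lift u v ≫ d') * (lift u' v ≫ d') := by
    intro Y u u' v
    have := (FpqcDescLib.covers_whiskerLeft hcov (G' ⊗ G')).over_epi
    have huniv : lift (fst (G' ⊗ G') G' ≫ fst G' G' * fst (G' ⊗ G') G' ≫ snd G' G') (snd (G' ⊗ G') G') ≫ d' =
        (lift (fst (G' ⊗ G') G' ≫ fst G' G') (snd (G' ⊗ G') G') ≫ d') *
          (lift (fst (G' ⊗ G') G' ≫ snd G' G') (snd (G' ⊗ G') G') ≫ d') := by
      rw [← cancel_epi ((G' ⊗ G') ◁ q)]
      simp only [MonObj.comp_mul, comp_lift_assoc, whiskerLeft_fst_assoc, whiskerLeft_snd, hd2, hdm]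
    have := congrArg (lift (lift u u') v ≫ ·) huniv
    simpa only [MonObj.comp_mul, comp_lift_assoc, lift_fst_assoc, lift_fst, lift_snd] using this
  have hone : d' = 1 := by
    haveI := RedEasy38.connectedSpace_torus hT
    refine BiHom.eq_one_of_connected hmt d' hd'm η[G'] (fun Y u => ?_) fun s => ?_
    · rw [← Hom.one_def, ← MonObj.one_comp q, hd2]
      have h1 : lift (fst G' G) (1 : G' ⊗ G ⟶ G) ≫ d = 1 := by
        rw [← cancel_epi (q ▷ G)]
        simp only [comp_lift_assoc, MonObj.comp_one, whiskerRight_fst, hd]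
        group
      simpa only [comp_lift_assoc, MonObj.comp_one, lift_fst] using congrArg (lift u (1 : Y ⟶ G) ≫ ·) h1
    · rw [show G'.hom.base ⁻¹' {s} = Set.univ from Set.eq_univ_of_forall fun x => Subsingleton.elim (G'.hom x) s]
      exact isConnected_univ
  have := hd X g h
  rw [← hd2, hone, MonObj.comp_one, eq_comm, mul_inv_eq_one, mul_inv_eq_iff_eq_mul] at this
  exact this

end Groth.Agent.SgaFix20

end
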