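import Groth.Agent.SgaFix20.BiHom
import Groth.Agent.FpqcDescLib.Group

/-!
# Commutator pairings descended to quotients
-/

universe u

open CategoryTheory CategoryTheory.Limits MonoidalCategory CartesianMonoidalCategory MonObj AlgebraicGeometry

set_option backward.isDefEq.respectTransparency false
set_option linter.style.haveILetI false

noncomputable section

namespace Groth.Agent.SgaFix20

/-- Commutators as a product in the first variable. -/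
theorem commutator_mul_left {M : Type*} [Group M] {a b g : M} (h : Commute a (b * g * b⁻¹ * g⁻¹))
    (h' : Commute (a * g * a⁻¹ * g⁻¹) (b * g * b⁻¹ * g⁻¹)) :
    a * b * g * (a * b)⁻¹ * g⁻¹ = (a * g * a⁻¹ * g⁻¹) * (b * g * b⁻¹ * g⁻¹) := by
  have e : a * b * g * (a * b)⁻¹ * g⁻¹ = (a * (b * g * b⁻¹ * g⁻¹) * a⁻¹) * (a * g * a⁻¹ * g⁻¹) := by group
  rw [e, h.eq, mul_inv_cancel_right, h'.eq]

variable {S : Scheme.{u}} {G E U B : Over S} [GrpObj G] [GrpObj E] [GrpObj U]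

/-- The commutator pairing with values in the centre descends to a quotient by central elements. -/
theorem exists_pairing (j : E ⟶ G) [IsMonHom j] (q : E ⟶ U) [IsMonHom q] (hq : FpqcDescLib.Covers q.left)
    (k : B ⟶ G)
    (hfib : ∀ (X : Over S) (x x' : X ⟶ E) (b : X ⟶ B), x ≫ q = x' ≫ q →
      Commute ((x⁻¹ * x') ≫ j) (b ≫ k))
    (hval : ∀ (X : Over S) (a : X ⟶ G) (y : X ⟶ E) (b : X ⟶ B),
      Commute a ((y ≫ j) * (b ≫ k) * (y ≫ j)⁻¹ * (b ≫ k)⁻¹)) :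
    ∃ d : U ⊗ B ⟶ G,
      (∀ (X : Over S) (x : X ⟶ E) (b : X ⟶ B),
        lift (x ≫ q) b ≫ d = (x ≫ j) * (b ≫ k) * (x ≫ j)⁻¹ * (b ≫ k)⁻¹) ∧
      ∀ (X : Over S) (u u' : X ⟶ U) (b : X ⟶ B), lift (u * u') b ≫ d = (lift u b ≫ d) * (lift u' b ≫ d) := by
  let f : E ⊗ B ⟶ G := (fst E B ≫ j) * (snd E B ≫ k) * (fst E B ≫ j)⁻¹ * (snd E B ≫ k)⁻¹
  have hf : ∀ (X : Over S) (x : X ⟶ E) (b : X ⟶ B),
      lift x b ≫ f = (x ≫ j) * (b ≫ k) * (x ≫ j)⁻¹ * (b ≫ k)⁻¹ := fun X x b => by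
    simp only [f, MonObj.comp_mul, GrpObj.comp_inv, lift_fst_assoc, lift_snd_assoc]
  have hcov := FpqcDescLib.covers_whiskerRight hq B
  obtain ⟨d, hd, -⟩ := hcov.over_desc f fun T a a' h => by
    have h1 : (a ≫ fst E B) ≫ q = (a' ≫ fst E B) ≫ q := by
      simpa using congrArg (· ≫ fst U B) h
    have h2 : a ≫ snd E B = a' ≫ snd E B := by simpa using congrArg (· ≫ snd U B) h
    have ea : ∀ z : T ⟶ E ⊗ B, z = lift (z ≫ fst E B) (z ≫ snd E B) := fun z =>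
      CartesianMonoidalCategory.hom_ext _ _ (by simp) (by simp)
    rw [ea a, ea a', hf, hf, h2]
    have hc := hfib T _ _ (a' ≫ snd E B) h1
    have e : ((a' ≫ fst E B) ≫ j) = ((a ≫ fst E B) ≫ j) * (((a ≫ fst E B)⁻¹ * (a' ≫ fst E B)) ≫ j) := by
      rw [MonObj.mul_comp, GrpObj.inv_comp, mul_inv_cancel_left]
    rw [e, _root_.mul_inv_rev, ← _root_.mul_assoc, _root_.mul_assoc ((a ≫ fst E B) ≫ j) _ ((a' ≫ snd E B) ≫ k), hc.eq]
    group
  have hd' : ∀ (X : Over S) (x : X ⟶ E) (b : X ⟶ B),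
      lift (x ≫ q) b ≫ d = (x ≫ j) * (b ≫ k) * (x ≫ j)⁻¹ * (b ≫ k)⁻¹ := fun X x b => by
    rw [← lift_whiskerRight, Category.assoc, hd, hf]
  refine ⟨d, hd', fun X u u' b => ?_⟩
  -- the identity on the universal points
  have key : lift (fst (U ⊗ U) B ≫ fst U U * fst (U ⊗ U) B ≫ snd U U) (snd (U ⊗ U) B) ≫ d =
      (lift (fst (U ⊗ U) B ≫ fst U U) (snd (U ⊗ U) B) ≫ d) * (lift (fst (U ⊗ U) B ≫ snd U U) (snd (U ⊗ U) B) ≫ d) := by
    haveI h1 : Epi (q ▷ E) := (FpqcDescLib.covers_whiskerRight hq E).over_epi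
    have c1 := FpqcDescLib.covers_whiskerRight (FpqcDescLib.covers_whiskerRight hq E) B
    have c2 := FpqcDescLib.covers_whiskerRight (FpqcDescLib.covers_whiskerLeft hq U) B
    haveI : Epi ((q ▷ E) ▷ B) := c1.over_epi
    haveI : Epi ((U ◁ q) ▷ B) := c2.over_epi
    rw [← cancel_epi ((U ◁ q) ▷ B), ← cancel_epi ((q ▷ E) ▷ B)]
    let x := fst (E ⊗ E) B ≫ fst E E
    let y := fst (E ⊗ E) B ≫ snd E E
    let c := snd (E ⊗ E) B
    have ex : (q ▷ E) ▷ B ≫ (U ◁ q) ▷ B ≫ fst (U ⊗ U) B ≫ fst U U = x ≫ q := by simp [x]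
    have ey : (q ▷ E) ▷ B ≫ (U ◁ q) ▷ B ≫ fst (U ⊗ U) B ≫ snd U U = y ≫ q := by simp [y]
    have ec : (q ▷ E) ▷ B ≫ (U ◁ q) ▷ B ≫ snd (U ⊗ U) B = c := by simp [c]
    simp only [MonObj.comp_mul, comp_lift_assoc, ex, ey, ec]
    rw [← MonObj.mul_comp, hd', hd', hd', MonObj.mul_comp]
    exact commutator_mul_left (hval _ _ y c) (hval _ _ y c)
  have := congrArg (lift (lift u u') b ≫ ·) key
  simpa only [MonObj.comp_mul, comp_lift_assoc, lift_fst_assoc, lift_fst, lift_snd] using this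

end Groth.Agent.SgaFix20

end
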