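import Groth.Agent.SgaFix20.DSMap
import Groth.Agent.SgaFix20.DSProd
import Groth.Agent.SgaFix20.DSImmersion
import Groth.Agent.MultDefLib.Mult
import Groth.Agent.ParLib.Basic
import Groth.Agent.MultLift19.Basic

/-!
# Power maps of groups of multiplicative type are finite
-/

universe u

open CategoryTheory CategoryTheory.Limits MonoidalCategory CartesianMonoidalCategory MonObj AlgebraicGeometry

set_option linter.style.haveILetI false

noncomputable section

namespace Groth.Agent.SgaFix20

open DSPtsLib (CoordM pt)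
open DSImmersion (powChar powChar_single)

variable {M : Type} [AddCommGroup M]

theorem pow_eq_comp {C : Type*} [Category C] [CartesianMonoidalCategory C] {X Y : C} [GrpObj Y] (a : X ⟶ Y) (n : ℕ) :
    a ≫ (𝟙 Y ^ n) = a ^ n := by
  rw [MonObj.comp_pow, Category.comp_id]

theorem pow_id_comp {C : Type*} [Category C] [CartesianMonoidalCategory C] {X Y : C} [GrpObj X] [GrpObj Y]
    (ε : X ⟶ Y) [IsMonHom ε] (n : ℕ) : (𝟙 X ^ n : X ⟶ X) ≫ ε = ε ≫ (𝟙 Y ^ n : Y ⟶ Y) := by
  rw [MonObj.pow_comp, Category.id_comp, pow_eq_comp]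

theorem pt_powChar {U : Scheme.{u}} {B : Type u} [CommRing B] (j : Spec (CommRingCat.of B) ⟶ U)
    (c : CoordM.{u} M →+* B) (n : ℕ) : pt j (powChar c n) = pt j c ^ n := by
  induction n with
  | zero => rw [GrpSchLib.HomMonoLocus.pt_one j (powChar c 0) fun m => by rw [powChar_single, pow_zero], pow_zero]
  | succ n ih =>
    rw [← DSPtsLib.pt_mul j (powChar c n) c (powChar c (n + 1)) fun m => by
      rw [powChar_single, powChar_single, pow_succ], ih, pow_succ]

theorem pow_eq_DSmap (U : Scheme.{u}) (M : Type) [AddCommGroup M] (n : ℕ) :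
    (𝟙 (Red.DS U M) ^ n : Red.DS U M ⟶ Red.DS U M) = Red.DSmap U (n • AddMonoidHom.id M) := by
  refine hom_ext_pts fun B _ j c => ?_
  exact (pow_eq_comp (pt j c) n).trans ((pt_powChar j c n).symm.trans (pt_DSmap (n • AddMonoidHom.id M) j c).symm)

theorem finite_mapDomain {R : Type u} [CommRing R] {A B : Type} [CommGroup A] [CommGroup B] (φ : A →* B)
    [Finite (B ⧸ φ.range)] : (MonoidAlgebra.mapDomainAlgHom R R φ).toRingHom.Finite := by
  classical
  let g := (MonoidAlgebra.mapDomainAlgHom R R φ).toRingHom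
  letI := g.toAlgebra
  letI : Module (MonoidAlgebra R A) (MonoidAlgebra R B) := Algebra.toModule
  haveI := Fintype.ofFinite (B ⧸ φ.range)
  refine ⟨⟨Finset.univ.image fun x : B ⧸ φ.range => (MonoidAlgebra.single x.out (1 : R) : MonoidAlgebra R B), ?_⟩⟩
  rw [eq_top_iff]
  rintro z -
  induction z using MonoidAlgebra.induction_linear with
  | zero => exact zero_mem _
  | add a b ha hb => exact add_mem ha hb
  | single b r =>
    obtain ⟨a, ha⟩ : b * ((b : B ⧸ φ.range).out)⁻¹ ∈ φ.range :=
      QuotientGroup.eq_iff_div_mem.mp (QuotientGroup.out_eq' (b : B ⧸ φ.range)).symm |> fun h => by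
        rwa [div_eq_mul_inv] at h
    have e : MonoidAlgebra.single b r = (MonoidAlgebra.single a r : MonoidAlgebra R A) •
        (MonoidAlgebra.single (b : B ⧸ φ.range).out (1 : R) : MonoidAlgebra R B) := by
      rw [Algebra.smul_def]
      show _ = MonoidAlgebra.mapDomainAlgHom R R φ (MonoidAlgebra.single a r) * _
      rw [MonoidAlgebra.mapDomainAlgHom_apply, MonoidAlgebra.mapDomain_single, MonoidAlgebra.single_mul_single, ha, inv_mul_cancel_right, _root_.mul_one]
    rw [e]
    exact Submodule.smul_mem _ _ (Submodule.subset_span (Finset.mem_image_of_mem _ (Finset.mem_univ _)))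

theorem isFinite_pow_DS (U : Scheme.{u}) (M : Type) [AddCommGroup M] [AddGroup.FG M] {n : ℕ} (hn : 0 < n) :
    IsFinite (𝟙 (Red.DS U M) ^ n : Red.DS U M ⟶ Red.DS U M).left := by
  rw [pow_eq_DSmap]
  haveI : IsFinite (Red.diagMap (ULift.{u} ℤ) (n • AddMonoidHom.id M)).left := by
    haveI : Module.Finite ℤ M := Module.Finite.iff_addGroup_fg.mpr ‹_›
    let φ := AddMonoidHom.toMultiplicative (n • AddMonoidHom.id M)
    haveI : AddMonoid.FG M := AddGroup.fg_iff_addMonoid_fg.mp ‹AddGroup.FG M›
    haveI : Group.FG (Multiplicative M) := Group.fg_iff_monoid_fg.mpr Monoid.fg_of_addMonoid_fg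
    haveI : Finite (Multiplicative M ⧸ φ.range) := by
      refine CommGroup.finite_of_fg_torsion _ fun x => ?_
      obtain ⟨m, rfl⟩ := QuotientGroup.mk_surjective x
      refine isOfFinOrder_iff_pow_eq_one.mpr ⟨n, hn, ?_⟩
      rw [← QuotientGroup.mk_pow, QuotientGroup.eq_one_iff]
      exact ⟨m, by
        show Multiplicative.ofAdd ((n • AddMonoidHom.id M) m.toAdd) = m ^ n
        rw [AddMonoidHom.smul_apply, AddMonoidHom.id_apply, ofAdd_nsmul, ofAdd_toAdd]⟩
    exact (IsFinite.SpecMap_iff _).mpr (finite_mapDomain φ)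
  exact MorphismProperty.of_isPullback
    (GrpSchLib.HomSplitLocal.isPullback_map (Red.diagMap (ULift.{u} ℤ) (n • AddMonoidHom.id M))
      (IsTerminal.from specULiftZIsTerminal U)) ‹_›

variable {S : Scheme.{u}}

theorem map_pow_id {U : Scheme.{u}} (g : U ⟶ S) (H : Over S) [GrpObj H] (n : ℕ) :
    (Over.pullback g).map (𝟙 H ^ n : H ⟶ H) = (𝟙 (Red.bc g H) ^ n : Red.bc g H ⟶ Red.bc g H) := by
  apply (DSPtsLib.theta_bijective g).1
  have e : ∀ {T : Over U} (a : T ⟶ Red.bc g H) (m : ℕ), DSPtsLib.theta g (a ^ m) = DSPtsLib.theta g a ^ m := by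
    intro T a m
    induction m with
    | zero => rw [pow_zero, pow_zero, GrpSchLib.HomUnitLocus.theta_one]
    | succ m ih => rw [pow_succ, pow_succ, DSPtsLib.theta_mul, ih]
  rw [e, ← Category.id_comp ((Over.pullback g).map _), MultLift19.theta_map, pow_eq_comp]

/-- Power maps of groups of multiplicative type are finite. -/
theorem isFinite_pow_multTypeFT {H : Over S} [GrpObj H] (hH : SGA3x.IsMultTypeFT H) {n : ℕ} (hn : 0 < n) :
    IsFinite (𝟙 H ^ n : H ⟶ H).left := by
  obtain ⟨S', f, hflat, hsurj, hqc, hloc⟩ := hH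
  choose O hO M hM hfg hiso using hloc
  have hcov : FpqcDescLib.Covers f :=
    FpqcDescLib.covers_of_hcov f ⟨S', f, 𝟙 _, Category.id_comp _, hsurj, hflat, hqc⟩
  haveI := EtFound.fpqc_isFinite.{u}
  let φ : H ⟶ H := 𝟙 H ^ n
  have hc2 : FpqcDescLib.Covers (pullback.fst H.hom f) :=
    hcov.pullback H.hom _ _ (IsPullback.of_hasPullback H.hom f).flip.flip
  refine hc2.descends @IsFinite φ.left ((Over.pullback f).map φ).left (pullback.fst H.hom f)
    (ParLib.isPullback_map_left f φ).flip.flip ?_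
  refine IsZariskiLocalAtTarget.of_forall_exists_morphismRestrict fun x => ?_
  let s' : S' := pullback.snd H.hom f x
  let W : (pullback H.hom f).Opens := pullback.snd H.hom f ⁻¹ᵁ O s'
  refine ⟨W, hO s', ?_⟩
  obtain ⟨i⟩ := hiso s'
  haveI := hfg s'
  let g := (O s').ι ≫ f
  let ε := MultDefLib.overIso i
  haveI : IsMonHom ε.hom := i.hom.hom.isMonHom_hom
  haveI := isFinite_pow_DS (O s' : Scheme.{u}) (M s') hn
  haveI hfin : IsFinite ((Over.pullback g).map φ).left := by
    have e : (Over.pullback g).map φ ≫ ε.hom = ε.hom ≫ (𝟙 _ ^ n : Red.DS _ (M s') ⟶ _) := by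
      exact (congrArg (fun z => z ≫ ε.hom) (map_pow_id g H n)).trans (pow_id_comp ε.hom n)
    haveI : IsIso ε.hom.left := inferInstanceAs (IsIso ((Over.forget _).map ε.hom))
    haveI : IsIso ε.inv.left := inferInstanceAs (IsIso ((Over.forget _).map ε.inv))
    have e2 : (Over.pullback g).map φ = ε.hom ≫ (𝟙 _ ^ n : Red.DS _ (M s') ⟶ _) ≫ ε.inv := by
      rw [← Category.assoc, ← e, Category.assoc, Iso.hom_inv_id, Category.comp_id]
    rw [e2, Over.comp_left, Over.comp_left]
    infer_instance
  have H1 : IsPullback (W.ι ≫ pullback.fst H.hom f) (pullback.snd H.hom f ∣_ O s') H.hom g :=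
    (isPullback_morphismRestrict _ _).flip.paste_horiz (IsPullback.of_hasPullback H.hom f)
  have hsq := ((isPullback_morphismRestrict ((Over.pullback f).map φ).left W).flip).paste_horiz
    (ParLib.isPullback_map_left f φ).flip
  have hP := ParLib.isPullback_map_left g φ
  rw [← H1.isoPullback_hom_fst] at hsq
  exact MorphismProperty.of_isPullback (IsPullback.of_right' hsq hP.flip) hfin

end Groth.Agent.SgaFix20

end
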