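import Groth.Agent.AbSchX.KerPts
import Groth.Agent.FpqcDescLib.Closed
import Groth.Agent.EtFound.Descent
import Groth.Agent.WittEndoLib.Torsor
import Mathlib.AlgebraicGeometry.Morphisms.Finite

/-!
# Torsion of a commutative extension is finite
-/

universe u

open CategoryTheory CategoryTheory.Limits MonoidalCategory CartesianMonoidalCategory MonObj AlgebraicGeometry

set_option linter.style.haveILetI false

noncomputable section

namespace Groth.Agent.SgaFix20

variable {S : Scheme.{u}}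

theorem comp_one_unit {Q : Over S} [GrpObj Q] {X : Over S} (f : X ⟶ 𝟙_ (Over S)) : f ≫ η[Q] = 1 := by
  rw [Hom.one_def]
  congr 1
  exact toUnit_unique _ _

/-- If the power maps of kernel and quotient are finite, then the torsion of a commutative extension is finite. -/
theorem isFinite_tors_of_extension {P H Q : Over S} [GrpObj P] [GrpObj H] [GrpObj Q] [IsCommMonObj P]
    (p : P ⟶ Q) [IsMonHom p] (hp : FpqcDescLib.Covers p.left) (i : H ⟶ P) [IsMonHom i]
    (hker : AlgGrp.IsKernel i p) {n : ℕ} (hH : IsFinite (𝟙 H ^ n : H ⟶ H).left)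
    (hQ : IsFinite (𝟙 Q ^ n : Q ⟶ Q).left) {T : Over S} (t : T ⟶ P)
    (hT : IsPullback t (toUnit T) (𝟙 P ^ n : P ⟶ P) η[P]) : IsFinite T.hom := by
  haveI := AbSchX.KerPts.mono hker
  let kQ := pullback.fst (𝟙 Q ^ n : Q ⟶ Q) η[Q]
  have hkQ : kQ ^ n = 1 := by
    rw [← AbSchX.KerPts.comp_id_pow kQ n, pullback.condition, comp_one_unit]
  let ι' := pullback.fst p kQ
  let p' := pullback.snd p kQ
  obtain ⟨h0, hh0⟩ := AbSchX.KerPts.exists_lift hker (ι' ^ n) (by
    rw [MonObj.pow_comp, pullback.condition, ← MonObj.comp_pow, hkQ, MonObj.comp_one])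
  have ht : t ^ n = 1 := by rw [← AbSchX.KerPts.comp_id_pow t n, hT.w, comp_one_unit]
  let t' : T ⟶ pullback (𝟙 Q ^ n : Q ⟶ Q) η[Q] := pullback.lift (t ≫ p) (toUnit T) (by
    rw [AbSchX.KerPts.comp_id_pow, ← MonObj.pow_comp, ht, MonObj.one_comp, comp_one_unit])
  let h := pullback.fst (𝟙 H ^ n : H ⟶ H) h0
  let y := pullback.snd (𝟙 H ^ n : H ⟶ H) h0
  have hhy : (h ≫ i) ^ n = (y ≫ ι') ^ n := by
    rw [← MonObj.pow_comp, ← AbSchX.KerPts.comp_id_pow h n, pullback.condition, Category.assoc, hh0, MonObj.comp_pow]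
  let xK := hT.lift ((y ≫ ι') * (h ≫ i)⁻¹) (toUnit _) (by
    rw [AbSchX.KerPts.comp_id_pow, mul_pow, inv_pow, hhy, mul_inv_cancel, comp_one_unit])
  have hxK : xK ≫ t = (y ≫ ι') * (h ≫ i)⁻¹ := hT.lift_fst _ _ _
  have hw : xK ≫ t' = y ≫ p' := by
    refine pullback.hom_ext ?_ (toUnit_unique _ _)
    rw [Category.assoc, Category.assoc, pullback.lift_fst, ← Category.assoc xK, hxK, MonObj.mul_comp, GrpObj.inv_comp,
      Category.assoc h, AbSchX.KerPts.comp_eq_one hker, MonObj.comp_one, inv_one, _root_.mul_one, Category.assoc,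
      pullback.condition]
  have hex : ∀ s : PullbackCone t' p', ∃ hs : s.pt ⟶ H, hs ≫ i = (s.snd ≫ ι') * (s.fst ≫ t)⁻¹ := fun s => by
    refine AbSchX.KerPts.exists_lift hker _ ?_
    have e := congrArg (fun z => z ≫ pullback.fst (𝟙 Q ^ n : Q ⟶ Q) η[Q]) s.condition
    simp only [Category.assoc, t', pullback.lift_fst] at e
    rw [MonObj.mul_comp, GrpObj.inv_comp, Category.assoc, Category.assoc, e, pullback.condition, mul_inv_cancel]
  choose hs hhs using hex
  have hsn : ∀ s, hs s ≫ (𝟙 H ^ n : H ⟶ H) = s.snd ≫ h0 := fun s => by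
    rw [← cancel_mono i, AbSchX.KerPts.comp_id_pow, MonObj.pow_comp, hhs, mul_pow, inv_pow, ← MonObj.comp_pow t n s.fst, ht,
      MonObj.comp_one, inv_one, _root_.mul_one, Category.assoc, hh0, MonObj.comp_pow]
  have hsq : IsPullback xK y t' p' := ⟨⟨hw⟩, ⟨PullbackCone.IsLimit.mk hw
    (fun s => pullback.lift (hs s) s.snd (hsn s))
    (fun s => hT.hom_ext (by
      rw [Category.assoc, hxK, MonObj.comp_mul, GrpObj.comp_inv, pullback.lift_snd_assoc, pullback.lift_fst_assoc, hhs,
        mul_inv, inv_inv, ← _root_.mul_assoc, mul_inv_cancel, _root_.one_mul]) (toUnit_unique _ _))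
    (fun s => pullback.lift_snd _ _ _)
    (fun s m h1 h2 => pullback.hom_ext (by
      rw [pullback.lift_fst, ← cancel_mono i, hhs, ← h1, ← h2, Category.assoc m xK, hxK, MonObj.comp_mul,
        GrpObj.comp_inv]
      simp only [Category.assoc]
      rw [mul_inv, inv_inv, ← _root_.mul_assoc, mul_inv_cancel, _root_.one_mul]) (by rw [pullback.lift_snd, h2]))⟩⟩
  haveI hy : IsFinite y.left :=
    MorphismProperty.of_isPullback ((IsPullback.of_hasPullback (𝟙 H ^ n : H ⟶ H) h0).map (Over.forget S)) hH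
  have hp' : FpqcDescLib.Covers p'.left := hp.over_pullback kQ p' ι' (IsPullback.of_hasPullback p kQ).flip
  haveI := EtFound.fpqc_isFinite.{u}
  haveI ht' : IsFinite t'.left := hp'.descends @IsFinite t'.left y.left xK.left (hsq.map (Over.forget S)).flip hy
  haveI : IsFinite (pullback.snd (𝟙 Q ^ n : Q ⟶ Q) η[Q]).left :=
    MorphismProperty.of_isPullback ((IsPullback.of_hasPullback (𝟙 Q ^ n : Q ⟶ Q) η[Q]).map (Over.forget S)) hQ
  rw [← Over.w t', ← Over.w (pullback.snd (𝟙 Q ^ n : Q ⟶ Q) η[Q])]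
  haveI : IsFinite (𝟙_ (Over S)).hom := inferInstanceAs (IsFinite (𝟙 S))
  infer_instance

/-- The projection of an extension by an affine kernel is affine. -/
theorem isAffineHom_of_kernel {P H Q : Over S} [GrpObj P] [GrpObj H] [GrpObj Q] (p : P ⟶ Q) [IsMonHom p]
    (hp : FpqcDescLib.Covers p.left) {i : H ⟶ P} (hker : AlgGrp.IsKernel i p) [IsAffineHom H.hom] :
    IsAffineHom p.left := by
  haveI := AbSchX.KerPts.mono hker
  have hfst : IsAffineHom (fst P H).left := by
    rw [Over.fst_left]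
    exact MorphismProperty.pullback_fst (P := @IsAffineHom) _ _ ‹IsAffineHom H.hom›
  haveI := EtFound.fpqc_isAffineHom.{u}
  exact hp.descends @IsAffineHom p.left (fst P H).left (fst P H * (snd P H ≫ i)).left
    ((WittEndoLib.Ext.isPullback_torsor hker).map (Over.forget S)) hfst

end Groth.Agent.SgaFix20

end
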