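import Groth.Agent.SgaFix20.FieldExtension
import Groth.Agent.SgaFix20.TorsExtension
import Groth.Agent.SgaFix20.PowFinite
import Groth.Agent.AbSchX.FinHom
import Groth.Agent.GrpSchLib.RankOneBase
import Groth.Agent.GrpSchLib.AntiAffineHom

/-!
# Commutative extensions of groups of multiplicative type
-/

universe u

open CategoryTheory CategoryTheory.Limits MonoidalCategory CartesianMonoidalCategory MonObj AlgebraicGeometry
open TensorProduct

set_option linter.style.haveILetI false

noncomputable section

namespace Groth.Agent.SgaFix20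

open GrpSchLib.AffineHopf (sp spMap spMap_comp)

theorem pow_sp {R : Type u} [CommRing R] (C : Type u) [CommRing C] [HopfAlgebra R C] (n : ℕ) :
    (𝟙 (sp R C) ^ n : sp R C ⟶ sp R C) = spMap (SGA3b.powConv R C n) := by
  rw [GrpSchLib.AffineHopf.spMap_eq_mapMulEquiv, SGA3b.powConv, WithConv.toConv_ofConv, map_pow,
    ← GrpSchLib.AffineHopf.spMap_eq_mapMulEquiv, GrpSchLib.AffineHopf.spMap_id]

set_option backward.isDefEq.respectTransparency false in
/-- A commutative extension of groups of multiplicative type over an affine base is of multiplicative type. -/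
theorem isMultTypeFT_of_comm_extension_affine {R : Type u} [CommRing R] {P H Q : Over (Spec (CommRingCat.of R))}
    [GrpObj P] [GrpObj H] [GrpObj Q] [IsCommMonObj P] [IsAffineHom P.hom] [Flat P.hom]
    [LocallyOfFinitePresentation P.hom] (p : P ⟶ Q) [IsMonHom p] [Surjective p.left] [Flat p.left]
    (i : H ⟶ P) [IsMonHom i] (hker : AlgGrp.IsKernel i p)
    (hH : SGA3x.IsMultTypeFT H) (hQ : SGA3x.IsMultTypeFT Q) : SGA3x.IsMultTypeFT P := by
  haveI := (TransLib.multTypeFT_essFree hQ).1
  haveI : QuasiCompact (p.left ≫ Q.hom) := by rw [Over.w p]; infer_instance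
  haveI : QuasiCompact p.left := QuasiCompact.of_comp p.left Q.hom
  have hp : FpqcDescLib.Covers p.left :=
    FpqcDescLib.covers_of_isCovering (FpqcDescLib.isCovering_of_quasiCompact p.left)
  haveI : IsAffine P.left := isAffine_of_isAffineHom P.hom
  obtain ⟨C, _, _, ⟨eC⟩⟩ := GrpSchLib.AffineHopf.exists_hopf P
  let c := MultDefLib.overIso eC
  haveI : IsMonHom c.hom := eC.hom.hom.isMonHom_hom
  haveI : IsIso c.hom.left := inferInstanceAs (IsIso ((Over.forget _).map c.hom))
  haveI : Module.Flat R C := by
    have h2 : Flat (sp R C).hom := by rw [← Over.w c.hom]; infer_instance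
    exact RingHom.flat_algebraMap_iff.mp (Flat.SpecMap_iff.mp h2)
  have hfp : Algebra.FinitePresentation R C := by
    have h2 : LocallyOfFinitePresentation (sp R C).hom := by rw [← Over.w c.hom]; infer_instance
    exact RingHom.finitePresentation_algebraMap.mp
      ((HasRingHomProperty.Spec_iff (P := @LocallyOfFinitePresentation)).mp h2)
  haveI : Coalgebra.IsCocomm R C := S14691.isCocomm_of_iso c.hom
  haveI := hfp
  refine isMultTypeFT_of_iso eC.symm (MultLift19.multTypeFT_sp (S5264.result R C hfp (fun q _ => ?_) fun n hn => ?_)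
    inferInstance)
  · -- the fibres
    let K := q.ResidueField
    let g : Spec (CommRingCat.of K) ⟶ Spec (CommRingCat.of R) := Spec.map (CommRingCat.ofHom (algebraMap R K))
    let pK : Red.bc g P ⟶ Red.bc g Q := (Over.pullback g).map p
    let iK : Red.bc g H ⟶ Red.bc g P := (Over.pullback g).map i
    haveI : IsMonHom pK := MultLift19.isMonHom_pullback_map g p
    haveI : IsMonHom iK := MultLift19.isMonHom_pullback_map g i
    haveI : Surjective pK.left :=
      MorphismProperty.of_isPullback (ParLib.isPullback_map_left g p).flip ‹Surjective p.left›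
    haveI : Flat pK.left := MorphismProperty.of_isPullback (ParLib.isPullback_map_left g p).flip ‹Flat p.left›
    haveI : IsCommMonObj (Red.bc g P) := GrpSchLib.RankOne.isCommMonObj_bc g P
    haveI : IsAffineHom (Red.bc g P).hom := inferInstanceAs (IsAffineHom (pullback.snd P.hom g))
    haveI : LocallyOfFiniteType (Red.bc g P).hom := inferInstanceAs (LocallyOfFiniteType (pullback.snd P.hom g))
    have h := isMultTypeFT_of_extension_field pK iK (AbSchX.FinHom.isKernel_bc hker g)
      (GrpSchLib.MultTypeBC.isMultTypeFT_bc g hH) (GrpSchLib.MultTypeBC.isMultTypeFT_bc g hQ)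
    obtain ⟨e1⟩ := GrpSchLib.MultTypeBC.bc_iso g eC
    obtain ⟨e2⟩ := GrpSchLib.AffineHopf.nonempty_bc_sp (R := R) K C
    obtain ⟨A, _, _, hA, ⟨eA⟩⟩ := MultDefLib.exists_hopf_multType (MultDefLib.multLoc_of_multTypeFT h)
    obtain ⟨β⟩ := MultDefLib.bialgEquiv_of_grpIso (eA ≪≫ e1.symm ≪≫ e2)
    exact MultTypeLib.isMultType_congr β hA
  · -- the torsion
    let J := SGA3b.torsionIdeal R C n
    let π : C →ₐ[R] C ⧸ J := Ideal.Quotient.mkₐ R J
    let t := pullback.fst (𝟙 P ^ n : P ⟶ P) η[P]
    have hT : IsPullback t (toUnit _) (𝟙 P ^ n : P ⟶ P) η[P] := by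
      rw [show toUnit (pullback (𝟙 P ^ n : P ⟶ P) η[P]) = pullback.snd _ _ from toUnit_unique _ _]
      exact IsPullback.of_hasPullback _ _
    haveI hfinT := isFinite_tors_of_extension p hp i hker (isFinite_pow_multTypeFT hH hn)
      (isFinite_pow_multTypeFT hQ hn) t hT
    have he : π.comp (SGA3b.powConv R C n) = (Algebra.ofId R (C ⧸ J)).comp (Bialgebra.counitAlgHom R C) := by
      refine AlgHom.ext fun y => ?_
      show Ideal.Quotient.mk J (SGA3b.powConv R C n y) = algebraMap R (C ⧸ J) (Bialgebra.counitAlgHom R C y)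
      rw [← Ideal.Quotient.mk_algebraMap, Ideal.Quotient.eq, ← AlgHom.commutes (SGA3b.powConv R C n), ← map_sub]
      exact Ideal.mem_map_of_mem _ (by simp [RingHom.mem_ker])
    let x : sp R (C ⧸ J) ⟶ P := spMap π ≫ c.hom
    have hx : x ≫ (𝟙 P ^ n : P ⟶ P) = toUnit _ ≫ η[P] := by
      rw [Category.assoc, ← pow_id_comp c.hom n, pow_sp, ← Category.assoc, spMap_comp, he, ← Hom.one_def]
      have e : spMap ((Algebra.ofId R (C ⧸ J)).comp (Bialgebra.counitAlgHom R C)) = (1 : sp R (C ⧸ J) ⟶ sp R C) := by
        refine Eq.trans ?_ (map_one Spec.mapMulEquiv)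
        exact (GrpSchLib.AffineHopf.spMap_eq_mapMulEquiv _).trans (congrArg Spec.mapMulEquiv (WithConv.ext rfl))
      rw [e, MonObj.one_comp]
    let v := hT.lift x (toUnit _) hx
    haveI : IsClosedImmersion x.left := by
      rw [Over.comp_left]
      haveI : IsClosedImmersion (spMap π).left :=
        IsClosedImmersion.spec_of_surjective _ Ideal.Quotient.mk_surjective
      infer_instance
    haveI : IsClosedImmersion η[P].left := by
      haveI : IsClosedImmersion (η[P].left ≫ P.hom) := by rw [Over.w η[P]]; exact inferInstanceAs (IsClosedImmersion (𝟙 _))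
      exact IsClosedImmersion.of_comp η[P].left P.hom
    haveI : IsClosedImmersion t.left :=
      MorphismProperty.of_isPullback (hT.map (Over.forget _)).flip ‹IsClosedImmersion η[P].left›
    haveI : IsClosedImmersion v.left := by
      haveI : IsClosedImmersion (v.left ≫ t.left) := by rw [← Over.comp_left, hT.lift_fst]; infer_instance
      exact IsClosedImmersion.of_comp v.left t.left
    have hfin : IsFinite (sp R (C ⧸ J)).hom := by rw [← Over.w v]; infer_instance
    exact RingHom.finite_algebraMap.mp ((IsFinite.SpecMap_iff _).mp hfin)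

set_option backward.isDefEq.respectTransparency false in
/-- A commutative extension of groups of multiplicative type is of multiplicative type. -/
theorem isMultTypeFT_of_comm_extension {S : Scheme.{u}} {P H Q : Over S}
    [GrpObj P] [GrpObj H] [GrpObj Q] [IsCommMonObj P] [IsAffineHom P.hom] [Flat P.hom]
    [LocallyOfFinitePresentation P.hom] (p : P ⟶ Q) [IsMonHom p] [Surjective p.left] [Flat p.left]
    (i : H ⟶ P) [IsMonHom i] (hker : AlgGrp.IsKernel i p)
    (hH : SGA3x.IsMultTypeFT H) (hQ : SGA3x.IsMultTypeFT Q) : SGA3x.IsMultTypeFT P := by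
  refine isMultTypeFT_of_local fun s => ?_
  obtain ⟨V, hV, hsV, -⟩ := exists_isAffineOpen_mem_and_subset (show s ∈ (⊤ : S.Opens) from trivial)
  let g := hV.fromSpec
  let pV : Red.bc g P ⟶ Red.bc g Q := (Over.pullback g).map p
  let iV : Red.bc g H ⟶ Red.bc g P := (Over.pullback g).map i
  haveI : IsMonHom pV := MultLift19.isMonHom_pullback_map g p
  haveI : IsMonHom iV := MultLift19.isMonHom_pullback_map g i
  haveI : Surjective pV.left :=
    MorphismProperty.of_isPullback (ParLib.isPullback_map_left g p).flip ‹Surjective p.left›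
  haveI : Flat pV.left := MorphismProperty.of_isPullback (ParLib.isPullback_map_left g p).flip ‹Flat p.left›
  haveI : IsCommMonObj (Red.bc g P) := GrpSchLib.RankOne.isCommMonObj_bc g P
  haveI : IsAffineHom (Red.bc g P).hom := inferInstanceAs (IsAffineHom (pullback.snd P.hom g))
  haveI : Flat (Red.bc g P).hom := inferInstanceAs (Flat (pullback.snd P.hom g))
  haveI : LocallyOfFinitePresentation (Red.bc g P).hom :=
    inferInstanceAs (LocallyOfFinitePresentation (pullback.snd P.hom g))
  have h := isMultTypeFT_of_comm_extension_affine pV iV (AbSchX.FinHom.isKernel_bc hker g)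
    (GrpSchLib.MultTypeBC.isMultTypeFT_bc g hH) (GrpSchLib.MultTypeBC.isMultTypeFT_bc g hQ)
  refine ⟨V, hsV, ?_⟩
  obtain ⟨e₁⟩ := GrpSchLib.MultTypeBC.bc_congr hV.isoSpec_hom_fromSpec.symm P
  obtain ⟨e₂⟩ := GrpSchLib.MultTypeBC.bc_bc hV.isoSpec.hom hV.fromSpec P
  exact isMultTypeFT_of_iso (e₁ ≪≫ e₂.symm) (GrpSchLib.MultTypeBC.isMultTypeFT_bc hV.isoSpec.hom h)

end Groth.Agent.SgaFix20

end
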