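import Groth.Agent.MultDefLib.SubgroupTransp

/-!
# The transporter taking one subgroup of multiplicative type into another one
-/

universe u

open CategoryTheory CategoryTheory.Limits MonoidalCategory CartesianMonoidalCategory MonObj GrpObj AlgebraicGeometry

set_option backward.isDefEq.respectTransparency false
set_option linter.style.haveILetI false

noncomputable section

namespace Groth.Agent.SgaFix20.SubTransporter

open DSPtsLib (theta theta_left theta_comp theta_mul theta_bijective)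
open MultDefLib (MultLoc pS theta_surjective theta_inv theta_map S₀ exists_bc_hom exists_hom_lift exists_conj_lift exists_conj_locus multLoc_bc smooth_of_isFormallySmoothHom exists_lift_over lfp_multTypeFT)

section Lift

variable {R : Type u} [CommRing R] {J : Ideal R}

attribute [local instance] MultDefLib.algRed

local notation "i₀" => Spec.map (CommRingCat.ofHom (algebraMap R (R ⧸ J)))

variable {H H' G : Over (Spec (CommRingCat.of R))} [GrpObj H] [GrpObj H'] [GrpObj G]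

/-- A conjugation of subgroups of multiplicative type over the closed subscheme lifts. -/
theorem exists_conj_lift_le (hH : MultLoc H) (hH' : MultLoc H') [Smooth G.hom] (hJ : IsNilpotent J)
    (i : H ⟶ G) [IsMonHom i] [Mono i] (i' : H' ⟶ G) [IsMonHom i'] [Mono i'] (g₀ : S₀ J ⟶ G)
    (h0 : ∀ (X : Over (Spec (CommRingCat.of R))) (p : X ⟶ S₀ J),
      ∀ h : X ⟶ H, ∃ h' : X ⟶ H', (p ≫ g₀) * (h ≫ i) * (p ≫ g₀)⁻¹ = h' ≫ i') :
    ∃ (g : 𝟙_ (Over (Spec (CommRingCat.of R))) ⟶ G) (ψ : H ⟶ H'), IsMonHom ψ ∧ toUnit (S₀ J) ≫ g = g₀ ∧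
      ∀ (X : Over (Spec (CommRingCat.of R))) (h : X ⟶ H),
        (toUnit X ≫ g) * (h ≫ i) * (toUnit X ≫ g)⁻¹ = (h ≫ ψ) ≫ i' := by
  obtain ⟨ψ₀, hψ₀, hx⟩ := exists_bc_hom i i' g₀ h0
  haveI := hψ₀
  obtain ⟨ψ, hψ, hm⟩ := exists_hom_lift hJ hH hH' ψ₀
  haveI := hψ
  obtain ⟨g, hg, hgv⟩ := exists_conj_lift hH hJ i (ψ ≫ i') g₀ fun X p h => by
    let X' : Over (Spec (CommRingCat.of (R ⧸ J))) := Over.mk p.left
    let e : X ⟶ (Over.map i₀).obj X' := Over.homMk (𝟙 X.left) ((Category.id_comp _).trans (Over.w p))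
    let e' : (Over.map i₀).obj X' ⟶ X := Over.homMk (𝟙 X.left) ((Category.id_comp _).trans (Over.w p).symm)
    obtain ⟨x, hxh⟩ := theta_surjective i₀ (e' ≫ h)
    have h1 := hx x
    rw [← hm, theta_map, hxh, Category.assoc, Category.assoc, Category.assoc] at h1
    have hee : e ≫ e' = 𝟙 X := Over.OverMorphism.ext (Category.id_comp _)
    have hp : e ≫ pS X' = p := Over.OverMorphism.ext (Category.id_comp _)
    have h2 := congrArg (fun z => e ≫ z) h1
    simpa [MonObj.comp_mul, GrpObj.comp_inv, ← Category.assoc, hee, hp] using h2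
  exact ⟨g, ψ, hψ, hg, fun X h => (hgv X h).symm.trans (Category.assoc _ _ _).symm⟩

end Lift

variable {S : Scheme.{u}} {H₁ H₂ G : Over S} [GrpObj H₁] [GrpObj H₂] [GrpObj G]

/-- `g` takes the first subgroup into the second one, universally. -/
def SubLe (i₁ : H₁ ⟶ G) (i₂ : H₂ ⟶ G) {X : Over S} (g : X ⟶ G) : Prop :=
  ∀ (X' : Over S) (x : X' ⟶ X) (h : X' ⟶ H₁), ∃ h' : X' ⟶ H₂, (x ≫ g) * (h ≫ i₁) * (x ≫ g)⁻¹ = h' ≫ i₂

theorem smooth_subLe (hH₁ : SGA3x.IsMultTypeFT H₁) (hH₂ : SGA3x.IsMultTypeFT H₂) [Smooth G.hom]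
    (i₁ : H₁ ⟶ G) [IsMonHom i₁] [Mono i₁] (i₂ : H₂ ⟶ G) [IsMonHom i₂] [Mono i₂]
    {T : Over S} (t : T ⟶ G) [Mono t.left] [LocallyOfFinitePresentation t.left]
    (hT : ∀ (X : Over S) (g : X ⟶ G), (∃ z : X ⟶ T, z ≫ t = g) ↔ SubLe i₁ i₂ g) : Smooth T.hom := by
  haveI : LocallyOfFinitePresentation T.hom := by
    rw [← Over.w t]
    infer_instance
  refine smooth_of_isFormallySmoothHom _ ?_
  intro A _ I hI a b w
  let j₁ := (Over.pullback b).map i₁
  let j₂ := (Over.pullback b).map i₂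
  haveI : IsMonHom j₁ := inferInstanceAs (IsMonHom ((Over.pullback b).map i₁))
  haveI : IsMonHom j₂ := inferInstanceAs (IsMonHom ((Over.pullback b).map i₂))
  haveI : Mono j₁ := inferInstanceAs (Mono ((Over.pullback b).map i₁))
  haveI : Mono j₂ := inferInstanceAs (Mono ((Over.pullback b).map i₂))
  haveI : Smooth (Red.bc b G).hom := inferInstanceAs (Smooth (pullback.snd _ _))
  let P : (Over.map b).obj (S₀ I) ⟶ T := Over.homMk a w.symm
  obtain ⟨g₀, hg₀⟩ := theta_surjective b (P ≫ t)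
  have hP : SubLe i₁ i₂ (P ≫ t) := (hT _ _).mp ⟨P, rfl⟩
  obtain ⟨g, ψ, -, hg, hgv⟩ := exists_conj_lift_le (multLoc_bc b hH₁) (multLoc_bc b hH₂) ⟨2, hI⟩ j₁ j₂ g₀
    fun X p h => by
      obtain ⟨h', hh'⟩ := hP _ ((Over.map b).map p) (theta b h)
      obtain ⟨h'', rfl⟩ := theta_surjective b h'
      refine ⟨h'', (theta_bijective b).1 ?_⟩
      rwa [theta_mul, theta_mul, theta_inv, theta_map, theta_map, theta_comp, hg₀]
  have hg' : SubLe i₁ i₂ (theta b g) := by
    intro X' x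
    obtain ⟨X'', y, e, e', he, rfl⟩ := exists_lift_over b x
    intro h
    obtain ⟨h'', hh''⟩ := theta_surjective b (e' ≫ h)
    have h1 := congrArg (theta b) (hgv X'' h'')
    rw [theta_mul, theta_mul, theta_inv, theta_map, theta_map, theta_comp, hh''] at h1
    have h2 := congrArg (fun z => e ≫ z) h1
    simp only [MonObj.comp_mul, GrpObj.comp_inv, ← Category.assoc, he, Category.id_comp] at h2
    refine ⟨e ≫ theta b (h'' ≫ ψ), ?_⟩
    rw [Subsingleton.elim (α := X'' ⟶ 𝟙_ (Over (Spec (CommRingCat.of A)))) y (toUnit X'')]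
    simpa only [Category.assoc] using h2
  obtain ⟨z, hz⟩ := (hT _ _).mpr hg'
  refine ⟨z.left, ?_, Over.w z |>.trans (Category.id_comp _)⟩
  rw [← cancel_mono t.left]
  have h3 : z.left ≫ t.left = g.left ≫ pullback.fst G.hom b :=
    ((congrArg (fun f => Over.Hom.left f) hz : (z ≫ t).left = _)).trans (theta_left b g)
  have h4 : Spec.map (CommRingCat.ofHom (Ideal.Quotient.mk I)) ≫ g.left = g₀.left :=
    congrArg (fun f => Over.Hom.left f) hg
  have h5 : g₀.left ≫ pullback.fst G.hom b = a ≫ t.left :=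
    (theta_left b g₀).symm.trans (congrArg (fun f => Over.Hom.left f) hg₀)
  exact (Category.assoc _ _ _).trans ((congrArg (_ ≫ ·) h3).trans
    ((Category.assoc _ _ _).symm.trans ((congrArg (· ≫ _) h4).trans h5)))

/-- The transporter into a subgroup is representable by a closed subscheme smooth over the base. -/
theorem exists_subLe_smooth (hH₁ : SGA3x.IsMultTypeFT H₁) (hH₂ : SGA3x.IsMultTypeFT H₂) [Smooth G.hom]
    [IsAffineHom G.hom] (i₁ : H₁ ⟶ G) [IsMonHom i₁] [Mono i₁] (i₂ : H₂ ⟶ G) [IsMonHom i₂] [Mono i₂] :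
    ∃ (T : Over S) (t : T ⟶ G), IsClosedImmersion t.left ∧ Smooth T.hom ∧
      ∀ (X : Over S) (g : X ⟶ G), (∃ z : X ⟶ T, z ≫ t = g) ↔ SubLe i₁ i₂ g := by
  obtain ⟨ha₁, he₁⟩ := TransLib.multTypeFT_essFree hH₁
  haveI := RedSub30.TorusClosed.isClosedImmersion_of_mono i₂ hH₂
  haveI : LocallyOfFinitePresentation i₂.left := by
    haveI := lfp_multTypeFT hH₂
    haveI : LocallyOfFinitePresentation (i₂.left ≫ G.hom) := by rw [Over.w i₂]; infer_instance
    exact AlgSpPts.locallyOfFinitePresentation_of_comp i₂.left G.hom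
  obtain ⟨T, t, hc, hf, hT⟩ := exists_conj_locus he₁ i₁ i₂ (𝟙 G)
  have hT' : ∀ (X : Over S) (g : X ⟶ G), (∃ z : X ⟶ T, z ≫ t = g) ↔ SubLe i₁ i₂ g := fun X g => by
    simpa [SubLe] using hT X g
  exact ⟨T, t, hc, smooth_subLe hH₁ hH₂ i₁ i₂ t hT', hT'⟩

end Groth.Agent.SgaFix20.SubTransporter

end
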