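import Groth.Agent.MultTypeLib.NilLift
import Groth.Agent.MultTypeLib.Sub
import Groth.Agent.GrpSchLib.HopfGalois
import Groth.Agent.GrpSchLib.SimpleFinite

/-!
# Quotient Hopf algebras of groups of multiplicative type
-/

universe u

open WithConv TensorProduct Coalgebra Bialgebra

noncomputable section

namespace Groth.Agent.SgaFix20

section Field

variable {k : Type u} [Field k] {A B : Type u} [CommRing A] [CommRing B] [HopfAlgebra k A] [HopfAlgebra k B]

theorem isMultType_of_surjective_field (hA : SGA3b.IsMultType k A) (φ : A →ₐc[k] B)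
    (hφ : Function.Surjective φ) : SGA3b.IsMultType k B := by
  let J : Ideal A := RingHom.ker (φ : A →ₐ[k] B)
  haveI : J.IsHopfIdeal k := GrpSchLib.isHopfIdeal_ker φ fun a ha => by
    rw [← GrpSchLib.HopfGalois.antipode_bialgHom φ a, ha, map_zero]
  have hJ := MultTypeLib.isMultType_quotient_of_field hA J
  let ψ : A ⧸ J →ₐ[k] B := Ideal.Quotient.liftₐ J (φ : A →ₐ[k] B) fun a ha => ha
  have hmk : ∀ a, ψ (Bialgebra.Quotient.mkBialgHom (R := k) J a) = φ a := fun a => rfl
  let Ψ : A ⧸ J →ₐc[k] B := BialgHom.ofAlgHom ψ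
    (AlgHom.ext fun x => by
      obtain ⟨a, rfl⟩ := Ideal.Quotient.mk_surjective x
      exact (CoalgHomClass.counit_comp_apply φ a).trans
        (CoalgHomClass.counit_comp_apply (Bialgebra.Quotient.mkBialgHom (R := k) J) a).symm)
    (AlgHom.ext fun x => by
      obtain ⟨a, rfl⟩ := Ideal.Quotient.mk_surjective x
      show Algebra.TensorProduct.map ψ ψ (comul (R := k) (Bialgebra.Quotient.mkBialgHom (R := k) J a)) =
        comul (R := k) (φ a)
      rw [← CoalgHomClass.map_comp_comul_apply φ a,
        ← CoalgHomClass.map_comp_comul_apply (Bialgebra.Quotient.mkBialgHom (R := k) J) a]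
      generalize comul (R := k) a = z
      induction z using TensorProduct.induction_on with
      | zero => simp
      | tmul x y => rfl
      | add x y hx hy => simp only [map_add, hx, hy])
  have hΨ : Function.Bijective Ψ := by
    refine ⟨(injective_iff_map_eq_zero _).mpr fun x hx => ?_, fun b => ?_⟩
    · obtain ⟨a, rfl⟩ := Ideal.Quotient.mk_surjective x
      exact Ideal.Quotient.eq_zero_iff_mem.mpr (hx : φ a = 0)
    · obtain ⟨a, rfl⟩ := hφ b
      exact ⟨Ideal.Quotient.mk J a, rfl⟩
  exact MultTypeLib.isMultType_of_transfer hJ fun S _ _ _ hd =>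
    MultTypeLib.isDiag_congr (MultTypeLib.congrBase S (BialgEquiv.ofBijective Ψ hΨ)) hd

end Field

variable {R : Type u} [CommRing R] {A B : Type u} [CommRing A] [CommRing B] [HopfAlgebra R A] [HopfAlgebra R B]

theorem isCocomm_of_surjective [Coalgebra.IsCocomm R A] (φ : A →ₐc[R] B) (hφ : Function.Surjective φ) :
    Coalgebra.IsCocomm R B := by
  constructor
  refine LinearMap.ext fun b => ?_
  obtain ⟨a, rfl⟩ := hφ b
  show TensorProduct.comm R B B (comul (R := R) (φ a)) = comul (R := R) (φ a)
  rw [← CoalgHomClass.map_comp_comul_apply φ a]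
  conv_rhs => rw [← Coalgebra.comm_comul R a]
  generalize comul (R := R) a = z
  induction z using TensorProduct.induction_on with
  | zero => simp
  | tmul x y => rfl
  | add x y hx hy => simp only [map_add, hx, hy]

theorem map_powConv (φ : A →ₐc[R] B) (n : ℕ) :
    (SGA3b.powConv R B n).comp (φ : A →ₐ[R] B) = (φ : A →ₐ[R] B).comp (SGA3b.powConv R A n) := by
  induction n with
  | zero =>
    refine AlgHom.ext fun a => ?_
    simp only [SGA3b.powConv, pow_zero, AlgHom.comp_apply, AlgHom.convOne_apply, AlgHom.commutes]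
    exact congrArg _ (CoalgHomClass.counit_comp_apply φ a)
  | succ k ih =>
    simp only [SGA3b.powConv, pow_succ] at ih ⊢
    rw [AlgHom.comp_convMul_distrib, ← ih]
    exact AlgHom.convMul_comp_bialgHom_distrib _ _ φ

theorem finite_torsion_of_surjective (φ : A →ₐc[R] B) (hφ : Function.Surjective φ) (n : ℕ)
    [Module.Finite R (A ⧸ SGA3b.torsionIdeal R A n)] : Module.Finite R (B ⧸ SGA3b.torsionIdeal R B n) := by
  let J' := SGA3b.torsionIdeal R B n
  have hle : SGA3b.torsionIdeal R A n ≤ J'.comap (φ : A →ₐ[R] B) := by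
    refine Ideal.map_le_iff_le_comap.mpr fun a ha => ?_
    show (φ : A →ₐ[R] B) (SGA3b.powConv R A n a) ∈ J'
    rw [← AlgHom.comp_apply, ← map_powConv, AlgHom.comp_apply]
    refine Ideal.mem_map_of_mem _ ?_
    show counit (R := R) (φ a) = 0
    rw [CoalgHomClass.counit_comp_apply φ a]
    exact ha
  refine Module.Finite.of_surjective
    (Ideal.quotientMapₐ J' (φ : A →ₐ[R] B) hle).toLinearMap fun x => ?_
  obtain ⟨b, rfl⟩ := Ideal.Quotient.mk_surjective x
  obtain ⟨a, rfl⟩ := hφ b
  exact ⟨Ideal.Quotient.mk _ a, rfl⟩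

end Groth.Agent.SgaFix20

end
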