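import Groth.Agent.SgaFix20.MultTypeLocal
import Groth.Agent.SgaFix20.MultTypeSub
import Groth.Agent.MultLift19.Bridge
import Groth.Agent.MultTypeLib.EtaleLift
import Groth.Agent.MultTypeLib.HopfKer
import Groth.Agent.GrpSchLib.MultTypeLft
import Groth.Agent.GrpSchLib.AffineHopfClosed
import Groth.Agent.MultLift19.Basic
import Groth.Agent.ParLib.Basic
import Groth.Agent.S5242
import Groth.Agent.S5264

/-!
# Flat closed subgroups of groups of multiplicative type
-/

universe u

open CategoryTheory CategoryTheory.Limits MonoidalCategory CartesianMonoidalCategory MonObj AlgebraicGeometry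
open TensorProduct

set_option backward.isDefEq.respectTransparency false
set_option linter.style.haveILetI false

noncomputable section

namespace Groth.Agent.SgaFix20

theorem isMultType_of_surjective {R : Type u} [CommRing R] {A C : Type u} [CommRing A] [CommRing C]
    [HopfAlgebra R A] [HopfAlgebra R C] (hA : SGA3b.IsMultType R A) (hft : Algebra.FiniteType R A)
    [Module.Flat R C] (hfp : Algebra.FinitePresentation R C) (φ : A →ₐc[R] C) (hφ : Function.Surjective φ) :
    SGA3b.IsMultType R C := by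
  haveI := MultTypeLib.isCocomm_of_isMultType hA
  haveI := isCocomm_of_surjective φ hφ
  refine S5264.result R C hfp (fun p _ => ?_) fun n hn => ?_
  · refine isMultType_of_surjective_field (MultTypeLib.isMultType_baseChange p.ResidueField hA)
      (Bialgebra.TensorProduct.map (BialgHom.id p.ResidueField p.ResidueField) φ) fun y => ?_
    induction y using TensorProduct.induction_on with
    | zero => exact ⟨0, map_zero _⟩
    | tmul x c =>
      obtain ⟨a, rfl⟩ := hφ c
      exact ⟨x ⊗ₜ a, rfl⟩
    | add x y hx hy =>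
      obtain ⟨x', rfl⟩ := hx
      obtain ⟨y', rfl⟩ := hy
      exact ⟨x' + y', map_add _ _ _⟩
  · haveI := MultTypeLib.isHopfIdeal_torsionIdeal hA n
    haveI := (S5242.result R A hft hA n hn _ rfl).2
    exact finite_torsion_of_surjective φ hφ n

open GrpSchLib.AffineHopf (sp spMap)

theorem isMultTypeFT_of_iso {S : Scheme.{u}} {H K : Over S} [GrpObj H] [GrpObj K] (e : Grp.mk H ≅ Grp.mk K)
    (hK : SGA3x.IsMultTypeFT K) : SGA3x.IsMultTypeFT H := by
  obtain ⟨S', f, h1, h2, h3, h4⟩ := hK
  refine ⟨S', f, h1, h2, h3, fun s' => ?_⟩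
  obtain ⟨U, hU, M, iM, hM, ⟨i⟩⟩ := h4 s'
  obtain ⟨e'⟩ := GrpSchLib.MultTypeBC.bc_iso (U.ι ≫ f) e
  exact ⟨U, hU, M, iM, hM, ⟨e' ≪≫ i⟩⟩

theorem isMultTypeFT_of_closed_affine {R : Type u} [CommRing R] {H H' : Over (Spec (CommRingCat.of R))} [GrpObj H]
    [GrpObj H'] (hH' : SGA3x.IsMultTypeFT H') (i : H ⟶ H') [IsMonHom i] [IsClosedImmersion i.left]
    [Flat H.hom] [LocallyOfFinitePresentation H.hom] : SGA3x.IsMultTypeFT H := by
  haveI := (TransLib.multTypeFT_essFree hH').1
  haveI : IsAffineHom H.hom := by rw [← Over.w i]; infer_instance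
  haveI : IsAffine H.left := isAffine_of_isAffineHom H.hom
  obtain ⟨A, _, _, hA, ⟨eA⟩⟩ := MultDefLib.exists_hopf_multType (MultDefLib.multLoc_of_multTypeFT hH')
  obtain ⟨C, _, _, ⟨eC⟩⟩ := GrpSchLib.AffineHopf.exists_hopf H
  let α := MultDefLib.overIso eA
  let c := MultDefLib.overIso eC
  haveI : IsMonHom c.hom := eC.hom.hom.isMonHom_hom
  haveI : IsMonHom α.inv := eA.inv.hom.isMonHom_hom
  haveI : IsIso α.hom.left := inferInstanceAs (IsIso ((Over.forget _).map α.hom))
  haveI : IsIso α.inv.left := inferInstanceAs (IsIso ((Over.forget _).map α.inv))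
  haveI : IsIso c.hom.left := inferInstanceAs (IsIso ((Over.forget _).map c.hom))
  obtain ⟨φ, hφ⟩ := GrpSchLib.AffineHopf.exists_bialgHom (c.hom ≫ i ≫ α.inv)
  have hφs : Function.Surjective φ := by
    refine GrpSchLib.AffineHopf.surjective_of_isClosedImmersion (φ : A →ₐ[R] C) ?_
    rw [← hφ, Over.comp_left, Over.comp_left]
    infer_instance
  haveI := GrpSchLib.MultTypeLft.lft hH'
  have hft : Algebra.FiniteType R A := by
    have h2 : LocallyOfFiniteType (sp R A).hom := by rw [← Over.w α.hom]; infer_instance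
    exact RingHom.finiteType_algebraMap.mp ((HasRingHomProperty.Spec_iff (P := @LocallyOfFiniteType)).mp h2)
  haveI : Module.Flat R C := by
    have h2 : Flat (sp R C).hom := by rw [← Over.w c.hom]; infer_instance
    exact RingHom.flat_algebraMap_iff.mp (Flat.SpecMap_iff.mp h2)
  have hfp : Algebra.FinitePresentation R C := by
    have h2 : LocallyOfFinitePresentation (sp R C).hom := by rw [← Over.w c.hom]; infer_instance
    exact RingHom.finitePresentation_algebraMap.mp
      ((HasRingHomProperty.Spec_iff (P := @LocallyOfFinitePresentation)).mp h2)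
  exact isMultTypeFT_of_iso eC.symm
    (MultLift19.multTypeFT_sp (isMultType_of_surjective hA hft hfp φ hφs) inferInstance)

/-- A flat closed subgroup of finite presentation of a group of multiplicative type is of multiplicative type. -/
theorem isMultTypeFT_of_closed {S : Scheme.{u}} {H H' : Over S} [GrpObj H] [GrpObj H']
    (hH' : SGA3x.IsMultTypeFT H') (i : H ⟶ H') [IsMonHom i] [IsClosedImmersion i.left]
    [Flat H.hom] [LocallyOfFinitePresentation H.hom] : SGA3x.IsMultTypeFT H := by
  refine isMultTypeFT_of_local fun s => ?_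
  obtain ⟨V, hV, hsV, -⟩ := exists_isAffineOpen_mem_and_subset (show s ∈ (⊤ : S.Opens) from trivial)
  let j := (Over.pullback hV.fromSpec).map i
  haveI : IsMonHom (show Red.bc hV.fromSpec H ⟶ Red.bc hV.fromSpec H' from j) := MultLift19.isMonHom_pullback_map hV.fromSpec i
  haveI : IsClosedImmersion (show Red.bc hV.fromSpec H ⟶ Red.bc hV.fromSpec H' from j).left :=
    MorphismProperty.of_isPullback (ParLib.isPullback_map_left hV.fromSpec i).flip ‹IsClosedImmersion i.left›
  haveI : Flat (Red.bc hV.fromSpec H).hom := inferInstanceAs (Flat (pullback.snd H.hom hV.fromSpec))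
  haveI : LocallyOfFinitePresentation (Red.bc hV.fromSpec H).hom :=
    inferInstanceAs (LocallyOfFinitePresentation (pullback.snd H.hom hV.fromSpec))
  have h := isMultTypeFT_of_closed_affine (GrpSchLib.MultTypeBC.isMultTypeFT_bc hV.fromSpec hH')
    (show Red.bc hV.fromSpec H ⟶ Red.bc hV.fromSpec H' from j)
  refine ⟨V, hsV, ?_⟩
  obtain ⟨e₁⟩ := GrpSchLib.MultTypeBC.bc_congr hV.isoSpec_hom_fromSpec.symm H
  obtain ⟨e₂⟩ := GrpSchLib.MultTypeBC.bc_bc hV.isoSpec.hom hV.fromSpec H
  exact isMultTypeFT_of_iso (e₁ ≪≫ e₂.symm) (GrpSchLib.MultTypeBC.isMultTypeFT_bc hV.isoSpec.hom h)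

end Groth.Agent.SgaFix20

end
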