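import Groth.Agent.SgaFix20.DSFact
import Groth.Agent.SgaFix20.DSProd
import Groth.Agent.GrpSchLib.MultTypeComm
import Mathlib.LinearAlgebra.FreeModule.PID

/-!
# Sums of locally split subtori
-/

universe u

open CategoryTheory CategoryTheory.Limits MonoidalCategory CartesianMonoidalCategory MonObj AlgebraicGeometry

set_option backward.isDefEq.respectTransparency false
set_option linter.style.haveILetI false
set_option synthInstance.maxHeartbeats 200000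

namespace Groth.Agent.SgaFix20

variable {S : Scheme.{u}}

theorem isMultTypeFT_of_locallySplit {E : Over S} [GrpObj E]
    (h : ∀ s : ↥S, ∃ U : S.Opens, s ∈ U ∧ ∃ r : ℕ, Red.IsSplitTorusWith (Fin r → ℤ) (Red.bc U.ι E)) :
    SGA3x.IsMultTypeFT E :=
  ⟨S, 𝟙 S, inferInstance, inferInstance, fun V hV => ⟨V, hV.isCompact, by simp⟩, fun s => by
    obtain ⟨U, hs, r, ⟨e⟩⟩ := h s
    obtain ⟨e'⟩ := GrpSchLib.MultTypeBC.bc_congr (Category.comp_id U.ι) E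
    exact ⟨U, hs, Fin r → ℤ, inferInstance, inferInstance, ⟨e' ≪≫ e⟩⟩⟩

/-- Two locally split subtori of a commutative group lie in a third. -/
theorem exists_sum {G : Over S} [GrpObj G] (hG : SGA3x.IsMultTypeFT G) {E₁ E₂ : Over S} [GrpObj E₁] [GrpObj E₂]
    (j₁ : E₁ ⟶ G) [IsMonHom j₁] (j₂ : E₂ ⟶ G) [IsMonHom j₂]
    (h₁ : ∀ s : ↥S, ∃ U : S.Opens, s ∈ U ∧ ∃ r : ℕ, Red.IsSplitTorusWith (Fin r → ℤ) (Red.bc U.ι E₁))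
    (h₂ : ∀ s : ↥S, ∃ U : S.Opens, s ∈ U ∧ ∃ r : ℕ, Red.IsSplitTorusWith (Fin r → ℤ) (Red.bc U.ι E₂)) :
    ∃ (E₃ : Over S) (_ : GrpObj E₃) (j₃ : E₃ ⟶ G) (g₁ : E₁ ⟶ E₃) (g₂ : E₂ ⟶ E₃), IsMonHom j₃ ∧ Mono j₃ ∧
      (∀ s : ↥S, ∃ U : S.Opens, s ∈ U ∧ ∃ r : ℕ, Red.IsSplitTorusWith (Fin r → ℤ) (Red.bc U.ι E₃)) ∧
      g₁ ≫ j₃ = j₁ ∧ g₂ ≫ j₃ = j₂ := by
  haveI : IsAffineHom G.hom := (TransLib.multTypeFT_essFree hG).1
  haveI : LocallyOfFiniteType G.hom := GrpSchLib.MultTypeLft.lft hG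
  haveI : IsAffineHom E₁.hom := (TransLib.multTypeFT_essFree (isMultTypeFT_of_locallySplit h₁)).1
  haveI : IsAffineHom E₂.hom := (TransLib.multTypeFT_essFree (isMultTypeFT_of_locallySplit h₂)).1
  haveI : QuasiCompact (E₁ ⊗ E₂).hom := inferInstanceAs (QuasiCompact (pullback.fst E₁.hom E₂.hom ≫ E₁.hom))
  let f : E₁ ⊗ E₂ ⟶ G := (fst E₁ E₂ ≫ j₁) * (snd E₁ E₂ ≫ j₂)
  haveI : IsMonHom f := isMonHom_of_mul f fun T a b => by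
    simp only [f, MonObj.comp_mul, ← Category.assoc, MonObj.mul_comp]
    rw [_root_.mul_assoc, _root_.mul_assoc]
    congr 1
    rw [← _root_.mul_assoc, ← _root_.mul_assoc]
    congr 1
    exact GrpSchLib.MultTypeComm.points_comm hG _ _
  have hV : ∀ s : S, ∃ V : S.Opens, s ∈ V ∧ ∃ (F : Image.Fact f (V.ι ≫ 𝟙 S)) (r : ℕ),
      Nonempty (Grp.mk F.Q ≅ Grp.mk (Red.DS (V : Scheme.{u}) (Fin r → ℤ))) := by
    intro s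
    obtain ⟨U₁, hs₁, r₁, ⟨e₁⟩⟩ := h₁ s
    obtain ⟨U₂, hs₂, r₂, ⟨e₂⟩⟩ := h₂ s
    let U : S.Opens := U₁ ⊓ U₂
    have key : ∀ {E : Over S} [GrpObj E] {W : S.Opens} {r : ℕ}, U ≤ W →
        (Grp.mk (Red.bc W.ι E) ≅ Grp.mk (Red.DS (W : Scheme.{u}) (Fin r → ℤ))) →
        Nonempty (Grp.mk (Red.bc U.ι E) ≅ Grp.mk (Red.DS (U : Scheme.{u}) (Fin r → ℤ))) := by
      intro E _ W r hle e
      obtain ⟨a⟩ := GrpSchLib.MultTypeBC.bc_congr (S.homOfLE_ι hle).symm E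
      obtain ⟨b⟩ := GrpSchLib.MultTypeBC.bc_bc (S.homOfLE hle) W.ι E
      obtain ⟨c⟩ := GrpSchLib.MultTypeBC.bc_iso (S.homOfLE hle) e
      obtain ⟨d⟩ := GrpSchLib.MultTypeBC.bc_DS (S.homOfLE hle) (Fin r → ℤ)
      exact ⟨a ≪≫ b.symm ≪≫ c ≪≫ d⟩
    obtain ⟨a₁⟩ := key inf_le_left e₁
    obtain ⟨a₂⟩ := key inf_le_right e₂
    obtain ⟨t₁⟩ := nonempty_bc_tensor_iso U.ι E₁ E₂
    obtain ⟨t₂⟩ := nonempty_tensor_iso a₁ a₂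
    obtain ⟨t₃⟩ := nonempty_DS_prod_iso (U := (U : Scheme.{u})) (M := Fin r₁ → ℤ) (N := Fin r₂ → ℤ)
    obtain ⟨V, hw, F, Λ, hΛ, ⟨eQ⟩⟩ := exists_fact f U.ι (t₁ ≪≫ t₂ ≪≫ t₃.symm) ⟨s, hs₁, hs₂⟩
    haveI : Module.Finite ℤ Λ := Module.Finite.iff_addGroup_fg.mpr ((AddGroup.fg_iff_addSubgroup_fg Λ).mpr hΛ)
    obtain ⟨b⟩ : Nonempty (Module.Basis (Fin (Module.finrank ℤ Λ)) ℤ Λ) := ⟨Module.finBasis ℤ Λ⟩
    let W : S.Opens := U.ι ''ᵁ V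
    refine ⟨W, ⟨⟨s, hs₁, hs₂⟩, hw, rfl⟩, ?_⟩
    let i : (W : Scheme.{u}) ≅ (V : Scheme.{u}) := (U.ι.isoImage V).symm
    have hi : W.ι ≫ 𝟙 S = i.hom ≫ V.ι ≫ U.ι := by
      rw [Category.comp_id]
      exact (U.ι.isoImage_inv_ι V).symm
    exact Image.Fact.exists_comp F i.hom hi (fun T' Q' => ∃ r : ℕ, Nonempty (Q' ≅ Grp.mk (Red.DS T' (Fin r → ℤ))))
      fun Q' ⟨e'⟩ => by
        obtain ⟨e''⟩ := GrpSchLib.MultTypeBC.bc_DS i.hom Λ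
        obtain ⟨e3⟩ := GrpSchLib.MultTypeBC.bc_iso i.hom eQ
        obtain ⟨e4⟩ := nonempty_DS_iso (W : Scheme.{u}) b.equivFun.toAddEquiv
        exact ⟨_, ⟨e' ≪≫ e3 ≪≫ e'' ≪≫ e4⟩⟩
  choose V hsV F r hr using hV
  obtain ⟨Q, iQ, j, hj, p, hp, hclosed, -, -, hfac, huniv⟩ :=
    Image.exists_image f (𝟙 S) (fun W hW => ⟨W, hW.isCompact, by simp⟩) (fun s => ⟨V s, hsV s, ⟨F s⟩⟩)
  haveI := hclosed
  refine ⟨Q, iQ, j, lift (𝟙 E₁) 1 ≫ p, lift 1 (𝟙 E₂) ≫ p, hj, Over.mono_of_mono_left _,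
    fun s => ⟨V s, hsV s, r s, ?_⟩, ?_, ?_⟩
  · obtain ⟨e1⟩ := huniv _ ((V s).ι ≫ 𝟙 S) inferInstance (F s)
    obtain ⟨e2⟩ := hr s
    obtain ⟨e3⟩ := GrpSchLib.MultTypeBC.bc_congr (Category.comp_id (V s).ι) Q
    exact ⟨e3.symm ≪≫ e1 ≪≫ e2⟩
  · rw [Category.assoc, hfac, MonObj.comp_mul, lift_fst_assoc, lift_snd_assoc, Category.id_comp, MonObj.one_comp,
      _root_.mul_one]
  · rw [Category.assoc, hfac, MonObj.comp_mul, lift_fst_assoc, lift_snd_assoc, Category.id_comp, MonObj.one_comp,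
      _root_.one_mul]

end Groth.Agent.SgaFix20
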