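import Groth.Agent.GrpSchLib.HomUnitLocus
import Groth.Agent.GrpSchLib.MultTypeBC
import Groth.Agent.GrpSchLib.MultTypeLft
import Groth.Agent.SgaFix20.DSImage
import Groth.Agent.MultDefLib.NormLift

/-!
# Families of homomorphisms out of a group of multiplicative type
-/

universe u

open CategoryTheory CategoryTheory.Limits MonoidalCategory CartesianMonoidalCategory MonObj AlgebraicGeometry

set_option backward.isDefEq.respectTransparency false
set_option linter.style.haveILetI false

noncomputable section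

namespace Groth.Agent.SgaFix20.BiHom

open GrpSchLib.HomUnitLocus (Triv)
open DSPtsLib (theta theta_comp theta_mul theta_bijective)

variable {S : Scheme.{u}} {A B C : Over S} [GrpObj A] [GrpObj C]

/-- The family `d` is trivial at the points of `B` over `g`. -/
def Vanish (d : A ⊗ B ⟶ C) {T : Scheme.{u}} (g : T ⟶ B.left) : Prop :=
  ∀ (X : Over S) (b : X ⟶ B) (q : X.left ⟶ T), q ≫ g = b.left → ∀ a : X ⟶ A, lift a b ≫ d = 1

/-- The locus where a family of homomorphisms out of a group of multiplicative type is trivial is open and closed. -/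
theorem exists_locus (hA : SGA3x.IsMultTypeFT A) [IsSeparated C.hom] [LocallyOfFiniteType C.hom] (d : A ⊗ B ⟶ C)
    (hd : ∀ (X : Over S) (a a' : X ⟶ A) (b : X ⟶ B), lift (a * a') b ≫ d = (lift a b ≫ d) * (lift a' b ≫ d)) :
    ∃ W : B.left.Opens, IsClosed (W : Set B.left) ∧
      (∀ b : B.left, b ∈ W ↔ Vanish d (B.left.fromSpecResidueField b)) ∧ Vanish d W.ι ∧
      ∀ {T : Scheme.{u}} (g : T ⟶ B.left), Vanish d g → ∀ t : T, g t ∈ W := by
  have hAk : SGA3x.IsMultTypeFT (Red.bc B.hom A) := GrpSchLib.MultTypeBC.isMultTypeFT_bc B.hom hA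
  haveI : IsSeparated (Red.bc B.hom C).hom := inferInstanceAs (IsSeparated (pullback.snd C.hom B.hom))
  haveI : LocallyOfFiniteType (Red.bc B.hom C).hom := inferInstanceAs (LocallyOfFiniteType (pullback.snd C.hom B.hom))
  let kp : ∀ (Y : Over B.left), (Over.map B.hom).obj Y ⟶ B := fun Y => Over.homMk Y.hom rfl
  obtain ⟨w, hw⟩ := (theta_bijective (H := C) (Y := Red.bc B.hom A) B.hom).2
    (lift (theta B.hom (𝟙 _)) (kp _) ≫ d)
  have hwp : ∀ {Y : Over B.left} (a : Y ⟶ Red.bc B.hom A),
      theta B.hom (a ≫ w) = lift (theta B.hom a) (kp Y) ≫ d := by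
    intro Y a
    have e1 : (Over.map B.hom).map a ≫ theta (H := A) B.hom (𝟙 _) = theta B.hom a := by
      rw [← theta_comp, Category.comp_id]
    have e2 : (Over.map B.hom).map a ≫ kp (Red.bc B.hom A) = kp Y := Over.OverMorphism.ext (Over.w a)
    rw [theta_comp, hw, comp_lift_assoc, e1, e2]
  haveI : IsMonHom w := MultDefLib.isMonHom_of_mul w fun Y a a' => by
    refine (theta_bijective B.hom).1 ?_
    rw [hwp, theta_mul, theta_mul, hd, hwp, hwp]
  have key : ∀ {T : Scheme.{u}} (g : T ⟶ B.left), Triv w g ↔ Vanish d g := by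
    intro T g
    constructor
    · intro h X b q hq a
      let Y : Over B.left := Over.mk b.left
      let j : X ⟶ (Over.map B.hom).obj Y := Over.homMk (𝟙 _) (by
        show 𝟙 _ ≫ b.left ≫ B.hom = X.hom
        rw [Category.id_comp]; exact Over.w b)
      let j' : (Over.map B.hom).obj Y ⟶ X := Over.homMk (𝟙 _) (by
        show 𝟙 _ ≫ X.hom = b.left ≫ B.hom
        rw [Category.id_comp]; exact (Over.w b).symm)
      have hjj : j ≫ j' = 𝟙 _ := Over.OverMorphism.ext (Category.id_comp _)
      obtain ⟨a₁, ha₁⟩ := (theta_bijective (H := A) (Y := Y) B.hom).2 (j' ≫ a)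
      have h2 := congrArg (fun m => j ≫ theta (H := C) B.hom m) (h Y (Over.homMk q hq) a₁)
      simp only [hwp, GrpSchLib.HomUnitLocus.theta_one, MonObj.comp_one, comp_lift_assoc, ha₁] at h2
      rwa [show j ≫ kp Y = b from Over.OverMorphism.ext (Category.id_comp _), reassoc_of% hjj] at h2
    · intro h Y q a
      refine (theta_bijective B.hom).1 ?_
      rw [hwp, GrpSchLib.HomUnitLocus.theta_one]
      exact h _ _ q.left (Over.w q) _
  obtain ⟨W, hW, hmem, htriv⟩ := GrpSchLib.HomUnitLocus.main (u := w) hAk (Or.inr inferInstance)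
  refine ⟨W, hW, fun b => (hmem b).trans (key _), (key _).mp htriv, fun {T} g hg t => ?_⟩
  rw [hmem]
  have h1 := (GrpSchLib.HomUnitLocus.triv_iff_of_field _).mp (((key g).mpr hg).comp (T.fromSpecResidueField t))
  rw [Scheme.Hom.comp_apply] at h1
  exact (congrArg (fun y => Triv w (B.left.fromSpecResidueField (g y)))
    (Scheme.fromSpecResidueField_apply t _)).mp h1

/-- A family which is trivial at every point is trivial. -/
theorem eq_one_of_points (hA : SGA3x.IsMultTypeFT A) [IsSeparated C.hom] [LocallyOfFiniteType C.hom] (d : A ⊗ B ⟶ C)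
    (hd : ∀ (X : Over S) (a a' : X ⟶ A) (b : X ⟶ B), lift (a * a') b ≫ d = (lift a b ≫ d) * (lift a' b ≫ d))
    (h : ∀ b : B.left, Vanish d (B.left.fromSpecResidueField b)) : d = 1 := by
  obtain ⟨W, -, hmem, hW, -⟩ := exists_locus hA d hd
  have hr : Set.range (snd A B).left ⊆ Set.range W.ι := by
    rw [Scheme.Opens.range_ι]
    exact fun x _ => (hmem x).mpr (h x)
  have h1 := hW (A ⊗ B) (snd A B) (IsOpenImmersion.lift W.ι (snd A B).left hr) (IsOpenImmersion.lift_fac _ _ _) (fst A B)
  rwa [lift_fst_snd, Category.id_comp] at h1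

/-- A family trivial at a section is trivial once every fibre is connected or has only trivial points. -/
theorem eq_one_of_fibres (hA : SGA3x.IsMultTypeFT A) [IsSeparated C.hom] [LocallyOfFiniteType C.hom]
    (d : A ⊗ B ⟶ C)
    (hd : ∀ (X : Over S) (a a' : X ⟶ A) (b : X ⟶ B), lift (a * a') b ≫ d = (lift a b ≫ d) * (lift a' b ≫ d))
    (e : 𝟙_ (Over S) ⟶ B) (he : ∀ (X : Over S) (a : X ⟶ A), lift a (toUnit X ≫ e) ≫ d = 1)
    (hB : ∀ s : S, _root_.IsConnected (B.hom.base ⁻¹' {s}) ∨
      ∀ b : B.left, B.hom b = s → Vanish d (B.left.fromSpecResidueField b)) : d = 1 := by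
  obtain ⟨W, hW, hmem, -, hrange⟩ := exists_locus hA d hd
  have hsec : e.left ≫ B.hom = 𝟙 S := Over.w e
  have heW : ∀ s : S, e.left s ∈ W := hrange e.left fun X b q hq a => by
    have hb : b = toUnit X ≫ e := Over.OverMorphism.ext (by
      show b.left = (toUnit X).left ≫ e.left
      rw [← hq, Over.toUnit_left, ← Over.w b, ← hq, Category.assoc q, hsec]
      exact congrArg (· ≫ e.left) (Category.comp_id q).symm)
    rw [hb]
    exact he X a
  refine eq_one_of_points hA d hd fun b => ?_
  rcases hB (B.hom b) with hc | hv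
  · rw [← hmem]
    exact hc.isPreconnected.subset_isClopen ⟨hW, W.2⟩
      ⟨e.left (B.hom b), show B.hom (e.left (B.hom b)) = B.hom b by rw [← Scheme.Hom.comp_apply, hsec]; rfl,
        heW _⟩ (show B.hom b = B.hom b from rfl)
  · exact hv b rfl

/-- A family parametrised by a scheme with connected fibres which is trivial at a section is trivial. -/
theorem eq_one_of_connected (hA : SGA3x.IsMultTypeFT A) [IsSeparated C.hom] [LocallyOfFiniteType C.hom]
    (d : A ⊗ B ⟶ C)
    (hd : ∀ (X : Over S) (a a' : X ⟶ A) (b : X ⟶ B), lift (a * a') b ≫ d = (lift a b ≫ d) * (lift a' b ≫ d))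
    (e : 𝟙_ (Over S) ⟶ B) (he : ∀ (X : Over S) (a : X ⟶ A), lift a (toUnit X ≫ e) ≫ d = 1)
    (hB : ∀ s : S, _root_.IsConnected (B.hom.base ⁻¹' {s})) : d = 1 :=
  eq_one_of_fibres hA d hd e he fun s => Or.inl (hB s)

end Groth.Agent.SgaFix20.BiHom

end
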