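import Groth.Agent.SgaFix20.MultTypeClosed
import Groth.Agent.ComodLib.BaseChange
import Groth.Agent.S17525
import Groth.Agent.S7965
import Groth.Agent.S16065
import Groth.Agent.S14691
import Groth.Prelude.Def_AlgGrp

/-!
# Commutative extensions of groups of multiplicative type over a field
-/

universe u

open CategoryTheory CategoryTheory.Limits MonoidalCategory CartesianMonoidalCategory MonObj AlgebraicGeometry
open TensorProduct

set_option backward.isDefEq.respectTransparency false
set_option linter.style.haveILetI false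

noncomputable section

namespace Groth.Agent.SgaFix20

open GrpSchLib.AffineHopf (sp spMap spMap_comp spMap_injective)

variable {k : Type u} [Field k]

theorem spMap_one {A B : Type u} [CommRing A] [CommRing B] [Algebra k A] [Bialgebra k B] :
    spMap ((Algebra.ofId k A).comp (Bialgebra.counitAlgHom k B)) = (1 : sp k A ⟶ sp k B) := by
  refine Eq.trans ?_ (map_one Spec.mapMulEquiv)
  exact (GrpSchLib.AffineHopf.spMap_eq_mapMulEquiv _).trans (congrArg Spec.mapMulEquiv (WithConv.ext rfl))

theorem isLinearlyReductive_of_isMultType {A : Type u} [CommRing A] [HopfAlgebra k A]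
    (hft : Algebra.FiniteType k A) (hA : SGA3b.IsMultType k A) : HopfRep.IsLinearlyReductive k A := by
  obtain ⟨K, _, _, -, M, _, ⟨e⟩⟩ := MultTypeLib.exists_isDiag_finite (k := k) (A := A) (hft := hft) (h := hA)
  obtain ⟨α, hα, h1⟩ := ComodLib.isIntegral_coeff_one K M
  obtain ⟨β, hβ, hβ1⟩ := ComodLib.exists_integral_descent K (hα.comp_equiv e) (by simp [h1])
  exact ComodLib.isLinearlyReductive_of_integral hβ hβ1

theorem isMultType_of_extension {AQ AP AH : Type u} [CommRing AQ] [HopfAlgebra k AQ] [CommRing AP]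
    [HopfAlgebra k AP] [CommRing AH] [HopfAlgebra k AH] [Coalgebra.IsCocomm k AP]
    (hfQ : Algebra.FiniteType k AQ) (hfP : Algebra.FiniteType k AP) (hfH : Algebra.FiniteType k AH)
    (φ : AQ →ₐc[k] AP) (hφ : Function.Injective φ) (ψ : AP →ₐc[k] AH) (hψ : Function.Surjective ψ)
    (hker : RingHom.ker (ψ : AP →ₐ[k] AH) =
      Ideal.map (φ : AQ →ₐ[k] AP) (RingHom.ker (Bialgebra.counitAlgHom k AQ)))
    (hH : SGA3b.IsMultType k AH) (hQ : SGA3b.IsMultType k AQ) : SGA3b.IsMultType k AP := by
  haveI := hfQ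
  haveI := hfP
  haveI := hfH
  have hLR : HopfRep.IsLinearlyReductive k AP := (S17525.result k AQ AP AH φ hφ ψ hψ hker).mpr
    ⟨isLinearlyReductive_of_isMultType hfH hH, isLinearlyReductive_of_isMultType hfQ hQ⟩
  exact MultTypeLib.isMultType_of_ff (AlgebraicClosure k)
    (S16065.isDiag_of_isDiagonalizable (S7965.result k AP hLR))

/-- A commutative extension of groups of multiplicative type over a field is of multiplicative type. -/
theorem isMultTypeFT_of_extension_field {P H Q : Over (Spec (CommRingCat.of k))} [GrpObj P] [GrpObj H] [GrpObj Q]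
    [IsCommMonObj P] [IsAffineHom P.hom] [LocallyOfFiniteType P.hom] (p : P ⟶ Q) [IsMonHom p]
    [Surjective p.left] [Flat p.left] (i : H ⟶ P) [IsMonHom i] (hker : AlgGrp.IsKernel i p)
    (hH : SGA3x.IsMultTypeFT H) (hQ : SGA3x.IsMultTypeFT Q) : SGA3x.IsMultTypeFT P := by
  haveI : IsAffine P.left := isAffine_of_isAffineHom P.hom
  obtain ⟨AH, _, _, hAH, ⟨eH⟩⟩ := MultDefLib.exists_hopf_multType (MultDefLib.multLoc_of_multTypeFT hH)
  obtain ⟨AQ, _, _, hAQ, ⟨eQ⟩⟩ := MultDefLib.exists_hopf_multType (MultDefLib.multLoc_of_multTypeFT hQ)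
  obtain ⟨AP, _, _, ⟨eP⟩⟩ := GrpSchLib.AffineHopf.exists_hopf P
  let a := MultDefLib.overIso eH
  let b := MultDefLib.overIso eQ
  let c := MultDefLib.overIso eP
  haveI : IsMonHom a.hom := eH.hom.hom.isMonHom_hom
  haveI : IsMonHom c.hom := eP.hom.hom.isMonHom_hom
  haveI : IsMonHom c.inv := eP.inv.hom.isMonHom_hom
  haveI : IsMonHom b.inv := eQ.inv.hom.isMonHom_hom
  haveI hi : ∀ {X Y : Over (Spec (CommRingCat.of k))} (e : X ≅ Y), IsIso e.hom.left := fun e =>
    inferInstanceAs (IsIso ((Over.forget _).map e.hom))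
  haveI hi' : ∀ {X Y : Over (Spec (CommRingCat.of k))} (e : X ≅ Y), IsIso e.inv.left := fun e =>
    inferInstanceAs (IsIso ((Over.forget _).map e.inv))
  have hft : ∀ (A : Type u) [CommRing A] [Algebra k A], LocallyOfFiniteType (sp k A).hom → Algebra.FiniteType k A :=
    fun A _ _ h => RingHom.finiteType_algebraMap.mp ((HasRingHomProperty.Spec_iff (P := @LocallyOfFiniteType)).mp h)
  haveI := GrpSchLib.MultTypeLft.lft hH
  haveI := GrpSchLib.MultTypeLft.lft hQ
  have hfH := hft AH (by rw [← Over.w a.hom]; infer_instance)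
  have hfQ := hft AQ (by rw [← Over.w b.hom]; infer_instance)
  have hfP := hft AP (by rw [← Over.w c.hom]; infer_instance)
  haveI : Coalgebra.IsCocomm k AP := S14691.isCocomm_of_iso c.hom
  haveI := (TransLib.multTypeFT_essFree hQ).1
  obtain ⟨φ, hφ⟩ := GrpSchLib.AffineHopf.exists_bialgHom (c.hom ≫ p ≫ b.inv)
  obtain ⟨ψ, hψ⟩ := GrpSchLib.AffineHopf.exists_bialgHom (a.hom ≫ i ≫ c.inv)
  have hφinj : Function.Injective φ := by
    letI : Algebra AQ AP := (φ : AQ →+* AP).toAlgebra
    have h1 : Surjective (spMap (φ : AQ →ₐ[k] AP)).left := by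
      rw [← hφ, Over.comp_left, Over.comp_left]; infer_instance
    have h2 : Flat (spMap (φ : AQ →ₐ[k] AP)).left := by
      rw [← hφ, Over.comp_left, Over.comp_left]; infer_instance
    have hff : (φ : AQ →+* AP).FaithfullyFlat :=
      RingHom.FaithfullyFlat.iff_flat_and_comap_surjective.mpr ⟨Flat.SpecMap_iff.mp h2, h1.surj⟩
    haveI : Module.FaithfullyFlat AQ AP := RingHom.faithfullyFlat_algebraMap_iff.mp hff
    exact FaithfulSMul.algebraMap_injective AQ AP
  have hψsurj : Function.Surjective ψ := by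
    refine GrpSchLib.AffineHopf.surjective_of_isClosedImmersion (ψ : AP →ₐ[k] AH) ?_
    rw [← hψ, Over.comp_left, Over.comp_left]
    haveI : IsClosedImmersion η[Q].left := by
      haveI : IsClosedImmersion (η[Q].left ≫ Q.hom) := by rw [Over.w η[Q]]; exact inferInstanceAs (IsClosedImmersion (𝟙 _))
      exact IsClosedImmersion.of_comp η[Q].left Q.hom
    haveI : IsClosedImmersion i.left :=
      MorphismProperty.of_isPullback (IsPullback.map (Over.forget _) hker).flip ‹IsClosedImmersion η[Q].left›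
    infer_instance
  let I := Ideal.map (φ : AQ →ₐ[k] AP) (RingHom.ker (Bialgebra.counitAlgHom k AQ))
  have h1 : (a.hom ≫ i ≫ c.inv) ≫ c.hom ≫ p ≫ b.inv = 1 := by
    simp only [Category.assoc, Iso.inv_hom_id_assoc]
    rw [← Category.assoc i p, hker.w, Category.assoc, ← Category.assoc a.hom, comp_toUnit, IsMonHom.one_hom b.inv,
      ← Hom.one_def]
  have hker' : RingHom.ker (ψ : AP →ₐ[k] AH) = I := by
    refine le_antisymm (fun x hx => ?_) (Ideal.map_le_iff_le_comap.mpr fun y hy => ?_)
    · let π : AP →ₐ[k] AP ⧸ I := Ideal.Quotient.mkₐ k I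
      let g : sp k (AP ⧸ I) ⟶ P := spMap π ≫ c.hom
      have hg : g ≫ p = toUnit _ ≫ η[Q] := by
        rw [← cancel_mono b.inv, Category.assoc, Category.assoc, Category.assoc, IsMonHom.one_hom b.inv, ← Hom.one_def, hφ,
          spMap_comp]
        have e : π.comp (φ : AQ →ₐ[k] AP) =
            (Algebra.ofId k (AP ⧸ I)).comp (Bialgebra.counitAlgHom k AQ) := AlgHom.ext fun y => by
          show Ideal.Quotient.mk I (φ y) = algebraMap k (AP ⧸ I) (Bialgebra.counitAlgHom k AQ y)
          rw [← Ideal.Quotient.mk_algebraMap, Ideal.Quotient.eq, ← AlgHom.commutes (φ : AQ →ₐ[k] AP)]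
          show (φ : AQ →ₐ[k] AP) y - (φ : AQ →ₐ[k] AP) _ ∈ I
          rw [← map_sub]
          exact Ideal.mem_map_of_mem _ (by simp [RingHom.mem_ker])
        rw [e]
        exact spMap_one
      obtain ⟨θ, hθ⟩ := GrpSchLib.AffineHopf.exists_eq_spMap (hker.lift g (toUnit _) hg ≫ a.inv)
      have h2 : spMap π = spMap (θ.comp (ψ : AP →ₐ[k] AH)) := by
        rw [← spMap_comp, ← hθ, ← hψ]
        simp [g]
      have h3 := AlgHom.congr_fun (spMap_injective h2) x
      rw [AlgHom.comp_apply, RingHom.mem_ker.mp hx, map_zero] at h3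
      exact Ideal.Quotient.eq_zero_iff_mem.mp h3
    · show (ψ : AP →ₐ[k] AH) ((φ : AQ →ₐ[k] AP) y) = 0
      rw [hψ, hφ, spMap_comp] at h1
      rw [← AlgHom.comp_apply, spMap_injective (h1.trans spMap_one.symm), AlgHom.comp_apply,
        RingHom.mem_ker.mp hy, map_zero]
  exact isMultTypeFT_of_iso eP.symm
    (MultLift19.multTypeFT_sp (isMultType_of_extension hfQ hfP hfH φ hφinj ψ hψsurj hker' hAH hAQ) hfP)

end Groth.Agent.SgaFix20

end
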