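import Groth.Agent.GrpSchLib.MonoSubgroup
import Groth.Agent.GrpSchLib.HomSplitLocal
import Groth.Agent.GrpSchLib.HomUnitLocus
import Groth.Agent.FpqcDescLib.Closed
import Groth.Agent.RedSub30.Quot
import Groth.Agent.Triage.SchDense
import Groth.Prelude.Def_SGA3x

/-!
# The image of a homomorphism as a scheme-theoretic image

If fpqc locally a homomorphism factors as a faithfully flat homomorphism followed by a closed immersion, its
scheme-theoretic image is a subgroup, commutes with flat base change, and the map onto it is faithfully flat.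
-/

universe u

open CategoryTheory CategoryTheory.Limits MonoidalCategory CartesianMonoidalCategory MonObj GrpObj AlgebraicGeometry

set_option backward.isDefEq.respectTransparency false
set_option linter.style.haveILetI false
set_option synthInstance.maxHeartbeats 200000

namespace Groth.Agent.SgaFix20.Image

open DSPtsLib (theta theta_bijective theta_mul)
open GrpSchLib.HomUnitLocus (theta_one)

variable {S : Scheme.{u}} {H G : Over S} [GrpObj H] [GrpObj G]

theorem theta_comp_map {S T : Scheme.{u}} (g : T ⟶ S) {X Y : Over S} (Z : Over T) (a : Z ⟶ Red.bc g X) (v : X ⟶ Y) :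
    theta g (a ≫ (Over.pullback g).map v) = theta g a ≫ v :=
  (Over.mapPullbackAdj g).homEquiv_naturality_right_symm a v

/-- A faithfully flat homomorphism followed by a closed immersion factoring `f` over `t`. -/
structure Fact (f : H ⟶ G) {T : Scheme.{u}} (t : T ⟶ S) where
  /-- The image. -/
  Q : Over T
  [grp : GrpObj Q]
  /-- The inclusion. -/
  j : Q ⟶ Red.bc t G
  [hom : IsMonHom j]
  /-- The projection. -/
  p : Red.bc t H ⟶ Q
  closed : IsClosedImmersion j.left
  flat : Flat p.left
  surj : Surjective p.left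
  fac : p ≫ j = (Over.pullback t).map f

attribute [instance] Fact.grp Fact.hom

theorem covers_of_ff {A B : Over S} (p : A ⟶ B) [QuasiCompact A.hom] [IsSeparated B.hom] [Flat p.left]
    [Surjective p.left] : FpqcDescLib.Covers p.left := by
  haveI : QuasiCompact (p.left ≫ B.hom) := by rw [Over.w p]; infer_instance
  haveI : QuasiCompact p.left := QuasiCompact.of_comp p.left B.hom
  exact FpqcDescLib.covers_of_isCovering (FpqcDescLib.isCovering_of_quasiCompact p.left)

/-- Factorisations through two closed immersions by faithfully flat maps agree. -/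
theorem exists_hom {A B B' C : Over S} [QuasiCompact A.hom] [IsSeparated C.hom] (p : A ⟶ B) (i : B ⟶ C)
    (p' : A ⟶ B') (i' : B' ⟶ C) [IsClosedImmersion i.left] [IsClosedImmersion i'.left] [Flat p.left]
    [Surjective p.left] (e : p ≫ i = p' ≫ i') : ∃ g : B ⟶ B', g ≫ i' = i ∧ p ≫ g = p' := by
  haveI : IsSeparated B.hom := by
    rw [← Over.w i]
    infer_instance
  have hp := covers_of_ff p
  haveI : Mono i' := Over.mono_of_mono_left _
  obtain ⟨g, hg, -⟩ := hp.over_desc p' fun T a b hab => by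
    rw [← cancel_mono i', Category.assoc, Category.assoc, ← e, reassoc_of% hab]
  haveI := hp.over_epi
  exact ⟨g, by rw [← cancel_epi p, reassoc_of% hg, e], hg⟩

theorem exists_factor_local {X Z T : Scheme.{u}} (i : Z ⟶ X) [Mono i] (h : T ⟶ X)
    (hloc : ∀ y : T, ∃ W : T.Opens, y ∈ W ∧ ∃ l : (W : Scheme.{u}) ⟶ Z, l ≫ i = W.ι ≫ h) :
    ∃ l : T ⟶ Z, l ≫ i = h := by
  choose W hW l hl using hloc
  let 𝒰 : T.OpenCover := T.openCoverOfIsOpenCover W (TopologicalSpace.IsOpenCover.mk (eq_top_iff.mpr fun y _ =>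
    TopologicalSpace.Opens.mem_iSup.mpr ⟨y, hW y⟩))
  refine ⟨𝒰.glueMorphisms l fun a b => ?_, 𝒰.hom_ext _ _ fun a => ?_⟩
  · rw [← cancel_mono i, Category.assoc, Category.assoc, hl, hl, ← Category.assoc, ← Category.assoc]
    exact congrArg (· ≫ h) pullback.condition
  · rw [Scheme.Cover.ι_glueMorphisms_assoc]
    exact hl a

variable [IsSeparated G.hom] [QuasiCompact H.hom] (f : H ⟶ G)

/-- The scheme-theoretic image. -/
noncomputable abbrev obj : Over S := Over.mk (f.left.imageι ≫ G.hom)

/-- Its inclusion. -/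
noncomputable abbrev incl : obj f ⟶ G := Over.homMk f.left.imageι rfl

/-- The map onto it. -/
noncomputable abbrev toObj : H ⟶ obj f := Over.homMk f.left.toImage (by
  show f.left.toImage ≫ f.left.imageι ≫ G.hom = H.hom
  rw [Scheme.Hom.toImage_imageι_assoc, Over.w f])

omit [IsSeparated G.hom] [QuasiCompact H.hom] [GrpObj H] [GrpObj G] in
theorem toObj_incl : toObj f ≫ incl f = f := Over.OverMorphism.ext f.left.toImage_imageι

theorem compare {T : Scheme.{u}} (t : T ⟶ S) [Flat t] (F : Fact f t) :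
    ∃ a : F.Q ⟶ Red.bc t (obj f), a ≫ (Over.pullback t).map (incl f) = F.j ∧
      ∃ b : Red.bc t (obj f) ⟶ F.Q, b ≫ F.j = (Over.pullback t).map (incl f) ∧
        F.p ≫ a = (Over.pullback t).map (toObj f) := by
  haveI : QuasiCompact (f.left ≫ G.hom) := by rw [Over.w f]; infer_instance
  haveI : QuasiCompact f.left := QuasiCompact.of_comp f.left G.hom
  haveI : IsClosedImmersion (incl f).left := inferInstanceAs (IsClosedImmersion f.left.imageι)
  haveI : IsClosedImmersion ((Over.pullback t).map (incl f)).left :=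
    MorphismProperty.of_isPullback (P := @IsClosedImmersion) (GrpSchLib.HomSplitLocal.isPullback_map (incl f) t) this
  haveI := F.closed
  haveI := F.flat
  haveI := F.surj
  haveI : QuasiCompact (Red.bc t H).hom := inferInstanceAs (QuasiCompact (pullback.snd H.hom t))
  haveI : IsSeparated (Red.bc t G).hom := inferInstanceAs (IsSeparated (pullback.snd G.hom t))
  have hfac : F.p ≫ F.j = (Over.pullback t).map (toObj f) ≫ (Over.pullback t).map (incl f) := by
    rw [← Functor.map_comp, toObj_incl, F.fac]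
  obtain ⟨a, ha, ha'⟩ := exists_hom F.p F.j _ _ hfac
  refine ⟨a, ha, ?_⟩
  let c := pullback.snd F.j.left ((Over.pullback t).map (incl f)).left
  let pt := ((Over.pullback t).map (toObj f)).left
  have hl : F.p.left ≫ F.j.left = pt ≫ ((Over.pullback t).map (incl f)).left :=
    congrArg (fun m => Over.Hom.left m) hfac
  haveI : IsSchemeTheoreticallyDominant (toObj f).left :=
    Triage.SchDense.isSchemeTheoreticallyDominant_toImage f.left
  haveI : QuasiCompact (toObj f).left := inferInstanceAs (QuasiCompact f.left.toImage)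
  haveI : Flat (pullback.fst (obj f).hom t) := inferInstance
  haveI : IsSchemeTheoreticallyDominant pt :=
    IsSchemeTheoreticallyDominant.of_isPullback (GrpSchLib.HomSplitLocal.isPullback_map (toObj f) t)
  haveI : IsIso c := by
    refine IsClosedImmersion.isIso_iff_ker_eq_bot.mpr (le_bot_iff.mp ?_)
    refine le_trans (Scheme.Hom.le_ker_comp (pullback.lift F.p.left pt hl) c) (le_of_eq ?_)
    rw [pullback.lift_snd]
    exact Scheme.Hom.ker_eq_bot pt
  have hb : (inv c ≫ pullback.fst _ _) ≫ F.j.left = ((Over.pullback t).map (incl f)).left := by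
    rw [Category.assoc, pullback.condition, IsIso.inv_hom_id_assoc]
  exact ⟨Over.homMk (inv c ≫ pullback.fst _ _) (by rw [← Over.w F.j, ← Category.assoc, hb]; exact Over.w _),
    Over.OverMorphism.ext hb, ha'⟩

variable [IsMonHom f] {S' : Scheme.{u}} (π : S' ⟶ S) [Flat π] [Surjective π]
  (hcov : ∀ V : S.Opens, IsAffineOpen V → ∃ W : S'.Opens, IsCompact (W : Set S') ∧ π.base '' (W : Set S') = (V : Set S))
  (hloc : ∀ s' : S', ∃ V : S'.Opens, s' ∈ V ∧ Nonempty (Fact f (V.ι ≫ π)))

include hcov hloc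

/-- The image is closed under `x y⁻¹`. -/
theorem exists_div {Y : Over S} (x y : Y ⟶ obj f) :
    ∃ z : Y ⟶ obj f, z ≫ incl f = (x ≫ incl f) * (y ≫ incl f)⁻¹ := by
  haveI : IsClosedImmersion (incl f).left := inferInstanceAs (IsClosedImmersion f.left.imageι)
  haveI : Mono (incl f) := Over.mono_of_mono_left _
  let h := (x ≫ incl f) * (y ≫ incl f)⁻¹
  let P : Over S := Over.mk (pullback.fst Y.hom π ≫ Y.hom)
  let ρ : P ⟶ Y := Over.homMk (pullback.fst Y.hom π) rfl
  have hρ : FpqcDescLib.Covers ρ.left :=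
    (FpqcDescLib.covers_of_hcov π ⟨S', π, 𝟙 _, Category.id_comp _, inferInstance, inferInstance, hcov⟩).pullback
      Y.hom _ (pullback.snd Y.hom π) (IsPullback.of_hasPullback _ _)
  suffices hP : ∃ l : P.left ⟶ (obj f).left, l ≫ (incl f).left = (ρ ≫ h).left by
    obtain ⟨l, hl⟩ := hP
    exact RedSub30.exists_factor_of_covers (incl f) hρ h
      (Over.homMk l (by rw [← Over.w (incl f), reassoc_of% hl]; exact Over.w (ρ ≫ h))) (Over.OverMorphism.ext hl)
  refine exists_factor_local (incl f).left _ fun w => ?_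
  obtain ⟨V, hwV, ⟨F⟩⟩ := hloc (pullback.snd Y.hom π w)
  let W : P.left.Opens := pullback.snd Y.hom π ⁻¹ᵁ V
  refine ⟨W, hwV, ?_⟩
  let t := V.ι ≫ π
  let X : Over (V : Scheme.{u}) := Over.mk (pullback.snd Y.hom π ∣_ V)
  let e : (Over.map t).obj X ⟶ P := Over.homMk W.ι (by
    show W.ι ≫ pullback.fst Y.hom π ≫ Y.hom = (pullback.snd Y.hom π ∣_ V) ≫ V.ι ≫ π
    rw [pullback.condition, morphismRestrict_ι_assoc])
  obtain ⟨a, ha, b, hb, -⟩ := compare f t F
  have hx : ∀ x : Y ⟶ obj f, ∃ x' : X ⟶ F.Q, theta t (x' ≫ F.j) = e ≫ ρ ≫ x ≫ incl f := fun x => by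
    obtain ⟨x₀, hx₀⟩ := (theta_bijective t).2 (e ≫ ρ ≫ x)
    refine ⟨x₀ ≫ b, ?_⟩
    rw [Category.assoc, hb, theta_comp_map t X, hx₀, Category.assoc, Category.assoc]
  obtain ⟨x', hx'⟩ := hx x
  obtain ⟨y', hy'⟩ := hx y
  have hinv : ∀ z : X ⟶ Red.bc t G, theta t z⁻¹ = (theta t z)⁻¹ := fun z =>
    eq_inv_of_mul_eq_one_left (by rw [← theta_mul, inv_mul_cancel, theta_one])
  have key : theta t (((x' * y'⁻¹) ≫ a) ≫ (Over.pullback t).map (incl f)) = e ≫ ρ ≫ h := by
    rw [Category.assoc, ha, MonObj.mul_comp, GrpObj.inv_comp, theta_mul, hinv, hx', hy', MonObj.comp_mul,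
      GrpObj.comp_inv, MonObj.comp_mul, GrpObj.comp_inv]
  rw [theta_comp_map] at key
  exact ⟨(theta t ((x' * y'⁻¹) ≫ a)).left, congrArg (fun m => Over.Hom.left m) key⟩

theorem exists_grp :
    ∃ str : GrpObj (obj f), (letI := str; IsMonHom (incl f)) ∧ (letI := str; IsMonHom (toObj f)) := by
  haveI : IsClosedImmersion (incl f).left := inferInstanceAs (IsClosedImmersion f.left.imageι)
  haveI : Mono (incl f) := Over.mono_of_mono_left _
  let e : 𝟙_ (Over S) ⟶ obj f := η[H] ≫ toObj f
  have he : e ≫ incl f = η[G] := by rw [Category.assoc, toObj_incl, IsMonHom.one_hom f]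
  have he1 : ∀ T : Over S, (toUnit T ≫ e) ≫ incl f = 1 := fun T => by
    rw [Category.assoc, he, MonObj.one_eq_one, MonObj.comp_one]
  obtain ⟨v, hv⟩ := exists_div f π hcov hloc (toUnit (obj f) ≫ e) (𝟙 _)
  rw [he1, Category.id_comp, _root_.one_mul] at hv
  obtain ⟨m, hm⟩ := exists_div f π hcov hloc (fst (obj f) (obj f)) (snd (obj f) (obj f) ≫ v)
  rw [Category.assoc, hv, GrpObj.comp_inv, _root_.inv_inv] at hm
  obtain ⟨str, hi⟩ := GrpSchLib.exists_grpObj_of_mono (incl f) e he m hm v hv
  refine ⟨str, hi, ?_⟩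
  letI := str
  haveI := hi
  exact { one_hom := by rw [← cancel_mono (incl f), Category.assoc, toObj_incl, IsMonHom.one_hom f, IsMonHom.one_hom (incl f)]
          mul_hom := by
            rw [← cancel_mono (incl f), Category.assoc, toObj_incl, IsMonHom.mul_hom f, Category.assoc,
              IsMonHom.mul_hom (incl f), MonoidalCategory.tensorHom_comp_tensorHom_assoc, toObj_incl] }

theorem ff_toObj : GrpSchLib.HomSplitLocal.Ff (toObj f) (𝟙 S) := by
  suffices h : GrpSchLib.HomSplitLocal.Ff (toObj f) π by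
    exact GrpSchLib.HomSplitLocal.Ff.of_flat_surjective π (by rwa [Category.comp_id])
  choose V hV hF using hloc
  have hff : ∀ s', GrpSchLib.HomSplitLocal.Ff (toObj f) ((V s').ι ≫ π) := fun s' => by
    obtain ⟨F⟩ := hF s'
    obtain ⟨a, ha, b, hb, hpa⟩ := compare f _ F
    haveI := F.closed
    haveI : IsClosedImmersion ((Over.pullback ((V s').ι ≫ π)).map (incl f)).left :=
      MorphismProperty.of_isPullback (P := @IsClosedImmersion) (GrpSchLib.HomSplitLocal.isPullback_map (incl f) _)
        (inferInstanceAs (IsClosedImmersion f.left.imageι))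
    haveI : Mono F.j := Over.mono_of_mono_left _
    haveI : Mono ((Over.pullback ((V s').ι ≫ π)).map (incl f)) := Over.mono_of_mono_left _
    haveI : IsIso a := ⟨⟨b, by rw [← cancel_mono F.j, Category.assoc, hb, ha, Category.id_comp],
      by rw [← cancel_mono ((Over.pullback ((V s').ι ≫ π)).map (incl f)), Category.assoc, ha, hb, Category.id_comp]⟩⟩
    haveI : IsIso a.left := (inferInstance : IsIso ((Over.forget _).map a))
    haveI := F.flat
    haveI := F.surj
    show Flat _ ∧ Surjective _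
    rw [← hpa, Over.comp_left]
    exact ⟨inferInstance, inferInstance⟩
  have hcover : ∀ x : (Red.bc π H).left, ∃ s', x ∈ Set.range (GrpSchLib.HomSplitLocal.baseMap H (V s').ι π) := by
    intro x
    refine ⟨pullback.snd H.hom π x, ?_⟩
    have h := (GrpSchLib.HomSplitLocal.isPullback_baseMap H (V (pullback.snd H.hom π x)).ι π)
    obtain ⟨z, hz, -⟩ := Scheme.Pullback.exists_preimage_pullback (f := pullback.snd H.hom π)
      (g := (V (pullback.snd H.hom π x)).ι) x (⟨_, hV (pullback.snd H.hom π x)⟩ :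
      (V (pullback.snd H.hom π x) : Scheme.{u})) rfl
    exact ⟨h.isoPullback.inv z, by rw [← Scheme.Hom.comp_apply, h.isoPullback_inv_fst, hz]⟩
  have hsq := fun s' => GrpSchLib.HomSplitLocal.isPullback_comp (toObj f) (V s').ι π
  have hopen : ∀ (X : Over S) s', IsOpenImmersion (GrpSchLib.HomSplitLocal.baseMap X (V s').ι π) := fun X s' =>
    MorphismProperty.of_isPullback (P := @IsOpenImmersion)
      (GrpSchLib.HomSplitLocal.isPullback_baseMap X (V s').ι π).flip inferInstance
  refine ⟨?_, ⟨fun q => ?_⟩⟩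
  · refine IsZariskiLocalAtSource.of_iSup_eq_top (P := @Flat)
      (fun s' => haveI := hopen H s'; (GrpSchLib.HomSplitLocal.baseMap H (V s').ι π).opensRange)
      (eq_top_iff.mpr fun x _ => TopologicalSpace.Opens.mem_iSup.mpr (hcover x)) fun s' => ?_
    haveI := hopen H s'
    haveI := hopen (obj f) s'
    let bm := GrpSchLib.HomSplitLocal.baseMap H (V s').ι π
    rw [← MorphismProperty.cancel_left_of_respectsIso @Flat bm.isoOpensRange.hom, ← Category.assoc,
      bm.isoOpensRange_hom_ι, (hsq s').w]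
    haveI := (hff s').1
    infer_instance
  · have h := GrpSchLib.HomSplitLocal.isPullback_baseMap (obj f) (V (pullback.snd (obj f).hom π q)).ι π
    obtain ⟨z, hz, -⟩ := Scheme.Pullback.exists_preimage_pullback (f := pullback.snd (obj f).hom π)
      (g := (V (pullback.snd (obj f).hom π q)).ι) q (⟨_, hV (pullback.snd (obj f).hom π q)⟩ :
      (V (pullback.snd (obj f).hom π q) : Scheme.{u})) rfl
    obtain ⟨w, hw⟩ := (hff (pullback.snd (obj f).hom π q)).2.1 (h.isoPullback.inv z)
    refine ⟨GrpSchLib.HomSplitLocal.baseMap H _ π w, ?_⟩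
    exact ((congrArg (fun m => m w) (hsq (pullback.snd (obj f).hom π q)).w).trans
      (congrArg (GrpSchLib.HomSplitLocal.baseMap (obj f) (V (pullback.snd (obj f).hom π q)).ι π) hw)).trans
      ((congrArg (fun m => m z) h.isoPullback_inv_fst).trans hz)

theorem flat_surjective_toObj : Flat (toObj f).left ∧ Surjective (toObj f).left := by
  obtain ⟨h1, h2⟩ := ff_toObj f π hcov hloc
  have hsq := GrpSchLib.HomSplitLocal.isPullback_map (toObj f) (𝟙 S)
  haveI := h1
  haveI := h2
  haveI : IsIso (pullback.fst H.hom (𝟙 S)) := inferInstance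
  haveI : IsIso (pullback.fst (obj f).hom (𝟙 S)) := inferInstance
  rw [show (toObj f).left = inv (pullback.fst H.hom (𝟙 S)) ≫ ((Over.pullback (𝟙 S)).map (toObj f)).left ≫
    pullback.fst (obj f).hom (𝟙 S) by rw [← hsq.w, IsIso.inv_hom_id_assoc]]
  exact ⟨inferInstance, inferInstance⟩

/-- The image is a subgroup, its formation commutes with flat base change, and the map onto it is faithfully flat. -/
theorem exists_image :
    ∃ (Q : Over S) (_ : GrpObj Q) (i : Q ⟶ G) (_ : IsMonHom i) (p : H ⟶ Q) (_ : IsMonHom p),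
      IsClosedImmersion i.left ∧ Flat p.left ∧ Surjective p.left ∧ p ≫ i = f ∧
        ∀ (T : Scheme.{u}) (t : T ⟶ S), Flat t → ∀ F : Fact f t,
          Nonempty (Grp.mk (Red.bc t Q) ≅ Grp.mk F.Q) := by
  obtain ⟨str, hi, hp⟩ := exists_grp f π hcov hloc
  obtain ⟨h1, h2⟩ := flat_surjective_toObj f π hcov hloc
  letI := str
  refine ⟨obj f, str, incl f, hi, toObj f, hp, inferInstanceAs (IsClosedImmersion f.left.imageι), h1, h2, toObj_incl f,
    fun T t ht F => ?_⟩
  haveI := hi
  obtain ⟨a, ha, b, hb, -⟩ := compare f t F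
  haveI := F.closed
  let it : Red.bc t (obj f) ⟶ Red.bc t G := (Over.pullback t).map (incl f)
  haveI : IsMonHom it := inferInstanceAs (IsMonHom ((Over.pullback t).map (incl f)))
  haveI : IsClosedImmersion it.left :=
    MorphismProperty.of_isPullback (P := @IsClosedImmersion) (GrpSchLib.HomSplitLocal.isPullback_map (incl f) t)
      (inferInstanceAs (IsClosedImmersion f.left.imageι))
  haveI : Mono F.j := Over.mono_of_mono_left _
  haveI : Mono it := Over.mono_of_mono_left _
  haveI : IsMonHom b :=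
    { one_hom := by rw [← cancel_mono F.j, Category.assoc, hb, IsMonHom.one_hom it, IsMonHom.one_hom F.j]
      mul_hom := by
        rw [← cancel_mono F.j, Category.assoc, hb, IsMonHom.mul_hom it, Category.assoc, IsMonHom.mul_hom F.j,
          MonoidalCategory.tensorHom_comp_tensorHom_assoc, hb] }
  exact ⟨Grp.mkIso' ⟨b, a, by rw [← cancel_mono it, Category.assoc, ha, hb, Category.id_comp],
    by rw [← cancel_mono F.j, Category.assoc, hb, ha, Category.id_comp]⟩⟩

omit hcov hloc [Flat π] [Surjective π] [IsMonHom f] [GrpObj H] [GrpObj G] in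
/-- Uniqueness of such a factorisation. -/
theorem unique {Q₁ Q₂ : Over S} (j₁ : Q₁ ⟶ G) (j₂ : Q₂ ⟶ G) (p₁ : H ⟶ Q₁) (p₂ : H ⟶ Q₂)
    [IsClosedImmersion j₁.left] [IsClosedImmersion j₂.left] [Flat p₁.left] [Surjective p₁.left] [Flat p₂.left]
    [Surjective p₂.left] (e₁ : p₁ ≫ j₁ = f) (e₂ : p₂ ≫ j₂ = f) :
    ∃ e : Q₁ ≅ Q₂, e.hom ≫ j₂ = j₁ ∧ p₁ ≫ e.hom = p₂ := by
  obtain ⟨a, ha, ha'⟩ := exists_hom p₁ j₁ p₂ j₂ (e₁.trans e₂.symm)
  obtain ⟨b, hb, -⟩ := exists_hom p₂ j₂ p₁ j₁ (e₂.trans e₁.symm)
  haveI : Mono j₁ := Over.mono_of_mono_left _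
  haveI : Mono j₂ := Over.mono_of_mono_left _
  exact ⟨⟨a, b, by rw [← cancel_mono j₁, Category.assoc, hb, ha, Category.id_comp],
    by rw [← cancel_mono j₂, Category.assoc, ha, hb, Category.id_comp]⟩, ha, ha'⟩

end Groth.Agent.SgaFix20.Image
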