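import Groth.Agent.SgaFix20.DSMap
import Groth.Agent.GrpSchLib.HomKernelIdeal
import Groth.Agent.GrpSchLib.DiagSubgroupTrivial

/-!
# The fibrewise kernel of a homomorphism out of a diagonalisable group

For `f : D(Γ) ⟶ G` and a field-valued point the kernel is `D(Γ/Λ)` with `Λ` finitely generated, and containment of
`D(Γ/Λ)` in the kernel spreads to a neighbourhood.
-/

universe u

open CategoryTheory CategoryTheory.Limits MonoidalCategory CartesianMonoidalCategory MonObj AlgebraicGeometry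

set_option backward.isDefEq.respectTransparency false
set_option linter.style.haveILetI false

namespace Groth.Agent.SgaFix20

open DSPtsLib (CoordM pt)
open GrpSchLib.SubgroupFactor (pull pull_single)
open GrpSchLib.HomMonoLocus (pt_injective pt_one charOf charOf_single evalChar_charOf)
open GrpSchLib.DiagActionRigid (univPt univPt_single coord_ext)
open GrpSchLib (HomKernelIdeal.evalChar HomKernelIdeal.str)

variable {S : Scheme.{u}}

/-- Over `g` the kernel of `a` is contained in the kernel of `b`. -/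
def KerLe {X A B : Over S} [GrpObj A] [GrpObj B] (a : X ⟶ A) (b : X ⟶ B) {T : Scheme.{u}} (g : T ⟶ S) : Prop :=
  ∀ (Y : Over S) (_ : Y ⟶ Over.mk g) (k : Y ⟶ X), k ≫ a = 1 → k ≫ b = 1

namespace KerLe

variable {X A B : Over S} [GrpObj A] [GrpObj B] {a : X ⟶ A} {b : X ⟶ B}

theorem comp {T T' : Scheme.{u}} {g : T ⟶ S} (h : KerLe a b g) (l : T' ⟶ T) : KerLe a b (l ≫ g) :=
  fun Y q k hk => h Y (q ≫ Over.homMk l rfl) k hk

theorem of_le {T T' : Scheme.{u}} {g : T ⟶ S} (h : KerLe a b g) {g' : T' ⟶ S} (l : T' ⟶ T) (hl : l ≫ g = g') :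
    KerLe a b g' := hl ▸ h.comp l

theorem mono {W W' : S.Opens} (h : KerLe a b W.ι) (hle : W' ≤ W) : KerLe a b W'.ι :=
  h.of_le (S.homOfLE hle) (S.homOfLE_ι hle)

theorem of_range {T : Scheme.{u}} {g : T ⟶ S} [IsOpenImmersion g] (h : KerLe a b g) : KerLe a b g.opensRange.ι :=
  h.of_le (IsOpenImmersion.lift g g.opensRange.ι (by rw [Scheme.Opens.range_ι]; exact subset_rfl))
    (IsOpenImmersion.lift_fac _ _ _)

theorem glue {W : Set S.Opens} (h : ∀ V ∈ W, KerLe a b V.ι) : KerLe a b (sSup W).ι := by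
  intro Y q k hk
  refine Over.OverMorphism.ext (Scheme.hom_ext_of_forall _ _ fun y => ?_)
  let r : Y.left ⟶ S := q.left ≫ (sSup W).ι
  have hr0 : r = Y.hom := Over.w q
  obtain ⟨V, hV, hyV⟩ : ∃ V : S.Opens, V ∈ W ∧ r y ∈ V :=
    TopologicalSpace.Opens.mem_sSup.mp (show r y ∈ sSup W from (q.left y).2)
  refine ⟨r ⁻¹ᵁ V, hyV, ?_⟩
  let P : Y.left.Opens := r ⁻¹ᵁ V
  let iY : Over.mk (P.ι ≫ Y.hom) ⟶ Y := Over.homMk P.ι rfl
  let l : (P : Scheme.{u}) ⟶ (V : Scheme.{u}) := r ∣_ V
  have hl : l ≫ V.ι = P.ι ≫ Y.hom := by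
    rw [← hr0]; exact morphismRestrict_ι _ _
  have h1 := h V hV (Over.mk (P.ι ≫ Y.hom)) (Over.homMk l hl) (iY ≫ k) (by rw [Category.assoc, hk, MonObj.comp_one])
  rw [Category.assoc, ← MonObj.comp_one iY] at h1
  exact congrArg (fun m => Over.Hom.left m) h1

end KerLe

variable {Γ : Type} [AddCommGroup Γ]

theorem kerLe_of_affine {A B : Over S} [GrpObj A] [GrpObj B] {a : Red.DS S Γ ⟶ A} {b : Red.DS S Γ ⟶ B}
    {R : Type u} [CommRing R] {g : Spec (CommRingCat.of R) ⟶ S}
    (h : ∀ (C : Type u) [CommRing C] [Algebra R C] (c : CoordM.{u} Γ →+* C),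
      pt (HomKernelIdeal.str g C) c ≫ a = 1 → pt (HomKernelIdeal.str g C) c ≫ b = 1) :
    KerLe a b g := by
  intro Y q k hk
  refine Over.OverMorphism.ext (Scheme.Cover.hom_ext Y.left.affineCover _ _ fun i => ?_)
  obtain ⟨C, hC⟩ : ∃ C : CommRingCat.{u}, Y.left.affineCover.X i = Spec C := ⟨_, rfl⟩
  obtain ⟨io, hio⟩ : ∃ io : Spec C ⟶ Y.left, Y.left.affineCover.f i = eqToHom hC ≫ io :=
    ⟨eqToHom hC.symm ≫ Y.left.affineCover.f i, by simp⟩
  rw [hio, Category.assoc, Category.assoc]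
  congr 1
  obtain ⟨ψ, hψ⟩ : ∃ ψ, Spec.map ψ = io ≫ q.left := ⟨_, Spec.map_preimage _⟩
  letI : Algebra R C := ψ.hom.toAlgebra
  let j : Spec (CommRingCat.of C) ⟶ S := HomKernelIdeal.str g C
  let y : DSPtsLib.spU j ⟶ Y := Over.homMk io (by
    show io ≫ Y.hom = Spec.map (CommRingCat.ofHom ψ.hom) ≫ g
    rw [CommRingCat.ofHom_hom, hψ, Category.assoc, ← Over.w q]
    rfl)
  obtain ⟨c, hc⟩ := DSPtsLib.exists_eq_pt j (y ≫ k)
  have h1 := h C c (by rw [← hc, Category.assoc, hk, MonObj.comp_one])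
  rw [← hc, Category.assoc, ← MonObj.comp_one y] at h1
  exact congrArg (fun m => Over.Hom.left m) h1

/-- The restriction of characters to a subgroup. -/
noncomputable abbrev DSres (S : Scheme.{u}) (Λ : AddSubgroup Γ) : Red.DS S Γ ⟶ Red.DS S Λ :=
  Red.DSmap S Λ.subtype

theorem pt_res_eq_one_iff (Λ : AddSubgroup Γ) {B : Type u} [CommRing B] (j : Spec (CommRingCat.of B) ⟶ S)
    (c : CoordM.{u} Γ →+* B) :
    pt j c ≫ DSres S Λ = 1 ↔ ∀ x ∈ Λ, c (MonoidAlgebra.single (Multiplicative.ofAdd x) 1) = 1 := by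
  rw [DSres, pt_DSmap]
  let one : CoordM.{u} Λ →+* B := pull (0 : Λ →+ Γ) c
  have hone : ∀ m, one (MonoidAlgebra.single m 1) = 1 := fun m => by
    show pull (0 : Λ →+ Γ) c (MonoidAlgebra.single m 1) = 1
    rw [pull_single]
    exact map_one c
  constructor
  · intro h x hx
    have := congrFun (congrArg DFunLike.coe (pt_injective j (h.trans (pt_one j one hone).symm)))
      (MonoidAlgebra.single (Multiplicative.ofAdd (⟨x, hx⟩ : Λ)) 1)
    rw [pull_single, hone] at this
    exact this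
  · intro h
    refine pt_one j _ fun m => ?_
    rw [pull_single]
    exact h _ (Multiplicative.toAdd m).2

/-- A character trivial on a subgroup comes from the quotient. -/
theorem exists_pull_mk' (Λ : AddSubgroup Γ) {B : Type u} [CommRing B] (c : CoordM.{u} Γ →+* B)
    (h : ∀ x ∈ Λ, c (MonoidAlgebra.single (Multiplicative.ofAdd x) 1) = 1) :
    ∃ c' : CoordM.{u} (Γ ⧸ Λ) →+* B, c = pull (QuotientAddGroup.mk' Λ) c' := by
  let m₀ : Γ →+ Additive B :=
    { toFun := fun x => Additive.ofMul (c (MonoidAlgebra.single (Multiplicative.ofAdd x) 1))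
      map_zero' := congrArg Additive.ofMul (map_one c)
      map_add' := fun x y => by
        rw [← ofMul_mul, ← map_mul, MonoidAlgebra.single_mul_single, _root_.mul_one]
        rfl }
  let m₁ : Multiplicative (Γ ⧸ Λ) →* B :=
    AddMonoidHom.toMultiplicativeLeft (QuotientAddGroup.lift Λ m₀ fun x hx => congrArg Additive.ofMul (h x hx))
  refine ⟨MonoidAlgebra.liftNCRingHom ((algebraMap ℤ B).comp ULift.ringEquiv.toRingHom) m₁ fun _ _ => Commute.all _ _,
    coord_ext fun m => ?_⟩
  rw [pull_single]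
  show _ = MonoidAlgebra.liftNCRingHom _ m₁ _ _
  rw [MonoidAlgebra.liftNCRingHom_single, map_one, _root_.one_mul]
  rfl

variable {G : Over S} [GrpObj G] [IsSeparated G.hom]

/-- Containment of `D(Γ/Λ)` in the kernel spreads from a prime. -/
theorem exists_kerLe_away [LocallyOfFiniteType G.hom] (f : Red.DS S Γ ⟶ G) [IsMonHom f] (Λ : AddSubgroup Γ)
    {V : S.Opens} (hV : IsAffineOpen V) (p : Ideal Γ(S, V)) [p.IsPrime]
    (hp : KerLe (DSres S Λ) f (Spec.map (CommRingCat.ofHom (algebraMap Γ(S, V) p.ResidueField)) ≫ hV.fromSpec)) :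
    ∃ d ∉ p, KerLe (DSres S Λ) f
      (Spec.map (CommRingCat.ofHom (algebraMap Γ(S, V) (Localization.Away d))) ≫ hV.fromSpec) := by
  haveI : IsMonHom (Red.DSmap S (QuotientAddGroup.mk' Λ)) := S5427.isMonHom_DSmap S _
  let v : Red.DS S (Γ ⧸ Λ) ⟶ G := Red.DSmap S (QuotientAddGroup.mk' Λ) ≫ f
  haveI : IsMonHom v := inferInstanceAs (IsMonHom (_ ≫ f))
  obtain ⟨K, k, hkc, hkfp, hk⟩ := GrpSchLib.HomKernelIdeal.exists_kernel v
  haveI := hkfp (Or.inr ‹_›)
  obtain ⟨I, hIfg, hI⟩ := GrpSchLib.HomKernelIdeal.exists_ideal hV.fromSpec v k hk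
  have hv : ∀ {B : Type u} [CommRing B] (j : Spec (CommRingCat.of B) ⟶ S) (c' : CoordM.{u} (Γ ⧸ Λ) →+* B),
      pt j c' ≫ v = pt j (pull (QuotientAddGroup.mk' Λ) c') ≫ f := fun j c' => by
    show pt j c' ≫ Red.DSmap S _ ≫ f = _
    rw [← Category.assoc, pt_DSmap]
  let κ := p.ResidueField
  let A := MonoidAlgebra κ (Multiplicative (Γ ⧸ Λ))
  have h0 := GrpSchLib.HomKernelIdeal.content_eq_zero hV.fromSpec v hI (T := κ) (by
    rw [hv]
    refine hp _ (Over.homMk (Spec.map (CommRingCat.ofHom (algebraMap κ A))) ?_) _ ?_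
    · show _ ≫ Spec.map _ ≫ hV.fromSpec = Spec.map _ ≫ hV.fromSpec
      rw [← Spec.map_comp_assoc, ← CommRingCat.ofHom_comp, ← IsScalarTower.algebraMap_eq]
    · refine (pt_res_eq_one_iff Λ _ _).mpr fun x hx => ?_
      rw [pull_single, univPt_single]
      show MonoidAlgebra.single (Multiplicative.ofAdd (QuotientAddGroup.mk' Λ x)) (1 : κ) = 1
      rw [show QuotientAddGroup.mk' Λ x = 0 from (QuotientAddGroup.eq_zero_iff x).mpr hx]
      rfl)
  have hβ : ∀ r, hV.fromSpec r ∈ V := fun r => by rw [← SetLike.mem_coe, ← hV.range_fromSpec]; exact ⟨r, rfl⟩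
  obtain ⟨d, hd, hd'⟩ := GrpSchLib.HomKernelIdeal.exists_notMem_mul_content hV.fromSpec v hI hV hβ
    (GrpSchLib.HomKernelIdeal.content_fg (hIfg inferInstance)) (p := p)
    (fun r hr => Ideal.algebraMap_residueField_eq_zero.mp (h0 r hr))
  refine ⟨d, hd, kerLe_of_affine fun C _ _ c hc => ?_⟩
  letI : Algebra Γ(S, V) C :=
    ((algebraMap (Localization.Away d) C).comp (algebraMap Γ(S, V) (Localization.Away d))).toAlgebra
  have hj : HomKernelIdeal.str
      (Spec.map (CommRingCat.ofHom (algebraMap Γ(S, V) (Localization.Away d))) ≫ hV.fromSpec) C =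
      HomKernelIdeal.str hV.fromSpec C := by
    show Spec.map _ ≫ Spec.map _ ≫ hV.fromSpec = Spec.map _ ≫ hV.fromSpec
    rw [← Spec.map_comp_assoc, ← CommRingCat.ofHom_comp]
    rfl
  rw [hj] at hc ⊢
  obtain ⟨c', rfl⟩ := exists_pull_mk' Λ c ((pt_res_eq_one_iff Λ _ c).mp hc)
  rw [← hv]
  refine GrpSchLib.HomKernelIdeal.eq_one_of_content hV.fromSpec v hI (fun r hr => ?_) c'
  show algebraMap (Localization.Away d) C (algebraMap Γ(S, V) (Localization.Away d) r) = 0
  have h := congrArg (algebraMap Γ(S, V) (Localization.Away d)) (hd' r hr)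
  rw [map_mul, map_zero] at h
  rw [(IsLocalization.Away.algebraMap_isUnit (S := Localization.Away d) d).mul_right_eq_zero.mp h, map_zero]

/-- Over a field the kernel is `D(Γ/Λ)` for a finitely generated `Λ`. -/
theorem exists_kernel_field [LocallyOfFiniteType G.hom] (f : Red.DS S Γ ⟶ G) [IsMonHom f] {K : Type u} [Field K]
    (g : Spec (CommRingCat.of K) ⟶ S) :
    ∃ Λ : AddSubgroup Γ, Λ.FG ∧ KerLe (DSres S Λ) f g ∧ KerLe f (DSres S Λ) g := by
  classical
  obtain ⟨K₀, k, hkc, hkfp, hk⟩ := GrpSchLib.HomKernelIdeal.exists_kernel f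
  haveI := hkfp (Or.inr ‹_›)
  obtain ⟨I, hIfg, hI⟩ := GrpSchLib.HomKernelIdeal.exists_ideal g f k hk
  obtain ⟨T, hT⟩ := hIfg inferInstance
  have hI' : ∀ (C : Type u) [CommRing C] [Algebra K C] (h : Multiplicative Γ →* C),
      pt (HomKernelIdeal.str g C) (charOf (R := K) h) ≫ f = 1 ↔
        I ≤ RingHom.ker (MonoidAlgebra.lift K C (Multiplicative Γ) h) := fun C _ _ h => by
    rw [hI, evalChar_charOf]
  have hsub : GrpSchLib.DiagSubgroupTrivial.IsSubgroup I := by
    refine ⟨(hI' K 1).mp ?_, fun C _ _ a b h hh ha hb => (hI' C h).mp ?_⟩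
    · rw [pt_one _ _ (fun m => by rw [charOf_single]; rfl), MonObj.one_comp]
    · rw [← DSPtsLib.pt_mul _ (charOf (R := K) a) (charOf (R := K) b) _ (fun m => by
        rw [charOf_single, charOf_single, charOf_single]; exact hh m), MonObj.mul_comp, (hI' C a).mpr ha,
        (hI' C b).mpr hb, _root_.one_mul]
  obtain ⟨B, iB, iR, iT, iST, γ, hγI, hγ1, ⟨ε, hε⟩, Δ, hΔ⟩ := GrpSchLib.DiagSubgroupTrivial.exists_generic hsub K
  obtain rfl : iT = iR := Algebra.algebra_ext _ _ fun r => (@IsScalarTower.algebraMap_apply K K B _ _ _ _ iT iR iST r).symm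
  have hid : GrpSchLib.DiagSubgroupTrivial.chg (R := K) (M := Γ) K = RingHom.id _ := by
    refine MonoidAlgebra.ringHom_ext (fun r => ?_) (fun m => ?_)
    all_goals simp [MonoidAlgebra.mapRingHom_single]
  let Λ : AddSubgroup Γ :=
    { carrier := {x | γ (Multiplicative.ofAdd x) = 1}
      zero_mem' := map_one γ
      add_mem' := fun {x y} hx hy => by
        show γ (Multiplicative.ofAdd x * Multiplicative.ofAdd y) = 1
        rw [map_mul, show γ _ = 1 from hx, show γ _ = 1 from hy, _root_.one_mul]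
      neg_mem' := fun {x} hx => by
        show γ (Multiplicative.ofAdd (-x)) = 1
        have h : γ (Multiplicative.ofAdd x * Multiplicative.ofAdd (-x)) = 1 := by
          rw [← ofAdd_add, add_neg_cancel]; exact map_one γ
        rwa [map_mul, show γ _ = 1 from hx, _root_.one_mul] at h }
  have hmem : ∀ m : Multiplicative Γ, Multiplicative.toAdd m ∈ Λ → MonoidAlgebra.single m 1 - 1 ∈ I := fun m hm => by
    have h := hγ1 m hm
    rwa [hid, Ideal.map_id] at h
  -- the image of a relation in the group algebra of the quotient vanishes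
  let q := AddMonoidHom.toMultiplicative (QuotientAddGroup.mk' Λ)
  let γq : Multiplicative (Γ ⧸ Λ) →* B :=
    AddMonoidHom.toMultiplicativeLeft (QuotientAddGroup.lift Λ
      (MonoidHom.toAdditiveRight γ) fun x hx => congrArg Additive.ofMul (show γ _ = 1 from hx))
  have hγq : ∀ x : Γ, γq (Multiplicative.ofAdd (QuotientAddGroup.mk' Λ x)) = γ (Multiplicative.ofAdd x) := fun x => rfl
  haveI : Nontrivial B := ε.toRingHom.domain_nontrivial
  have hunit : ∀ m, IsUnit (γq m) := fun m => (Group.isUnit m).map γq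
  have hinj : Function.Injective γq := (injective_iff_map_eq_one γq).mpr fun m hm => by
    obtain ⟨x, rfl⟩ : ∃ x, Multiplicative.ofAdd (QuotientAddGroup.mk' Λ x) = m :=
      ⟨_, congrArg Multiplicative.ofAdd (QuotientAddGroup.mk'_surjective Λ _).choose_spec⟩
    rw [hγq] at hm
    rw [show QuotientAddGroup.mk' Λ x = 0 from (QuotientAddGroup.eq_zero_iff x).mpr hm]
    rfl
  have hΔq : ∀ m, Δ (γq m) = γq m ⊗ₜ[K] γq m := fun m => by
    obtain ⟨x, rfl⟩ : ∃ x, Multiplicative.ofAdd (QuotientAddGroup.mk' Λ x) = m :=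
      ⟨_, congrArg Multiplicative.ofAdd (QuotientAddGroup.mk'_surjective Λ _).choose_spec⟩
    rw [hγq]
    exact hΔ _
  have hind : LinearIndependent K γq := by
    rw [linearIndependent_iff']
    intro s c hc i hi
    have h := GrpSchLib.DiagSubgroupTrivial.linearIndepOn_of_comul Δ.toLinearMap (s.image γq)
      (fun x hx => by obtain ⟨m, -, rfl⟩ := Finset.mem_image.mp hx; exact hΔq m)
      (fun x hx => by obtain ⟨m, -, rfl⟩ := Finset.mem_image.mp hx; exact hunit m) inferInstance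
    rw [linearIndepOn_finset_iff] at h
    have h2 := h (fun x => c (Function.invFun γq x)) (by
      rw [Finset.sum_image fun a _ b _ e => hinj e]
      simp only [id_eq, Function.leftInverse_invFun hinj _]
      exact hc) (γq i) (Finset.mem_image_of_mem _ hi)
    simpa [Function.leftInverse_invFun hinj i] using h2
  have hzero : ∀ a ∈ I, MonoidAlgebra.mapDomain q a = 0 := fun a ha => by
    have h : MonoidAlgebra.lift K B (Multiplicative (Γ ⧸ Λ)) γq (MonoidAlgebra.mapDomain q a) = 0 := by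
      have e : (MonoidAlgebra.lift K B (Multiplicative (Γ ⧸ Λ)) γq).comp (MonoidAlgebra.mapDomainAlgHom K K q) =
          MonoidAlgebra.lift K B (Multiplicative Γ) γ :=
        MonoidAlgebra.algHom_ext (fun m => by simp; exact hγq _) (Subsingleton.elim _ _)
      exact (AlgHom.congr_fun e a).trans (RingHom.mem_ker.mp (hγI ha))
    rw [MonoidAlgebra.lift_apply] at h
    exact MonoidAlgebra.coeff_injective (linearIndependent_iff.mp hind _ h)
  have hle : ∀ (C : Type u) [CommRing C] [Algebra K C] (c : CoordM.{u} Γ →+* C),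
      pt (HomKernelIdeal.str g C) c ≫ DSres S Λ = 1 → pt (HomKernelIdeal.str g C) c ≫ f = 1 := by
    intro C _ _ c hc
    obtain ⟨c', rfl⟩ := exists_pull_mk' Λ c ((pt_res_eq_one_iff Λ _ c).mp hc)
    refine (hI C _).mpr fun a ha => ?_
    have e : (HomKernelIdeal.evalChar (R := K) c').comp (MonoidAlgebra.mapDomainAlgHom K K q) =
        HomKernelIdeal.evalChar (R := K) (pull (QuotientAddGroup.mk' Λ) c') :=
      MonoidAlgebra.algHom_ext (fun m => by
        rw [AlgHom.comp_apply, GrpSchLib.HomKernelIdeal.evalChar_single, pull_single]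
        simp [GrpSchLib.HomKernelIdeal.evalChar_single, q]) (Subsingleton.elim _ _)
    rw [RingHom.mem_ker, ← e]
    show HomKernelIdeal.evalChar (R := K) c' (MonoidAlgebra.mapDomain q a) = 0
    rw [hzero a ha, map_zero]
  refine ⟨Λ, ?_, kerLe_of_affine hle, kerLe_of_affine fun C _ _ c hc => (pt_res_eq_one_iff Λ _ c).mpr fun x hx => ?_⟩
  · let P : AddSubgroup Γ := AddSubgroup.closure
      ((T.biUnion fun a => a.coeff.support.image Multiplicative.toAdd : Finset Γ) : Set Γ)
    let Λ₀ := Λ ⊓ P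
    have hfg : Λ₀.FG := by
      haveI : AddGroup.FG P := AddGroup.fg_iff_addSubgroup_fg _ |>.mpr ⟨_, rfl⟩
      haveI : Module.Finite ℤ P := Module.Finite.iff_addGroup_fg.mpr inferInstance
      have h := IsNoetherian.noetherian ((AddSubgroup.toIntSubmodule (Λ₀.addSubgroupOf P)))
      rw [Submodule.fg_iff_addSubgroup_fg, AddSubgroup.toIntSubmodule_toAddSubgroup] at h
      obtain ⟨G₀, hG₀⟩ := h
      refine ⟨G₀.image P.subtype, ?_⟩
      rw [Finset.coe_image, ← AddMonoidHom.map_closure, hG₀, AddSubgroup.map_addSubgroupOf_eq_of_le inf_le_right]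
    suffices hle' : Λ ≤ Λ₀ by rwa [le_antisymm hle' inf_le_left]
    let q₀ := AddMonoidHom.toMultiplicative (QuotientAddGroup.mk' Λ₀)
    have h0 : I ≤ RingHom.ker (MonoidAlgebra.mapDomainRingHom K q₀) := by
      rw [← hT, Ideal.span_le]
      intro a ha
      have hP : ∀ n ∈ a.coeff.support, Multiplicative.toAdd n ∈ P := fun n hn =>
        AddSubgroup.subset_closure (Finset.mem_coe.mpr (Finset.mem_biUnion.mpr
          ⟨a, ha, Finset.mem_image_of_mem _ hn⟩))
      have hz := hzero a (hT ▸ Ideal.subset_span ha)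
      let red : Multiplicative (Γ ⧸ Λ₀) →* Multiplicative (Γ ⧸ Λ) :=
        AddMonoidHom.toMultiplicative (QuotientAddGroup.map Λ₀ Λ (AddMonoidHom.id Γ) fun x hx => hx.1)
      have hcomp : ⇑q = ⇑red ∘ ⇑q₀ := rfl
      have hz' : Finsupp.mapDomain red (Finsupp.mapDomain q₀ a.coeff) = 0 := by
        rw [← Finsupp.mapDomain_comp, ← hcomp, ← MonoidAlgebra.coeff_mapDomain, hz, MonoidAlgebra.coeff_zero]
      let s : Set (Multiplicative (Γ ⧸ Λ₀)) := q₀ '' {n | Multiplicative.toAdd n ∈ P}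
      have hinjOn : Set.InjOn red s := by
        rintro _ ⟨x, hx, rfl⟩ _ ⟨y, hy, rfl⟩ e
        refine congrArg Multiplicative.ofAdd (QuotientAddGroup.eq.mpr ⟨?_, ?_⟩)
        · exact QuotientAddGroup.eq.mp (congrArg Multiplicative.toAdd e)
        · exact P.add_mem (P.neg_mem hx) hy
      have hsupp : ↑(Finsupp.mapDomain q₀ a.coeff).support ⊆ s := fun n hn => by
        obtain ⟨m, hm, rfl⟩ := Finset.mem_image.mp (Finsupp.mapDomain_support hn)
        exact ⟨m, hP m hm, rfl⟩
      refine RingHom.mem_ker.mpr (MonoidAlgebra.coeff_injective ?_)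
      rw [MonoidAlgebra.coeff_zero, MonoidAlgebra.mapDomainRingHom_apply, MonoidAlgebra.coeff_mapDomain]
      exact Finsupp.mapDomain_injOn s hinjOn hsupp (by simp) (hz'.trans Finsupp.mapDomain_zero.symm)
    intro x hx
    have h := h0 (hmem (Multiplicative.ofAdd x) hx)
    rw [RingHom.mem_ker, map_sub, map_one, sub_eq_zero, MonoidAlgebra.mapDomainRingHom_apply,
      MonoidAlgebra.mapDomain_single, MonoidAlgebra.one_def] at h
    have h2 := MonoidAlgebra.single_left_injective (one_ne_zero (α := K)) h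
    exact (QuotientAddGroup.eq_zero_iff x).mp (congrArg Multiplicative.toAdd h2)
  · have h := (hI C c).mp hc (hmem (Multiplicative.ofAdd x) hx)
    rw [RingHom.mem_ker, map_sub, map_one, GrpSchLib.HomKernelIdeal.evalChar_single, sub_eq_zero] at h
    exact h

end Groth.Agent.SgaFix20
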