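import Groth.Agent.GrpSchLib.MultTypeBC

/-!
# Multiplicative type is local on the base
-/

universe u

open CategoryTheory CategoryTheory.Limits MonoidalCategory CartesianMonoidalCategory MonObj AlgebraicGeometry

set_option backward.isDefEq.respectTransparency false
set_option linter.style.haveILetI false

noncomputable section

namespace Groth.Agent.SgaFix20

variable {S : Scheme.{u}}

/-- A group which is of multiplicative type and finite type near every point is so globally. -/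
theorem isMultTypeFT_of_local {H : Over S} [GrpObj H]
    (h : ∀ s : S, ∃ W : S.Opens, s ∈ W ∧ SGA3x.IsMultTypeFT (Red.bc W.ι H)) : SGA3x.IsMultTypeFT H := by
  classical
  choose W hsW S₀ f₀ hflat hsurj hqc hloc using h
  let F : S → Scheme.{u} := fun s => S₀ s
  let a : ∀ s, F s ⟶ S := fun s => f₀ s ≫ (W s).ι
  let f : ∐ F ⟶ S := Sigma.desc a
  haveI hf : Flat f := IsZariskiLocalAtSource.sigmaDesc fun s => by
    haveI := hflat s
    exact inferInstanceAs (Flat (f₀ s ≫ (W s).ι))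
  have hιf : ∀ s (x : F s), f.base ((Sigma.ι F s).base x) = (W s).ι.base ((f₀ s).base x) := fun s x => by
    rw [← Scheme.Hom.comp_apply, Sigma.ι_desc, Scheme.Hom.comp_apply]
  haveI : Surjective f := ⟨fun s => by
    obtain ⟨x, hx⟩ := (hsurj s).surj ⟨s, hsW s⟩
    exact ⟨(Sigma.ι F s).base x, by rw [hιf, hx]; rfl⟩⟩
  refine ⟨∐ F, f, inferInstance, inferInstance, fun V hV => ?_, fun s' => ?_⟩
  · have key : ∀ v : (V : Set S), ∃ P : (∐ F).Opens, IsCompact (P : Set ↥(∐ F)) ∧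
        ∃ A : S.Opens, (v : S) ∈ A ∧ A ≤ V ∧ f.base '' (P : Set ↥(∐ F)) = (A : Set S) := by
      rintro ⟨v, hv⟩
      obtain ⟨A, hA, hvA, hAV⟩ := exists_isAffineOpen_mem_and_subset
        (show v ∈ V ⊓ W v from ⟨hv, hsW v⟩)
      have hA' : IsAffineOpen ((W v).ι ⁻¹ᵁ A) := hA.preimage_of_isOpenImmersion (W v).ι
        (by rw [Scheme.Opens.opensRange_ι]; exact fun x hx => (hAV hx).2)
      obtain ⟨P, hP, hPA⟩ := hqc v _ hA'
      refine ⟨(Sigma.ι F v) ''ᵁ P, hP.image (Sigma.ι F v).continuous, A, hvA, fun x hx => (hAV hx).1, ?_⟩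
      show f.base '' ((Sigma.ι F v).base '' (P : Set ↥(F v))) = _
      rw [Set.image_image]
      ext x
      constructor
      · rintro ⟨p, hp, rfl⟩
        show f.base ((Sigma.ι F v).base p) ∈ (A : Set S)
        rw [hιf]
        exact hPA.le ⟨p, hp, rfl⟩
      · intro hx
        obtain ⟨p, hp, hpx⟩ := hPA.ge (show (⟨x, (hAV hx).2⟩ : (W v : Scheme.{u})) ∈ _ from hx)
        exact ⟨p, hp, (hιf v p).trans ((congrArg (W v).ι.base hpx).trans rfl)⟩
    choose P hP A hvA hAV himg using key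
    obtain ⟨t, ht⟩ := hV.isCompact.elim_finite_subcover (fun v => (A v : Set S)) (fun v => (A v).2)
      (fun v hv => Set.mem_iUnion.mpr ⟨⟨v, hv⟩, hvA _⟩)
    refine ⟨⨆ v ∈ t, P v, ?_, ?_⟩
    · simp only [TopologicalSpace.Opens.coe_iSup]
      exact t.isCompact_biUnion fun v _ => hP v
    · simp only [TopologicalSpace.Opens.coe_iSup, Set.image_iUnion, himg]
      exact Set.Subset.antisymm (Set.iUnion₂_subset fun v _ => hAV v) ht
  · obtain ⟨s, x, rfl⟩ : ∃ s x, (Sigma.ι F s).base x = s' := by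
      obtain ⟨i, x, hx⟩ := (sigmaOpenCover F).exists_eq s'
      exact ⟨i, x, hx⟩
    obtain ⟨U, hxU, M, iM, hM, ⟨e⟩⟩ := hloc s x
    refine ⟨(Sigma.ι F s) ''ᵁ U, ⟨x, hxU, rfl⟩, M, iM, hM, ?_⟩
    have hj : ((Sigma.ι F s) ''ᵁ U).ι ≫ f = ((Sigma.ι F s).isoImage U).inv ≫ (U.ι ≫ f₀ s) ≫ (W s).ι := by
      rw [← Scheme.Hom.isoImage_inv_ι (Sigma.ι F s) U]
      simp only [Category.assoc, Sigma.ι_desc, f, a]
    obtain ⟨e₁⟩ := GrpSchLib.MultTypeBC.bc_congr hj H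
    obtain ⟨e₂⟩ := GrpSchLib.MultTypeBC.bc_bc ((Sigma.ι F s).isoImage U).inv ((U.ι ≫ f₀ s) ≫ (W s).ι) H
    obtain ⟨e₃⟩ := GrpSchLib.MultTypeBC.bc_bc (U.ι ≫ f₀ s) (W s).ι H
    obtain ⟨e₄⟩ := GrpSchLib.MultTypeBC.bc_iso ((Sigma.ι F s).isoImage U).inv (e₃.symm ≪≫ e)
    obtain ⟨e₅⟩ := GrpSchLib.MultTypeBC.bc_DS ((Sigma.ι F s).isoImage U).inv M
    exact ⟨e₁ ≪≫ e₂.symm ≪≫ e₄ ≪≫ e₅⟩

end Groth.Agent.SgaFix20

end
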